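import Cfsg.Agent.Lib.M23Order.Interface
import Cfsg.Agent.Lib.M23Order.FactsLocal

/-!
# Simple groups of order 10200960: the facts from the pieces
-/

set_option autoImplicit false
set_option linter.style.haveILetI false

namespace CfsgLib.M23Order

open Cfsg CfsgLib.Chars

universe u

/-- An order with one class of known centralizer. -/
theorem cnt_of_class {G : Type u} [Group G] [Finite G] {n c : ℕ} {g : G} (hg : orderOf g = n)
    (hcen : Nat.card (cen g) = c) (hconj : ∀ h : G, orderOf h = n → IsConj g h) :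
    M23Nse.cnt G n * c = Nat.card G := by
  have he : M23Nse.cnt G n = Nat.card {y : G // IsConj g y} :=
    Nat.card_congr (Equiv.subtypeEquivRight fun y =>
      ⟨hconj y, fun h => (FactsOf.orderOf_eq_of_isConj h).trans hg⟩)
  rw [he, ← hcen]
  exact FactsOf.class_mul g

/-- The facts used for the identification, from the pieces. -/
theorem facts_of (hA : TwentyThreeStmt.{u}) (hB : ElevenStmt.{u}) (hC : TableStmt.{u})
    (hF0 : FiveBlockStmt.{u}) (hD : JointStmt.{u}) (hE : CentralStmt.{u}) (hF : DegreesStmt.{u}) (hG' : InvolStmt.{u})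
    (hH : SevenStmt.{u}) (hI : FiveStmt.{u}) (hJ : ThreeStmt.{u}) (hK : OrdersStmt.{u})
    (G : Type u) [Group G] [Finite G] (hs : IsSimpleGroup G) (hG : Nat.card G = 10200960) :
    M23Nse.Facts G := by
  have h23 := hA G hs hG
  have h11 := hB G hs hG h23
  obtain ⟨⟨T⟩, ⟨S⟩⟩ := hC G hs hG h23 h11
  obtain ⟨B⟩ := hF0 G hs hG h23 h11 T S
  obtain ⟨hT, hS⟩ := hD G hs hG h23 h11 T S B
  obtain ⟨hT', hS'⟩ := hE G hs hG h23 h11 T S hT hS
  obtain ⟨C⟩ := hF G hs hG h23 h11 T S hT' hS' B
  have h2 := hG' G hs hG h23 h11 C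
  have h7 := hH G hs hG h23 h11 C h2
  have h5 := hI G hs hG h23 h11 C h2 h7
  have h3 := hJ G hs hG h23 h11 C h2 h7 h5
  obtain ⟨hord, h6⟩ := hK G hs hG h23 h11 C h2 h7 h5 h3
  haveI := Fact.mk Nat.prime_two
  haveI := Fact.mk Nat.prime_three
  obtain ⟨t, ht⟩ := exists_prime_orderOf_dvd_card' (G := G) 2 (by rw [hG]; norm_num)
  obtain ⟨z, hz⟩ := exists_prime_orderOf_dvd_card' (G := G) 3 (by rw [hG]; norm_num)
  have e2 := cnt_of_class ht (h2.cent t ht) fun s hs' => h2.conj t s ht hs'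
  have e3 := cnt_of_class hz (h3.cent z hz) fun s hs' => h3.conj z s hz hs'
  rw [hG] at e2 e3
  exact facts G ⟨hG, hord, by omega, by omega, h6, h5.cent, h5.norm, h7.cent, h7.norm, h11.cent,
    h23.cent, h23.norm⟩

end CfsgLib.M23Order
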