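import Cfsg.Agent.Lib.M23Order.CentralScan
import Cfsg.Agent.Lib.CharApps.PrimeClassBound
import Cfsg.Agent.Lib.CharApps.InertialThreeInvolution
import Cfsg.Agent.Lib.CharApps.ClassCount
import Cfsg.Agent.Lib.CharApps.Codegree
import Cfsg.Agent.Lib.Small.Order7920Tools

/-!
# Simple groups of order 10200960: a central involution (piece E)

The values at a central involution of the blocks at 11 and 23: the relations, the two sums of
squares, the absence of involutions inverting elements of order 11 or 23 and the two orthogonality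
relations leave four lists at 23 and one at 11.
-/

set_option autoImplicit false
set_option linter.style.haveILetI false
set_option linter.unusedSectionVars false

open Cfsg CfsgLib.Chars CfsgLib.CharApps CfsgLib.Small

namespace CfsgLib.M23Order

universe u

namespace CentralProof

open CentralCheck

variable {G : Type u} [Group G] [Finite G]

theorem not_dvd_cen {p c n : ℕ} [hp : Fact p.Prime] (h : Local G p c n) (hc : ¬ 2 ∣ c) {t : G}
    (ht : orderOf t = 2) : ¬ p ∣ Nat.card (cen t) := by
  intro hdvd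
  obtain ⟨⟨x, hxC⟩, hxo⟩ := exists_prime_orderOf_dvd_card' (G := cen t) p hdvd
  rw [Subgroup.orderOf_mk] at hxo
  have htC : t ∈ cen x :=
    Subgroup.mem_centralizer_singleton_iff.2 (Subgroup.mem_centralizer_singleton_iff.1 hxC).symm
  have := Subgroup.orderOf_dvd_natCard _ htC
  rw [ht, h.cent x hxo] at this
  exact hc this

theorem not_inverted {p c n : ℕ} [hp : Fact p.Prime] (h : Local G p c n) (hn : ¬ 2 ∣ n)
    (hfac : (Nat.card G).factorization p = 1) {x u : G} (hx : orderOf x = p) (hu : u * u = 1)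
    (hux : u * x * u⁻¹ = x⁻¹) : u = 1 := by
  let P : Sylow p G := Sylow.ofCard (Subgroup.zpowers x) (by
    rw [Nat.card_zpowers, hx, hfac, pow_one])
  have hN := h.norm P
  have hPz : (P : Subgroup G) = Subgroup.zpowers x := Sylow.coe_ofCard _ _
  rw [hPz] at hN
  have hmap : ∀ y ∈ Subgroup.zpowers x, u * y * u⁻¹ ∈ Subgroup.zpowers x := fun y hy => by
    obtain ⟨k, rfl⟩ := Subgroup.mem_zpowers_iff.1 hy
    rw [← conj_zpow, hux]
    exact Subgroup.zpow_mem _ (Subgroup.inv_mem _ (Subgroup.mem_zpowers x)) k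
  have hmem : u ∈ Subgroup.normalizer ((Subgroup.zpowers x : Subgroup G) : Set G) := by
    rw [Subgroup.mem_normalizer_iff]
    refine fun y => ⟨hmap y, fun hy => ?_⟩
    have h := hmap _ hy
    rw [inv_eq_of_mul_eq_one_left hu] at h
    simpa [mul_assoc, hu, ← mul_assoc u u] using h
  have h1 := Subgroup.orderOf_dvd_natCard _ hmem
  rw [hN] at h1
  rcases (Nat.dvd_prime Nat.prime_two).1 (orderOf_dvd_of_pow_eq_one (by rw [sq, hu]) : orderOf u ∣ 2)
    with h2 | h2
  · exact orderOf_eq_one_iff.1 h2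
  · exact absurd (h2 ▸ h1) hn

theorem pairs_empty {p c n : ℕ} [hp : Fact p.Prime] (h : Local G p c n) (hn : ¬ 2 ∣ n)
    (hfac : (Nat.card G).factorization p = 1) {t z : G} (ht : t * t = 1) (ht1 : t ≠ 1)
    (hz : orderOf z = p) :
    IsEmpty {ab : G × G // (ab.1 * t * ab.1⁻¹) * (ab.2 * t * ab.2⁻¹) = z} := by
  refine ⟨fun ⟨⟨a, b⟩, hab⟩ => ?_⟩
  have h1 : (a * t * a⁻¹) * (a * t * a⁻¹) = 1 := by
    rw [← sq, conj_pow, sq, ht, mul_one, mul_inv_cancel]
  have h2 : (b * t * b⁻¹) * (b * t * b⁻¹) = 1 := by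
    rw [← sq, conj_pow, sq, ht, mul_one, mul_inv_cancel]
  have hu := not_inverted h hn hfac hz (u := a * t * a⁻¹) h1 ?_
  · exact ht1 (conj_eq_one_iff.1 hu)
  · simp only at hab
    generalize a * t * a⁻¹ = u at hab h1 ⊢
    generalize b * t * b⁻¹ = u' at hab h2
    rw [← hab, _root_.mul_inv_rev u u', inv_eq_of_mul_eq_one_left h2,
      inv_eq_of_mul_eq_one_left h1, ← mul_assoc, h1, one_mul]

theorem exists_central_invol (hG : Nat.card G = 10200960) :
    ∃ t : G, orderOf t = 2 ∧ 128 ∣ Nat.card (cen t) := by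
  haveI := Fact.mk Nat.prime_two
  obtain ⟨P⟩ : Nonempty (Sylow 2 G) := inferInstance
  have hP : Nat.card P = 128 := by
    rw [P.card_eq_multiplicity, hG, show 10200960 = 2 ^ 7 * 79695 by norm_num,
      Nat.factorization_mul (by norm_num) (by norm_num), Finsupp.add_apply,
      Nat.Prime.factorization_pow Nat.prime_two, Finsupp.single_eq_same,
      Nat.factorization_eq_zero_of_not_dvd (by norm_num)]
    norm_num
  haveI : Nontrivial P := Finite.one_lt_card_iff_nontrivial.1 (by rw [hP]; norm_num)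
  haveI := P.isPGroup'.center_nontrivial
  obtain ⟨z, hz⟩ := exists_prime_orderOf_dvd_card' (G := Subgroup.center (P : Subgroup G)) 2 (by
    obtain ⟨k, hk⟩ := IsPGroup.iff_card.1 (P.isPGroup'.to_subgroup (Subgroup.center (P : Subgroup G)))
    rw [hk]
    have h1 : 1 < 2 ^ k := hk ▸ Finite.one_lt_card
    exact dvd_pow_self 2 fun h0 => by rw [h0] at h1; norm_num at h1)
  refine ⟨z.1.1, by rw [Subgroup.orderOf_coe, Subgroup.orderOf_coe, hz], ?_⟩
  rw [← hP]
  refine Subgroup.card_dvd_of_le fun y hy => Subgroup.mem_centralizer_singleton_iff.2 ?_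
  exact congrArg Subtype.val (Subgroup.mem_center_iff.1 z.2 ⟨y, hy⟩)

theorem sgn_eq_sg (T : TableTwentyThree G) (i : Fin 10) : T.sgn i = sg (T.list.1 i) := by
  obtain ⟨hs, hm⟩ := T.sgn_eq i
  simp only [Table.list, sg]
  rcases hs with h | h <;> rw [h] at hm ⊢ <;> split_ifs with h' <;> omega

theorem eps_eq_sgExc (T : TableTwentyThree G) : T.ε = sgExc T.list.2 := by
  obtain ⟨hs, hm⟩ := T.ε_eq
  simp only [Table.list, sgExc]
  rcases hs with h | h <;> rw [h] at hm ⊢ <;> split_ifs with h' <;> omega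

/-- The characters of a block, the principal one included. -/
noncomputable def members {p n : ℕ} (T : Table G p n) : Finset (IrrCharacter G) := by
  classical exact insert (principal G) (Finset.univ.image (Fin.append T.a T.θ))

theorem sum_members {p n : ℕ} (T : Table G p n) {M : Type*} [AddCommMonoid M]
    (g : IrrCharacter G → M) :
    ∑ χ ∈ members T, g χ = g (principal G) + ((∑ i, g (T.a i)) + (g (T.θ 0) + g (T.θ 1))) := by
  classical
  unfold members
  rw [Finset.sum_insert (fun h => by
    obtain ⟨i, -, hi⟩ := Finset.mem_image.1 h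
    exact T.ne_principal i hi), Finset.sum_image fun i _ j _ h => T.inj h, Fin.sum_univ_add]
  simp [Fin.sum_univ_two]

theorem mem_members {p n : ℕ} (T : Table G p n) {χ : IrrCharacter G} :
    χ ∈ members T ↔ χ = principal G ∨ ∃ i, χ = Fin.append T.a T.θ i := by
  classical
  simp [members, eq_comm]

/-- A sum that vanishes outside a block. -/
theorem sum_block {p n : ℕ} (T : Table G p n) [Fintype (IrrCharacter G)] (g : IrrCharacter G → ℂ)
    (hg : ∀ χ : IrrCharacter G, (∀ x : G, orderOf x = p → (χ : G → ℂ) x = 0) → g χ = 0) :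
    ∑ χ, g χ = g (principal G) + ((∑ i, g (T.a i)) + (g (T.θ 0) + g (T.θ 1))) := by
  rw [← sum_members T g]
  refine (Finset.sum_subset (Finset.subset_univ _) fun χ _ hχ => hg χ ?_).symm
  rcases T.cover χ with h | h | h
  · exact absurd ((mem_members T).2 (Or.inl h)) hχ
  · exact absurd ((mem_members T).2 (Or.inr h)) hχ
  · exact h.2

variable [IsSimpleGroup G]

theorem cast_quot (hG : Nat.card G = 10200960) (χ : IrrCharacter G) :
    (((10200960 / charDegree (χ : G → ℂ) : ℕ) : ℤ) : ℂ) =
      10200960 / (charDegree (χ : G → ℂ) : ℂ) := by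
  haveI := Fintype.ofFinite G
  rw [Int.cast_natCast, Nat.cast_div (hG ▸ charDegree_dvd_card χ)
    (Nat.cast_ne_zero.2 (CfsgLib.Blocks.charDegree_pos χ).ne')]
  norm_num

/-- The quadratic identity at an element of order `p` inverted by no involution. -/
theorem quad {p c n m : ℕ} [Fact p.Prime] (hG : Nat.card G = 10200960) (L : Local G p c m)
    (hm : ¬ 2 ∣ m) (hfac : (Nat.card G).factorization p = 1) (T : Table G p n) {t x : G}
    (ht : t * t = 1) (ht1 : t ≠ 1) (hx : orderOf x = p) (F : IrrCharacter G → ℤ)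
    (hF : ∀ χ, (F χ : ℂ) = (χ : G → ℂ) t) (hθ : F (T.θ 1) = F (T.θ 0)) :
    (10200960 : ℤ) + (∑ i, T.sgn i * ((10200960 / charDegree (T.a i : G → ℂ) : ℕ) : ℤ) *
        (F (T.a i) * F (T.a i))) -
      T.ε * ((10200960 / charDegree (T.θ 0 : G → ℂ) : ℕ) : ℤ) * (F (T.θ 0) * F (T.θ 0)) = 0 := by
  classical
  haveI := Fintype.ofFinite G
  haveI := irrFintype G
  have h := card_conj_mul_conj t t x⁻¹
  rw [inv_inv] at h
  haveI := pairs_empty L hm hfac ht ht1 (by rw [orderOf_inv, hx] : orderOf x⁻¹ = p)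
  rw [Nat.card_of_isEmpty, Nat.cast_zero, eq_comm, mul_eq_zero] at h
  have h0 := h.resolve_left (Chars.card_ne_zero G)
  rw [sum_block T (fun χ => (χ : G → ℂ) t * (χ : G → ℂ) t * (χ : G → ℂ) x / (χ : G → ℂ) 1)
    fun χ h => by simp [h x hx]] at h0
  simp only [deg_eq, T.deg_θ, ← hF, hθ, T.at_p _ x hx] at h0
  have hone : (F (principal G) : ℂ) = 1 := by rw [hF, principal_apply]
  rw [hone, principal_apply, (deg_eq_one_iff (principal G)).mp (principal_apply _), Nat.cast_one]
    at h0
  have hz2 := T.at_p_θ x hx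
  apply Int.cast_injective (α := ℂ)
  simp only [Int.cast_add, Int.cast_sub, Int.cast_mul, Int.cast_sum, Int.cast_zero, Int.cast_ofNat,
    cast_quot hG]
  have hs : ∑ i, (T.sgn i : ℂ) * (10200960 / (charDegree (T.a i : G → ℂ) : ℂ)) *
      ((F (T.a i) : ℂ) * (F (T.a i) : ℂ)) = 10200960 * ∑ i, (F (T.a i) : ℂ) * (F (T.a i) : ℂ) *
      (T.sgn i : ℂ) / (charDegree (T.a i : G → ℂ) : ℂ) := by
    rw [Finset.mul_sum]
    exact Finset.sum_congr rfl fun i _ => by ring
  rw [hs]
  linear_combination (10200960 : ℂ) * h0 -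
    (10200960 * ((F (T.θ 0) : ℂ) * (F (T.θ 0) : ℂ)) / (charDegree (T.θ 0 : G → ℂ) : ℂ)) * hz2

theorem central_of (hG : Nat.card G = 10200960) (h23 : LocalTwentyThree G) (h11 : LocalEleven G)
    (T : TableTwentyThree G) (S : TableEleven G) (hT : T.list ∈ lists23) (hS : S.list ∈ lists11) :
    T.list ∈ listsCentral ∧ S.list = main11 := by
  classical
  haveI := Fintype.ofFinite G
  haveI := irrFintype G
  haveI : Fact (Nat.Prime 11) := ⟨by norm_num⟩
  haveI : Fact (Nat.Prime 23) := ⟨by norm_num⟩
  obtain ⟨t, ht, h128⟩ := exists_central_invol hG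
  have htt : t * t = 1 := by rw [← sq, ← ht, pow_orderOf_eq_one]
  have ht1 : t ≠ 1 := fun h => by rw [h, orderOf_one] at ht; omega
  set C := Nat.card (cen t) with hC
  obtain ⟨r, hr⟩ : ∃ r, (C, r) ∈ cents := by
    obtain ⟨m, hm⟩ := h128
    have hm' : m ∣ 79695 := by
      refine Nat.dvd_of_mul_dvd_mul_left (show 0 < 128 by norm_num) ?_
      rw [← hm, show 128 * 79695 = Nat.card G by rw [hG]]
      exact Subgroup.card_subgroup_dvd_card (cen t)
    have n11 := not_dvd_cen h11 (by norm_num) ht
    have n23 := not_dvd_cen h23 (by norm_num) ht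
    rw [← hC, hm] at n11 n23
    rw [hm]
    have h1 : m ∣ 315 * 23 := Nat.Coprime.dvd_of_dvd_mul_right
      ((Nat.Prime.coprime_iff_not_dvd (by norm_num)).2 fun h => n11 (h.mul_left 128)).symm
      (show m ∣ 315 * 23 * 11 from hm')
    have h2 : m ∣ 315 := Nat.Coprime.dvd_of_dvd_mul_right
      ((Nat.Prime.coprime_iff_not_dvd (by norm_num)).2 fun h => n23 (h.mul_left 128)).symm h1
    exact cents_complete m (Nat.mem_divisors.2 ⟨h2, by norm_num⟩)
  have hperf : commutator G = ⊤ :=
    commutator_eq_top (not_isMulCommutative_of_card (by rw [hG]; norm_num))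
  have hidx : (cen t).index = 10200960 / C := by
    rw [← hG, ← Subgroup.card_mul_index (cen t), Nat.mul_div_cancel_left _ Nat.card_pos]
  choose F hF using fun χ : IrrCharacter G => exists_int_apply_involution htt χ
  have hF1 : F (principal G) = 1 := by
    have h := hF (principal G)
    rw [principal_apply] at h
    exact_mod_cast h
  have hnorm : ∑ χ : IrrCharacter G, F χ ^ 2 = (C : ℤ) := by
    have h := second_orthogonality (G := G) t t
    rw [if_pos (IsConj.refl t)] at h
    simp only [← hF, map_intCast] at h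
    simp only [sq]
    exact_mod_cast h
  have hdeg : ∑ χ : IrrCharacter G, (charDegree (χ : G → ℂ) : ℤ) * F χ = 0 := by
    have h := sum_degree_mul (G := G) t
    rw [if_neg ht1] at h
    simp only [deg_eq, ← hF] at h
    exact_mod_cast h
  have hdd : ∑ χ : IrrCharacter G, (charDegree (χ : G → ℂ) : ℤ) ^ 2 = 10200960 := by
    have h := sum_degree_sq_nat (G := G)
    rw [hG] at h
    exact_mod_cast h
  have hle : ∀ s : Finset (IrrCharacter G), ∑ χ ∈ s, F χ ^ 2 ≤ (C : ℤ) := fun s => by
    rw [← hnorm]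
    exact Finset.sum_le_univ_sum_of_nonneg fun χ => sq_nonneg _
  have hokv : ∀ (χ : IrrCharacter G) (d : ℕ), charDegree (χ : G → ℂ) = d → okv d C (F χ) = true := by
    rintro χ d rfl
    have h := degree_dvd_index_mul χ (hF χ)
    rw [hidx] at h
    simp only [okv, Bool.and_eq_true, decide_eq_true_eq]
    exact ⟨Int.emod_eq_zero_of_dvd (four_dvd_degree_sub hperf χ htt (hF χ)),
      Int.emod_eq_zero_of_dvd h⟩
  have hcands : ∀ (χ : IrrCharacter G) (d : ℕ), charDegree (χ : G → ℂ) = d →
      F χ ∈ cands d C r := by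
    rintro χ d rfl
    refine mem_cands ?_ ?_ (hokv χ _ rfl)
    · have h2 := char_norm_le (isCharacter_of_irr χ.2) t
      rw [← hF, deg_eq, Complex.norm_intCast, Complex.natCast_re] at h2
      have h3 : |F χ| ≤ (charDegree (χ : G → ℂ) : ℤ) := by exact_mod_cast h2
      rw [Int.abs_eq_natAbs] at h3
      omega
    · have h2 := hle {χ}
      rw [Finset.sum_singleton] at h2
      have h3 : (C : ℤ) < ((r : ℤ) + 1) * ((r : ℤ) + 1) := by exact_mod_cast cents_root _ hr
      by_contra hlt
      have h4 : (r : ℤ) + 1 ≤ |F χ| := by rw [Int.abs_eq_natAbs]; omega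
      nlinarith [abs_mul_abs_self (F χ), abs_nonneg (F χ)]
  obtain ⟨x11, hx11⟩ := exists_prime_orderOf_dvd_card' (G := G) 11 (by rw [hG]; norm_num)
  obtain ⟨x23, hx23⟩ := exists_prime_orderOf_dvd_card' (G := G) 23 (by rw [hG]; norm_num)
  have hfac11 : (Nat.card G).factorization 11 = 1 := by
    rw [hG, show 10200960 = 11 ^ 1 * 927360 by norm_num, Nat.factorization_mul (by norm_num)
      (by norm_num), Finsupp.add_apply, Nat.Prime.factorization_pow (by norm_num),
      Finsupp.single_eq_same, Nat.factorization_eq_zero_of_not_dvd (by norm_num)]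
  have hfac23 : (Nat.card G).factorization 23 = 1 := by
    rw [hG, show 10200960 = 23 ^ 1 * 443520 by norm_num, Nat.factorization_mul (by norm_num)
      (by norm_num), Finsupp.add_apply, Nat.Prime.factorization_pow (by norm_num),
      Finsupp.single_eq_same, Nat.factorization_eq_zero_of_not_dvd (by norm_num)]
  have hθeq : ∀ {p n : ℕ} (B : Table G p n), ¬ p ∣ orderOf t → ∀ j,
      B.ε * F (B.θ j) = 1 + ∑ i, B.sgn i * F (B.a i) := by
    intro p n B hp j
    have h := B.rel j t hp
    simp only [← hF] at h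
    exact_mod_cast h
  have hθS := hθeq S (by rw [ht]; norm_num)
  -- the block at eleven
  obtain ⟨pq, hpq, hSd⟩ : ∃ pq, (pq = (230, 1035) ∨ pq = (483, 1288)) ∧
      S.list = (![45, 45, pq.1, pq.2], 896) := by
    simp only [lists11, List.mem_cons, List.not_mem_nil, or_false] at hS
    rcases hS with h | h
    · exact ⟨(230, 1035), Or.inl rfl, h⟩
    · exact ⟨(483, 1288), Or.inr rfl, h⟩
  have d0 : charDegree (S.a 0 : G → ℂ) = 45 := congrFun (congrArg Prod.fst hSd) 0
  have d1 : charDegree (S.a 1 : G → ℂ) = 45 := congrFun (congrArg Prod.fst hSd) 1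
  have d2 : charDegree (S.a 2 : G → ℂ) = pq.1 := congrFun (congrArg Prod.fst hSd) 2
  have d3 : charDegree (S.a 3 : G → ℂ) = pq.2 := congrFun (congrArg Prod.fst hSd) 3
  have dθ : charDegree (S.θ 0 : G → ℂ) = 896 := congrArg Prod.snd hSd
  have hs : S.sgn 0 = 1 ∧ S.sgn 1 = 1 ∧ S.sgn 2 = -1 ∧ S.sgn 3 = 1 ∧ S.ε = 1 := by
    have e0 := S.sgn_eq 0
    have e1 := S.sgn_eq 1
    have e2 := S.sgn_eq 2
    have e3 := S.sgn_eq 3
    have e := S.ε_eq
    rw [d0] at e0
    rw [d1] at e1
    rw [d2] at e2
    rw [d3] at e3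
    rw [dθ] at e
    have key : pq.1 % 11 = 10 ∧ pq.2 % 11 = 1 := by
      rcases hpq with rfl | rfl <;> norm_num
    refine ⟨?_, ?_, ?_, ?_, ?_⟩
    · rcases e0.1 with h | h <;> simp [h] at e0 ⊢
    · rcases e1.1 with h | h <;> simp [h] at e1 ⊢
    · rcases e2.1 with h | h <;> rw [h] at e2 ⊢
      obtain ⟨-, he⟩ := e2; omega
    · rcases e3.1 with h | h <;> rw [h] at e3 ⊢
      obtain ⟨-, he⟩ := e3; omega
    · rcases e.1 with h | h <;> simp [h] at e ⊢
  obtain ⟨s0, s1, s2, s3, se⟩ := hs
  have hu : ∀ j, F (S.θ j) = 1 + F (S.a 0) + F (S.a 1) - F (S.a 2) + F (S.a 3) := fun j => by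
    have h := hθS j
    rw [Fin.sum_univ_four, s0, s1, s2, s3, se] at h
    linarith
  have hSK := hle (members S)
  rw [sum_members, Fin.sum_univ_four, hF1, hu 1, ← hu 0] at hSK
  have hSq := quad hG h11 (by norm_num) hfac11 S htt ht1 hx11 F hF (by rw [hu, hu])
  rw [Fin.sum_univ_four, s0, s1, s2, s3, se, d0, d1, d2, d3, dθ] at hSq
  have e45 : ((10200960 / 45 : ℕ) : ℤ) = 226688 := by norm_num
  have e896 : ((10200960 / 896 : ℕ) : ℤ) = 11385 := by norm_num
  rw [e45, e896] at hSq
  obtain ⟨rfl, hu0, hbase⟩ : pq = (230, 1035) ∧ F (S.θ 0) = 0 ∧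
      ((C, r), F (S.a 0) + F (S.a 1), F (S.a 0) * F (S.a 0) + F (S.a 1) * F (S.a 1), F (S.a 2),
        F (S.a 3)) ∈ base := by
    have hck : check1 (C, r) pq = true := by
      rcases hpq with rfl | rfl
      · exact List.all_eq_true.1 check1_first _ hr
      · exact List.all_eq_true.1 check1_second _ hr
    simp only [check1, List.all_eq_true, Bool.or_eq_true, Bool.and_eq_true, Bool.not_eq_true',
      decide_eq_true_eq] at hck
    have hq : F (S.θ 0) - 1 - F (S.a 0) - F (S.a 1) + F (S.a 2) = F (S.a 3) := by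
      have := hu 0; linarith
    have h := hck _ (hcands _ _ dθ) _ (hcands _ _ d0) _ (hcands _ _ d1) _ (hcands _ _ d2)
    rw [hq] at h
    rcases h with h | h
    · simp only [hokv _ _ d3, Bool.true_and, Bool.and_eq_false_iff, decide_eq_false_iff_not] at h
      rcases h with h | h
      · exact absurd (by linarith) h
      · exact absurd (by linarith) h
    · exact ⟨h.1.1, h.1.2, h.2⟩
  refine ⟨?_, hSd⟩
  simp only at d2 d3
  rcases lists_cases _ hT with hin | hbad
  · exact hin
  exfalso
  obtain ⟨⟨l, gs⟩, hlg, hl⟩ := List.mem_map.1 hbad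
  simp only at hl
  subst hl
  obtain ⟨hexp, hcard, hdist, hθd⟩ := bad_facts _ hlg
  simp only at hexp hcard hdist hθd
  set l := T.list with hl
  have dT : ∀ i, charDegree (T.a i : G → ℂ) = l.1 i := fun _ => rfl
  have dTθ : ∀ j, charDegree (T.θ j : G → ℂ) = l.2 := fun j => by
    fin_cases j
    · rfl
    · exact T.deg_θ
  have ha_inj : Function.Injective T.a := fun i j h => by
    have := T.inj (a₁ := Fin.castAdd 2 i) (a₂ := Fin.castAdd 2 j) (by simpa using h)
    exact Fin.castAdd_injective _ _ this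
  -- the characters of degree forty-five
  have hpair : (Finset.univ.filter fun i => l.1 i = 45).image T.a = {S.a 0, S.a 1} := by
    have hne : S.a 0 ≠ S.a 1 := fun h => by
      have := S.inj (a₁ := Fin.castAdd 2 0) (a₂ := Fin.castAdd 2 1)
        (by rw [Fin.append_left, Fin.append_left, h])
      exact absurd (Fin.castAdd_injective _ _ this) (by decide)
    have hmem : ∀ χ : IrrCharacter G, charDegree (χ : G → ℂ) = 45 →
        χ ∈ (Finset.univ.filter fun i => l.1 i = 45).image T.a := by
      intro χ hχ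
      rcases T.cover χ with h | ⟨i, h⟩ | h
      · rw [h, (deg_eq_one_iff (principal G)).mp (principal_apply _)] at hχ
        omega
      · induction i using Fin.addCases with
        | left i =>
          rw [Fin.append_left] at h
          exact Finset.mem_image.2 ⟨i, Finset.mem_filter.2 ⟨Finset.mem_univ _, by
            rw [← dT, ← h, hχ]⟩, h.symm⟩
        | right j =>
          rw [Fin.append_right] at h
          rw [h, dTθ] at hχ
          exact absurd hχ hθd.2.1
      · rw [hχ] at h
        norm_num at h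
    refine (Finset.eq_of_subset_of_card_le ?_ ?_).symm
    · intro χ hχ
      simp only [Finset.mem_insert, Finset.mem_singleton] at hχ
      rcases hχ with rfl | rfl
      · exact hmem _ d0
      · exact hmem _ d1
    · rw [Finset.card_image_of_injective _ ha_inj, hcard, Finset.card_pair hne]
  have h896 : ∀ i, l.1 i = 896 → F (T.a i) = 0 := by
    intro i hi
    rcases S.cover (T.a i) with h | ⟨k, h⟩ | h
    · exact absurd h (by simpa using T.ne_principal (Fin.castAdd 2 i))
    · induction k using Fin.addCases with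
      | left k =>
        rw [Fin.append_left] at h
        have := dT i
        rw [h, hi] at this
        fin_cases k <;> simp_all
      | right k =>
        rw [Fin.append_right] at h
        rw [h, hu, ← hu 0, hu0]
    · rw [dT, hi] at h
      norm_num at h
  set a := F (S.a 0)
  set b := F (S.a 1)
  set ps : List (ℕ × ℤ) := (rest l).map fun i => (l.1 i, F (T.a i)) with hps
  have hsplit : ∀ φ : ℕ → ℤ → ℤ, (∀ d, φ d 0 = 0) →
      ∑ i, φ (l.1 i) (F (T.a i)) = φ 45 a + φ 45 b + (ps.map fun x => φ x.1 x.2).sum := by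
    intro φ hφ
    rw [← Finset.sum_filter_add_sum_filter_not Finset.univ (fun i => l.1 i = 45)]
    congr 1
    · rw [Finset.sum_congr rfl (g := fun i => φ 45 (F (T.a i))) fun i hi => by
        rw [(Finset.mem_filter.1 hi).2],
        ← Finset.sum_image (f := fun χ => φ 45 (F χ)) fun i _ j _ h => ha_inj h, hpair,
        Finset.sum_pair]
      intro h
      have := congrArg Finset.card hpair
      rw [Finset.card_image_of_injective _ ha_inj, hcard, h, Finset.insert_eq_of_mem
        (Finset.mem_singleton_self _), Finset.card_singleton] at this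
      omega
    · have hnd : (rest l).Nodup := (List.nodup_finRange 10).filter _
      rw [hps, List.map_map, ← List.sum_toFinset _ hnd]
      refine (Finset.sum_subset (fun i hi => ?_) fun i hi hni => ?_).symm
      · simp only [List.mem_toFinset, rest, List.mem_filter, decide_eq_true_eq] at hi
        exact Finset.mem_filter.2 ⟨Finset.mem_univ _, hi.2.1⟩
      · simp only [List.mem_toFinset, rest, List.mem_filter, decide_eq_true_eq, List.mem_finRange,
          true_and, not_and, not_not] at hni
        show φ (l.1 i) (F (T.a i)) = 0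
        rw [h896 i (hni (Finset.mem_filter.1 hi).2), hφ]
  have sg45 : sg 45 = -1 := by decide
  have hlin : T.ε * F (T.θ 0) =
      1 - (a + b) + (ps.map fun x => sg x.1 * x.2).sum := by
    have h := hθeq T (by rw [ht]; norm_num) 0
    simp only [sgn_eq_sg T] at h
    rw [hsplit (fun d v => sg d * v) (fun d => mul_zero _)] at h
    simp only [sg45] at h
    linarith
  have hθθ : F (T.θ 1) = F (T.θ 0) := by
    have h0 := hθeq T (by rw [ht]; norm_num) 0
    rw [← hθeq T (by rw [ht]; norm_num) 1] at h0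
    exact (mul_left_cancel₀ (by rcases T.ε_eq.1 with h | h <;> rw [h] <;> norm_num) h0).symm
  have hw : F (T.θ 0) = sgExc l.2 * (1 - (a + b) + (ps.map fun x => sg x.1 * x.2).sum) := by
    rw [← hlin, eps_eq_sgExc T, ← mul_assoc]
    unfold sgExc
    split <;> simp
  have hTq := quad hG h23 (by norm_num) hfac23 T htt ht1 hx23 F hF hθθ
  simp only [sgn_eq_sg T, dT, eps_eq_sgExc T, dTθ] at hTq
  rw [hsplit (fun d v => sg d * ((10200960 / d : ℕ) : ℤ) * (v * v)) (fun d => by simp)] at hTq
  simp only [sg45, e45] at hTq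
  -- the fifteen known characters
  set K := members T ∪ {S.a 2, S.a 3} with hK
  have hdj : Disjoint (members T) {S.a 2, S.a 3} := by
    rw [Finset.disjoint_left]
    intro χ hχ h23'
    simp only [Finset.mem_insert, Finset.mem_singleton] at h23'
    rcases (mem_members T).1 hχ with h | ⟨i, h⟩
    · rcases h23' with rfl | rfl
      · exact S.ne_principal (Fin.castAdd 2 2) (by rw [Fin.append_left, h])
      · exact S.ne_principal (Fin.castAdd 2 3) (by rw [Fin.append_left, h])
    · induction i using Fin.addCases with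
      | left i =>
        rw [Fin.append_left] at h
        have := hdist i
        rcases h23' with rfl | rfl
        · exact this.2.1 (by rw [← dT, ← h, d2])
        · exact this.2.2.1 (by rw [← dT, ← h, d3])
      | right j =>
        rw [Fin.append_right] at h
        rcases h23' with rfl | rfl
        · rw [h, dTθ] at d2
          exact hθd.2.2.2.1 d2
        · rw [h, dTθ] at d3
          exact hθd.2.2.2.2.1 d3
  have h23ne : S.a 2 ≠ S.a 3 := fun h => by rw [h, d3] at d2; omega
  have hKsum : ∀ g : IrrCharacter G → ℤ, ∑ χ ∈ K, g χ =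
      g (principal G) + ((∑ i, g (T.a i)) + (g (T.θ 0) + g (T.θ 1))) + (g (S.a 2) + g (S.a 3)) := by
    intro g
    rw [hK, Finset.sum_union hdj, sum_members, Finset.sum_pair h23ne]
  have hKd : ∑ χ ∈ K, (charDegree (χ : G → ℂ) : ℤ) ^ 2 = degSq l := by
    rw [hKsum, (deg_eq_one_iff (principal G)).mp (principal_apply _)]
    simp only [dT, dTθ, d2, d3, degSq]
    push_cast
    ring
  have hKsq : ∑ χ ∈ K, F χ ^ 2 = 1 + (a * a + b * b) + F (S.a 2) * F (S.a 2) +
      F (S.a 3) * F (S.a 3) + (ps.map fun x => x.2 * x.2).sum + 2 * (F (T.θ 0) * F (T.θ 0)) := by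
    rw [hKsum, hF1, hθθ]
    simp only [sq]
    rw [hsplit (fun _ v => v * v) (fun _ => mul_zero _)]
    ring
  have hKdv : ∑ χ ∈ K, (charDegree (χ : G → ℂ) : ℤ) * F χ = 1 + 45 * (a + b) +
      (ps.map fun x => (x.1 : ℤ) * x.2).sum + 230 * F (S.a 2) + 1035 * F (S.a 3) +
      2 * (l.2 : ℤ) * F (T.θ 0) := by
    rw [hKsum, hF1, hθθ, (deg_eq_one_iff (principal G)).mp (principal_apply _)]
    simp only [dT, dTθ, d2, d3]
    rw [hsplit (fun d v => (d : ℤ) * v) (fun _ => mul_zero _)]
    push_cast
    ring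
  have hcs := Finset.sum_mul_sq_le_sq_mul_sq Kᶜ (fun χ => (charDegree (χ : G → ℂ) : ℤ)) F
  have c1 := Finset.sum_add_sum_compl K fun χ => (charDegree (χ : G → ℂ) : ℤ) * F χ
  have c2 := Finset.sum_add_sum_compl K fun χ => (charDegree (χ : G → ℂ) : ℤ) ^ 2
  have c3 := Finset.sum_add_sum_compl K fun χ => F χ ^ 2
  rw [hdeg, hKdv] at c1
  rw [hdd, hKd] at c2
  rw [hnorm, hKsq] at c3
  have hKle := hle K
  rw [hKsq] at hKle
  set R : ℤ := (C : ℤ) - (1 + (a * a + b * b) + F (S.a 2) * F (S.a 2) + F (S.a 3) * F (S.a 3))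
    with hR
  have hscan : scan C r R (leaf l (a + b) (a * a + b * b) (F (S.a 2)) (F (S.a 3)) R) gs 0 0 0 0 =
      true := by
    have := List.all_eq_true.1 (List.all_eq_true.1 check2_ok _ hlg) _ hbase
    simpa only [check2] using this
  have hleaf := scan_sound gs ps 0 0 0 0 hscan (by rw [hps, List.map_map]; exact hexp) (fun x hx => by
    obtain ⟨i, -, rfl⟩ := List.mem_map.1 hx
    exact hcands _ _ (dT i)) le_rfl (by
      have := mul_self_nonneg (F (T.θ 0))
      linarith)
  simp only [zero_add, leaf, ← hw, Bool.not_eq_true', Bool.and_eq_false_iff,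
    decide_eq_false_iff_not] at hleaf
  rcases hleaf with (h | h) | h
  · exact h (by linarith)
  · exact h (by linarith)
  · refine h ?_
    have e : ∑ χ ∈ Kᶜ, (charDegree (χ : G → ℂ) : ℤ) * F χ = -(1 + 45 * (a + b) +
      (ps.map fun x => (x.1 : ℤ) * x.2).sum + 230 * F (S.a 2) + 1035 * F (S.a 3) +
      2 * (l.2 : ℤ) * F (T.θ 0)) := by linarith
    rw [e, neg_sq, show ∑ χ ∈ Kᶜ, (charDegree (χ : G → ℂ) : ℤ) ^ 2 = 10200960 - degSq l by linarith,
      show ∑ χ ∈ Kᶜ, F χ ^ 2 = R - (ps.map fun x => x.2 * x.2).sum -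
        2 * (F (T.θ 0) * F (T.θ 0)) by linarith, sq] at hcs
    exact hcs

end CentralProof

/-- Piece E. -/
theorem central : CentralStmt.{u} := fun _ _ _ hs hG h23 h11 T S hT hS => by
  haveI := hs
  exact CentralProof.central_of hG h23 h11 T S hT hS

end CfsgLib.M23Order
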