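import Cfsg.Agent.Lib.M23Order.Interface

/-!
# Simple groups of order 10200960: the finite searches at a central involution
-/

set_option autoImplicit false

namespace CfsgLib.M23Order.CentralCheck

/-- The divisibility tests on a value at an involution with centralizer of order `C`. -/
def okv (d C : ℕ) (v : ℤ) : Bool :=
  decide (((d : ℤ) - v) % 4 = 0) && decide (((10200960 / C : ℕ) : ℤ) * v % (d : ℤ) = 0)

/-- The values allowed at an involution with centralizer of order `C`, where `r` is the root of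
`C`. -/
def cands (d C r : ℕ) : List ℤ :=
  ((List.range (2 * min r d + 1)).map fun k : ℕ => (k : ℤ) - (min r d : ℕ)).filter (okv d C)

theorem mem_cands {d C r : ℕ} {v : ℤ} (hd : v.natAbs ≤ d) (hr : v.natAbs ≤ r) (h : okv d C v = true) :
    v ∈ cands d C r := by
  refine List.mem_filter.2 ⟨List.mem_map.2 ⟨(v + (min r d : ℕ)).toNat,
    List.mem_range.2 (by omega), by omega⟩, h⟩

/-- The orders of the centralizers of central involutions, with their roots. -/
def cents : List (ℕ × ℕ) :=
  [(128, 11), (384, 19), (640, 25), (896, 29), (1152, 33), (1920, 43), (2688, 51), (4480, 66),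
    (5760, 75), (8064, 89), (13440, 115), (40320, 200)]

theorem cents_complete : ∀ m ∈ Nat.divisors 315, ∃ r, (128 * m, r) ∈ cents := by
  have h : ∀ m ∈ Nat.divisors 315, 128 * m ∈ cents.map Prod.fst := by decide +kernel
  intro m hm
  obtain ⟨⟨C, r⟩, hx, hC⟩ := List.mem_map.1 (h m hm)
  exact ⟨r, by simp only at hC; rw [← hC]; exact hx⟩

theorem cents_root : ∀ x ∈ cents, x.1 < (x.2 + 1) * (x.2 + 1) := by decide +kernel

/-- The columns left by the block at eleven: order, root, sum and sum of squares at the two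
characters of degree forty-five, values at the next two degrees. -/
def base : List ((ℕ × ℕ) × ℤ × ℤ × ℤ × ℤ) :=
  [((896, 29), 2, 34, 22, 19), ((2688, 51), -6, 18, 22, 27)]

/-- The search in the block at eleven. -/
def check1 (x : ℕ × ℕ) (pq : ℕ × ℕ) : Bool :=
  (cands 896 x.1 x.2).all fun u => (cands 45 x.1 x.2).all fun a => (cands 45 x.1 x.2).all fun b =>
    (cands pq.1 x.1 x.2).all fun p =>
      let q := u - 1 - a - b + p
      !(okv pq.2 x.1 q && decide (1 + a * a + b * b + p * p + q * q + 2 * (u * u) ≤ (x.1 : ℤ)) &&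
          decide (10200960 + 226688 * (a * a + b * b) - ((10200960 / pq.1 : ℕ) : ℤ) * (p * p) +
            ((10200960 / pq.2 : ℕ) : ℤ) * (q * q) - 11385 * (u * u) = 0)) ||
        (decide (pq = (230, 1035)) && decide (u = 0) &&
          decide ((x, a + b, a * a + b * b, p, q) ∈ base))

theorem check1_first : cents.all (fun x => check1 x (230, 1035)) = true := by decide +kernel

theorem check1_second : cents.all (fun x => check1 x (483, 1288)) = true := by decide +kernel

/-- Sign at twenty-three of a degree. -/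
def sg (d : ℕ) : ℤ := if d % 23 = 1 then 1 else -1

/-- Sign at twenty-three of the exceptional degree. -/
def sgExc (d : ℕ) : ℤ := if d % 23 = 11 then 1 else -1

/-- Sums and sums of squares of `n` values. -/
def pairs (d C r : ℕ) (R : ℤ) : ℕ → List (ℤ × ℤ)
  | 0 => [(0, 0)]
  | n + 1 => ((cands d C r).flatMap fun v =>
      ((pairs d C r R n).filter fun s => decide (v * v + s.2 ≤ R)).map fun s =>
        (v + s.1, v * v + s.2)).eraseDups

/-- The search over the remaining degrees, with the sum of squares, the signed sum, the quadratic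
form and the sum weighted by degrees. -/
def scan (C r : ℕ) (R : ℤ) (lf : ℤ → ℤ → ℤ → ℤ → Bool) :
    List (ℕ × ℕ) → ℤ → ℤ → ℤ → ℤ → Bool
  | [], s2, lin, qd, dv => lf s2 lin qd dv
  | (d, n) :: gs, s2, lin, qd, dv => (pairs d C r R n).all fun s =>
      decide (R < s2 + s.2) ||
        scan C r R lf gs (s2 + s.2) (lin + sg d * s.1)
          (qd + sg d * ((10200960 / d : ℕ) : ℤ) * s.2) (dv + (d : ℤ) * s.1)

/-- The remaining degrees of a list, grouped. -/
def expand (gs : List (ℕ × ℕ)) : List ℕ := gs.flatMap fun g => List.replicate g.2 g.1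

/-- The positions of the remaining degrees. -/
def rest (l : (Fin 10 → ℕ) × ℕ) : List (Fin 10) :=
  (List.finRange 10).filter fun i => decide (l.1 i ≠ 45 ∧ l.1 i ≠ 896)

/-- The squares of the fifteen known degrees. -/
def degSq (l : (Fin 10 → ℕ) × ℕ) : ℤ :=
  1 + ∑ i, (l.1 i : ℤ) ^ 2 + 2 * (l.2 : ℤ) ^ 2 + 230 ^ 2 + 1035 ^ 2

/-- The last test. -/
def leaf (l : (Fin 10 → ℕ) × ℕ) (A A2 p q R : ℤ) (s2 lin qd dv : ℤ) : Bool :=
  let t := sgExc l.2 * (1 - A + lin)
  let w := R - s2 - 2 * (t * t)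
  let v := 1 + 45 * A + dv + 230 * p + 1035 * q + 2 * (l.2 : ℤ) * t
  !(decide (0 ≤ w) &&
      decide (10200960 - 226688 * A2 + qd -
        sgExc l.2 * ((10200960 / l.2 : ℕ) : ℤ) * (t * t) = 0) &&
      decide (v * v ≤ (10200960 - degSq l) * w))

/-- The lists to refute, with the groups of their remaining degrees. -/
def bad : List (((Fin 10 → ℕ) × ℕ) × List (ℕ × ℕ)) :=
  [((![22, 22, 22, 45, 45, 231, 231, 896, 896, 990], 495), [(22, 3), (231, 2), (990, 1)]),
    ((![22, 22, 22, 45, 45, 231, 896, 896, 990, 990], 264), [(22, 3), (231, 1), (990, 2)]),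
    ((![22, 45, 45, 231, 231, 231, 231, 896, 896, 990], 11), [(22, 1), (231, 4), (990, 1)]),
    ((![22, 45, 45, 231, 231, 528, 896, 896, 990, 990], 11),
      [(22, 1), (231, 2), (528, 1), (990, 2)]),
    ((![45, 45, 231, 231, 231, 231, 231, 231, 896, 896], 495), [(231, 3), (231, 3)]),
    ((![45, 45, 231, 231, 231, 231, 231, 896, 896, 990], 264), [(231, 3), (231, 2), (990, 1)]),
    ((![45, 45, 231, 231, 231, 231, 528, 896, 896, 990], 495), [(231, 4), (528, 1), (990, 1)]),
    ((![45, 45, 231, 231, 231, 528, 896, 896, 990, 990], 264), [(231, 3), (528, 1), (990, 2)]),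
    ((![45, 45, 231, 231, 528, 528, 896, 896, 990, 990], 495), [(231, 2), (528, 2), (990, 2)])]

/-- The search for one list. -/
def check2 (x : ((Fin 10 → ℕ) × ℕ) × List (ℕ × ℕ)) (b : (ℕ × ℕ) × ℤ × ℤ × ℤ × ℤ) : Bool :=
  match b with
  | ((C, r), A, A2, p, q) =>
    let R := (C : ℤ) - (1 + A2 + p * p + q * q)
    scan C r R (leaf x.1 A A2 p q R) x.2 0 0 0 0

theorem check2_ok : bad.all (fun x => base.all (check2 x)) = true := by decide +kernel

/-- What the proof needs to know about a list. -/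
def facts (x : ((Fin 10 → ℕ) × ℕ) × List (ℕ × ℕ)) : Prop :=
  (rest x.1).map x.1.1 = expand x.2 ∧ (Finset.univ.filter fun i => x.1.1 i = 45).card = 2 ∧
    (∀ i, x.1.1 i ≠ 1 ∧ x.1.1 i ≠ 230 ∧ x.1.1 i ≠ 1035 ∧ x.1.1 i ∣ 10200960) ∧
    x.1.2 ≠ 1 ∧ x.1.2 ≠ 45 ∧ x.1.2 ≠ 896 ∧ x.1.2 ≠ 230 ∧ x.1.2 ≠ 1035 ∧ x.1.2 ∣ 10200960

instance (x : ((Fin 10 → ℕ) × ℕ) × List (ℕ × ℕ)) : Decidable (facts x) := by
  unfold facts; infer_instance

theorem bad_facts : ∀ x ∈ bad, facts x := by decide +kernel

theorem lists_cases : ∀ l ∈ lists23, l ∈ listsCentral ∨ l ∈ bad.map Prod.fst := by decide +kernel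

end CfsgLib.M23Order.CentralCheck
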