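import Cfsg.Agent.Lib.M23Order.CentralCheck

/-!
# Simple groups of order 10200960: the search at a central involution covers every column
-/

set_option autoImplicit false

namespace CfsgLib.M23Order.CentralCheck

theorem pairs_mem {d C r : ℕ} {R : ℤ} : ∀ (n : ℕ) (vs : List ℤ), vs.length = n →
    (∀ v ∈ vs, v ∈ cands d C r) → (vs.map fun v => v * v).sum ≤ R →
    (vs.sum, (vs.map fun v => v * v).sum) ∈ pairs d C r R n
  | 0, vs, hl, _, _ => by
    rw [List.length_eq_zero_iff.1 hl]
    simp [pairs]
  | n + 1, [], hl, _, _ => by simp at hl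
  | n + 1, v :: vs, hl, hm, hR => by
    simp only [List.map_cons, List.sum_cons] at hR
    have hvv := mul_self_nonneg v
    have ih := pairs_mem n vs (by simpa using hl) (fun w hw => hm w (List.mem_cons_of_mem _ hw))
      (le_trans (by linarith) hR)
    simp only [pairs, List.mem_eraseDups, List.mem_flatMap, List.mem_map, List.mem_filter,
      List.map_cons, List.sum_cons, decide_eq_true_eq]
    exact ⟨v, hm v List.mem_cons_self, _, ⟨ih, hR⟩, rfl⟩

theorem scan_sound {C r : ℕ} {R : ℤ} {lf : ℤ → ℤ → ℤ → ℤ → Bool} :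
    ∀ (gs : List (ℕ × ℕ)) (ps : List (ℕ × ℤ)) (s2 lin qd dv : ℤ),
      scan C r R lf gs s2 lin qd dv = true → ps.map Prod.fst = expand gs →
      (∀ x ∈ ps, x.2 ∈ cands x.1 C r) → 0 ≤ s2 →
      s2 + (ps.map fun x => x.2 * x.2).sum ≤ R →
      lf (s2 + (ps.map fun x => x.2 * x.2).sum) (lin + (ps.map fun x => sg x.1 * x.2).sum)
        (qd + (ps.map fun x => sg x.1 * ((10200960 / x.1 : ℕ) : ℤ) * (x.2 * x.2)).sum)
        (dv + (ps.map fun x => (x.1 : ℤ) * x.2).sum) = true
  | [], ps, s2, lin, qd, dv, h, hp, _, _, _ => by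
    have : ps = [] := by simpa [expand] using hp
    subst this
    simpa [scan] using h
  | (d, n) :: gs, ps, s2, lin, qd, dv, h, hp, hm, hs0, hR => by
    simp only [expand, List.flatMap_cons] at hp
    obtain ⟨ps₁, ps₂, rfl, h1, h2⟩ := List.map_eq_append_iff.1 hp
    have hfst : ∀ x ∈ ps₁, x.1 = d := fun x hx =>
      List.eq_of_mem_replicate (h1 ▸ List.mem_map_of_mem hx)
    have hlen : (ps₁.map Prod.snd).length = n := by
      simpa using congrArg List.length h1
    have nonneg : ∀ l : List (ℕ × ℤ), 0 ≤ (l.map fun x => x.2 * x.2).sum := fun l =>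
      List.sum_nonneg fun a ha => by
        obtain ⟨x, -, rfl⟩ := List.mem_map.1 ha
        exact mul_self_nonneg _
    have n1 := nonneg ps₁
    have n2 := nonneg ps₂
    simp only [List.map_append, List.sum_append] at hR ⊢
    have hmem := pairs_mem (d := d) (C := C) (r := r) (R := R) n (ps₁.map Prod.snd) hlen
      (fun v hv => by
        obtain ⟨x, hx, rfl⟩ := List.mem_map.1 hv
        simpa [hfst x hx] using hm x (List.mem_append_left _ hx))
      (by simp only [List.map_map, Function.comp_def]; linarith)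
    simp only [List.map_map, Function.comp_def] at hmem
    simp only [scan, List.all_eq_true, Bool.or_eq_true, decide_eq_true_eq] at h
    have hnext := (h _ hmem).resolve_left (not_lt.2 (by linarith))
    have ih := scan_sound gs ps₂ _ _ _ _ hnext h2 (fun x hx => hm x (List.mem_append_right _ hx))
      (by linarith) (by linarith)
    have hsnd : (ps₁.map fun x => x.2).sum = (ps₁.map Prod.snd).sum := rfl
    have e1 : (ps₁.map fun x => sg x.1 * x.2).sum = sg d * (ps₁.map Prod.snd).sum := by
      rw [List.map_congr_left (g := fun x => sg d * x.2) fun x hx => by rw [hfst x hx],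
        List.sum_map_mul_left, hsnd]
    have e2 : (ps₁.map fun x => sg x.1 * ((10200960 / x.1 : ℕ) : ℤ) * (x.2 * x.2)).sum =
        sg d * ((10200960 / d : ℕ) : ℤ) * (ps₁.map fun x => x.2 * x.2).sum := by
      rw [List.map_congr_left (g := fun x => sg d * ((10200960 / d : ℕ) : ℤ) * (x.2 * x.2))
        fun x hx => by rw [hfst x hx], List.sum_map_mul_left]
    have e3 : (ps₁.map fun x => (x.1 : ℤ) * x.2).sum = (d : ℤ) * (ps₁.map Prod.snd).sum := by
      rw [List.map_congr_left (g := fun x => (d : ℤ) * x.2) fun x hx => by rw [hfst x hx],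
        List.sum_map_mul_left, hsnd]
    rw [e1, e2, e3]
    simp only [← add_assoc]
    exact ih

end CfsgLib.M23Order.CentralCheck
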