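import Cfsg.Agent.Lib.M23Order.DegreesArith
import Cfsg.Agent.Lib.Small.Order7920
import Cfsg.Agent.Lib.M12Order.Tools

/-!
# Simple groups of order 10200960: the degrees (piece F of `tools/S1664_plan.md`)

The three blocks at 23, 11 and five are labelled as in the table of the Mathieu group; what they
leave of the order is one character of degree `253`.
-/

set_option autoImplicit false
set_option linter.style.haveILetI false
set_option linter.unusedSectionVars false
set_option linter.unnecessarySeqFocus false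

open Cfsg CfsgLib.Chars CfsgLib.CharApps CfsgLib.Blocks CfsgLib.Small

namespace CfsgLib.M23Order

open DegreesArith

universe u

variable {G : Type u} [Group G] [Finite G]

theorem Table.degree_append {p n : ℕ} (T : Table G p n) (i : Fin (n + 2)) :
    charDegree ((Fin.append T.a T.θ i : IrrCharacter G) : G → ℂ) =
      Fin.append T.list.1 ![T.list.2, T.list.2] i := by
  induction i using Fin.addCases with
  | left i => simp [Table.list]
  | right j =>
    simp only [Fin.append_right, Table.list]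
    fin_cases j
    · rfl
    · exact T.deg_θ

/-- A character whose degree is none of the block's vanishes at the elements of order `p`. -/
theorem Table.zero_of_degree {p n : ℕ} (T : Table G p n) {χ : IrrCharacter G} {d : ℕ}
    (hd : charDegree (χ : G → ℂ) = d) (h1 : d ≠ 1)
    (h : ∀ i, d ≠ Fin.append T.list.1 ![T.list.2, T.list.2] i)
    {x : G} (hx : orderOf x = p) : (χ : G → ℂ) x = 0 := by
  rcases T.cover χ with e | ⟨i, e⟩ | ⟨-, e⟩
  · subst e; exact absurd (hd.symm.trans ((deg_eq_one_iff _).mp (principal_apply _))) h1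
  · subst e; exact absurd (hd.symm.trans (T.degree_append i)) (h i)
  · exact e x hx

/-- The labels of the block at twenty-three against the other two blocks. -/
structure Label (T : TableTwentyThree G) (S : TableEleven G) (F : FiveBlock G) where
  σ : Equiv.Perm (Fin 10)
  deg : ∀ i, charDegree (T.a (σ i) : G → ℂ) = main23.1 i
  sgn : ∀ i, T.sgn (σ i) = sg23 i
  e1 : T.a (σ 1) = S.a 0
  e2 : T.a (σ 2) = S.a 1
  e6 : T.a (σ 6) = S.θ 0
  e7 : T.a (σ 7) = S.θ 1
  e3 : T.a (σ 3) = F.b 0
  five : (T.a (σ 6) = F.b 1 ∧ T.a (σ 7) = F.b 2) ∨ (T.a (σ 6) = F.b 2 ∧ T.a (σ 7) = F.b 1)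

variable (T : TableTwentyThree G) (S : TableEleven G)

theorem T_degree (hT : T.list = main23) :
    (∀ i, charDegree (T.a i : G → ℂ) = main23.1 i) ∧ ∀ j, charDegree (T.θ j : G → ℂ) = 770 := by
  refine ⟨fun i => congrFun (congrArg Prod.fst hT) i, fun j => ?_⟩
  have h : charDegree (T.θ 0 : G → ℂ) = 770 := congrArg Prod.snd hT
  fin_cases j
  · exact h
  · exact T.deg_θ.trans h

theorem S_degree (hS : S.list = main11) :
    charDegree (S.a 0 : G → ℂ) = 45 ∧ charDegree (S.a 1 : G → ℂ) = 45 ∧
      charDegree (S.a 2 : G → ℂ) = 230 ∧ charDegree (S.a 3 : G → ℂ) = 1035 ∧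
      (∀ j, charDegree (S.θ j : G → ℂ) = 896) := by
  have h1 := congrArg Prod.fst hS
  have h2 : charDegree (S.θ 0 : G → ℂ) = 896 := congrArg Prod.snd hS
  refine ⟨congrFun h1 0, congrFun h1 1, congrFun h1 2, congrFun h1 3, fun j => ?_⟩
  fin_cases j
  · exact h2
  · exact S.deg_θ.trans h2

/-- The characters of degree 45, 231, 896 are in the block at twenty-three. -/
theorem exists_index (hT : T.list = main23) {χ : IrrCharacter G} {v : ℕ}
    (hv : charDegree (χ : G → ℂ) = v) (hm : v = 45 ∨ v = 231 ∨ v = 896) :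
    ∃ i, χ = T.a i ∧ main23.1 i = v := by
  obtain ⟨hTd, hθd⟩ := T_degree T hT
  rcases T.cover χ with e | ⟨i, e⟩ | ⟨e, -⟩
  · rw [e, (deg_eq_one_iff _).mp (principal_apply _)] at hv; omega
  · induction i using Fin.addCases with
    | left i => rw [Fin.append_left] at e; exact ⟨i, e, by rw [← hTd i, ← e, hv]⟩
    | right j => rw [Fin.append_right] at e; rw [e, hθd] at hv; omega
  · rw [hv] at e; rcases hm with rfl | rfl | rfl <;> norm_num at e

theorem exists_label (F : FiveBlock G) (hT : T.list = main23) (hS : S.list = main11) : Nonempty (Label T S F) := by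
  obtain ⟨hTd, -⟩ := T_degree T hT
  obtain ⟨s0, s1, -, -, st⟩ := S_degree S hS
  obtain ⟨q, hq, hqv⟩ := exists_index T hT s0 (by omega)
  obtain ⟨q', hq', hqv'⟩ := exists_index T hT s1 (by omega)
  obtain ⟨r, hr, hrv⟩ := exists_index T hT (st 0) (by omega)
  obtain ⟨r', hr', hrv'⟩ := exists_index T hT (st 1) (by omega)
  obtain ⟨p, hp, hpv⟩ := exists_index T hT (χ := F.b 0) (v := 231) (F.deg 0) (by omega)
  obtain ⟨u, hu, huv⟩ := exists_index T hT (χ := F.b 1) (v := 896) (F.deg 1) (by omega)
  obtain ⟨w, hw, hwv⟩ := exists_index T hT (χ := F.b 2) (v := 896) (F.deg 2) (by omega)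
  obtain ⟨k1, k3, k6, kd, k2, k7⟩ := perm_spec q hqv p hpv r hrv
  have nq : q' ≠ q := by
    rintro rfl
    have : Fin.append S.a S.θ (Fin.castAdd 2 0) = Fin.append S.a S.θ (Fin.castAdd 2 1) := by
      rw [Fin.append_left, Fin.append_left, hq, hq']
    exact absurd (S.inj this) (by decide)
  have nr : r' ≠ r := by
    rintro rfl
    have : Fin.append S.a S.θ (Fin.natAdd 4 0) = Fin.append S.a S.θ (Fin.natAdd 4 1) := by
      rw [Fin.append_right, Fin.append_right, hr, hr']
    exact absurd (S.inj this) (by decide)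
  have nu : u ≠ w := by
    rintro rfl
    exact absurd (F.inj (hu.trans hw.symm)) (by decide)
  refine ⟨⟨perm q p r, fun i => by rw [hTd, (kd i).1], fun i => ?_, by rw [k1, hq],
    by rw [k2 q' hqv' nq, hq'], by rw [k6, hr], by rw [k7 r' hrv' nr, hr'], by rw [k3, hp], ?_⟩⟩
  · have h := T.sgn_eq (perm q p r i)
    rw [hTd, (kd i).1] at h
    exact sg23_spec i _ (by rcases h.1 with e | e <;> simp [e]) h.2
  · rw [k6, k7 r' hrv' nr, hu, hw]
    rcases idx_896 r hrv with rfl | rfl <;> rcases idx_896 r' hrv' with rfl | rfl <;>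
      rcases idx_896 u huv with rfl | rfl <;> rcases idx_896 w hwv with rfl | rfl <;>
      first | exact absurd rfl nr | exact absurd rfl nu | exact .inl ⟨rfl, rfl⟩ | exact .inr ⟨rfl, rfl⟩

/-- A character outside the two blocks has degree divisible by `253`. -/
theorem dvd_253 (hS : S.list = main11) {χ : IrrCharacter G} (h0 : χ ≠ principal G)
    (hT' : ∀ i, χ ≠ Fin.append T.a T.θ i) (h2 : χ ≠ S.a 2) (h3 : χ ≠ S.a 3) :
    253 ∣ charDegree (χ : G → ℂ) := by
  have h23 : 23 ∣ charDegree (χ : G → ℂ) := by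
    rcases T.cover χ with e | ⟨i, e⟩ | ⟨e, -⟩
    exacts [absurd e h0, absurd e (hT' i), e]
  obtain ⟨s0, s1, -, -, st⟩ := S_degree S hS
  have h11 : 11 ∣ charDegree (χ : G → ℂ) := by
    rcases S.cover χ with e | ⟨i, e⟩ | ⟨e, -⟩
    · exact absurd e h0
    · exfalso
      induction i using Fin.addCases with
      | left i =>
        rw [Fin.append_left] at e
        fin_cases i
        · change χ = S.a 0 at e; rw [e, s0] at h23; norm_num at h23
        · change χ = S.a 1 at e; rw [e, s1] at h23; norm_num at h23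
        · exact h2 e
        · exact h3 e
      | right j =>
        rw [Fin.append_right] at e
        rw [e, st] at h23; norm_num at h23
    · exact e
  exact Nat.Coprime.mul_dvd_of_dvd_of_dvd (by norm_num : Nat.Coprime 11 23) h11 h23

variable [IsSimpleGroup G] (hG : Nat.card G = 10200960)

include hG in
set_option maxHeartbeats 1000000 in
theorem chars (F : FiveBlock G) (hT : T.list = main23) (hS : S.list = main11) : Nonempty (Chars G) := by
  classical
  haveI := irrFintype G
  obtain ⟨L⟩ := exists_label T S F hT hS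
  obtain ⟨hTd, hθd⟩ := T_degree T hT
  obtain ⟨s0, s1, s2, s3, st⟩ := S_degree S hS
  have d1 : charDegree (principal G : G → ℂ) = 1 := (deg_eq_one_iff _).mp (principal_apply _)
  have db3 : charDegree (F.b 3 : G → ℂ) = 2024 := F.deg 3
  obtain ⟨a, ha⟩ : ∃ a : Fin 10 → IrrCharacter G, a = fun i => T.a (L.σ i) := ⟨_, rfl⟩
  have had : ∀ i, charDegree (a i : G → ℂ) = main23.1 i := fun i => by rw [ha]; exact L.deg i
  obtain ⟨g, hg⟩ : ∃ g : Fin 16 → IrrCharacter G, g = ![principal G, a 0, a 1, a 2, S.a 2, a 3,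
      a 4, a 5, T.θ 0, T.θ 1, a 6, a 7, a 8, a 9, S.a 3, F.b 3] := ⟨_, rfl⟩
  have hgd : ∀ i, charDegree (g i : G → ℂ) = degs16 i := by
    intro i
    fin_cases i <;> simp [hg, degs16, main23, d1, had, hθd, s2, s3, db3]
  -- the last character
  have htot : ∑ χ : IrrCharacter G, charDegree (χ : G → ℂ) ^ 2 = 10200960 := by
    rw [sum_degree_sq_nat (G := G), hG]
  have hgsum : ∑ χ ∈ Finset.univ.image g, charDegree (χ : G → ℂ) ^ 2 ≤ 10136951 := by
    refine (Finset.sum_image_le_of_nonneg fun _ _ => Nat.zero_le _).trans ?_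
    rw [Finset.sum_congr rfl fun i _ => by rw [hgd i], degs16_sum]
  obtain ⟨N, hNg, hNne⟩ : ∃ N, N ∈ (Finset.univ : Finset (IrrCharacter G)) ∧ N ∉ Finset.univ.image g := by
    by_contra h
    push Not at h
    have := Finset.sum_le_sum_of_subset (f := fun χ : IrrCharacter G => charDegree (χ : G → ℂ) ^ 2) h
    omega
  have hN253 : 253 ∣ charDegree (N : G → ℂ) := by
    have hne : ∀ i, g i ≠ N := fun i e => hNne (Finset.mem_image.2 ⟨i, Finset.mem_univ _, e⟩)
    subst hg
    refine dvd_253 T S hS (fun e => hne 0 e.symm) (fun i => ?_) (fun e => hne 4 e.symm)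
      (fun e => hne 14 e.symm)
    induction i using Fin.addCases with
    | left j =>
      rw [Fin.append_left]
      intro e
      have hj : a (L.σ.symm j) = N := by rw [ha, e]; simp
      obtain ⟨i, rfl⟩ : ∃ i, L.σ i = j := L.σ.surjective j
      rw [L.σ.symm_apply_apply] at hj
      fin_cases i
      exacts [hne 1 hj, hne 2 hj, hne 3 hj, hne 5 hj, hne 6 hj, hne 7 hj, hne 10 hj, hne 11 hj,
        hne 12 hj, hne 13 hj]
    | right j =>
      rw [Fin.append_right]
      intro e
      fin_cases j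
      · exact hne 8 e.symm
      · exact hne 9 e.symm
  obtain ⟨f, hf⟩ : ∃ f : Fin 17 → IrrCharacter G, f = ![principal G, a 0, a 1, a 2, S.a 2, a 3,
      a 4, a 5, N, T.θ 0, T.θ 1, a 6, a 7, a 8, a 9, S.a 3, F.b 3] := ⟨_, rfl⟩
  have hgle : charDegree (N : G → ℂ) ^ 2 + ∑ χ ∈ Finset.univ.image g, charDegree (χ : G → ℂ) ^ 2 ≤
      10200960 := by
    rw [← Finset.sum_insert hNne (f := fun χ : IrrCharacter G => charDegree (χ : G → ℂ) ^ 2), ← htot]
    exact Finset.sum_le_univ_sum_of_nonneg fun _ => Nat.zero_le _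
  have hginj : Function.Injective a := fun x y e => by
    rw [ha] at e
    have e' : Fin.append T.a T.θ (Fin.castAdd 2 (L.σ x)) = Fin.append T.a T.θ (Fin.castAdd 2 (L.σ y)) := by
      rw [Fin.append_left, Fin.append_left]; exact e
    exact L.σ.injective (Fin.castAdd_injective _ _ (T.inj e'))
  have hθne : T.θ 0 ≠ T.θ 1 := fun e => absurd
    (T.inj (show Fin.append T.a T.θ (Fin.natAdd 10 0) = Fin.append T.a T.θ (Fin.natAdd 10 1) by
      rw [Fin.append_right, Fin.append_right, e])) (by decide)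
  have hgi : Function.Injective g := by
    have key : ∀ i j, degs16 i = degs16 j → i < j → (i, j) ∈
        ([(2, 3), (5, 6), (5, 7), (6, 7), (8, 9), (10, 11), (12, 13)] : List (Fin 16 × Fin 16)) := by
      decide +kernel
    have main : ∀ i j, i < j → g i ≠ g j := by
      intro i j hij e
      have h := key i j (by rw [← hgd i, ← hgd j, e]) hij
      simp only [List.mem_cons, Prod.mk.injEq, List.not_mem_nil, or_false] at h
      subst hg
      rcases h with ⟨rfl, rfl⟩ | ⟨rfl, rfl⟩ | ⟨rfl, rfl⟩ | ⟨rfl, rfl⟩ | ⟨rfl, rfl⟩ | ⟨rfl, rfl⟩ | ⟨rfl, rfl⟩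
      exacts [absurd (hginj e) (by decide), absurd (hginj e) (by decide), absurd (hginj e) (by decide),
        absurd (hginj e) (by decide), hθne e, absurd (hginj e) (by decide), absurd (hginj e) (by decide)]
    intro i j e
    rcases lt_trichotomy i j with h | h | h
    exacts [absurd e (main i j h), h, absurd e.symm (main j i h)]
  have hN : charDegree (N : G → ℂ) = 253 := by
    rw [Finset.sum_image (fun i _ j _ e => hgi e), Finset.sum_congr rfl (fun i _ => by rw [hgd i]),
      degs16_sum] at hgle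
    obtain ⟨k, hk⟩ := hN253
    have hk0 : k ≠ 0 := fun e => (CfsgLib.Blocks.charDegree_pos N).ne' (by rw [hk, e, mul_zero])
    rw [hk, mul_pow] at hgle
    have : k ≤ 1 := by nlinarith
    rw [hk, show k = 1 by omega]
  have hfd : ∀ i, charDegree (f i : G → ℂ) = degs i := by
    intro i
    fin_cases i <;> simp [hf, degs, main23, d1, had, hθd, s2, s3, hN, db3]
  have hinj : Function.Injective f := by
    have main : ∀ i j, i < j → f i ≠ f j := by
      intro i j hij e
      have h := degs_eq i j (by rw [← hfd i, ← hfd j, e]) hij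
      simp only [List.mem_cons, Prod.mk.injEq, List.not_mem_nil, or_false] at h
      subst hf
      rcases h with ⟨rfl, rfl⟩ | ⟨rfl, rfl⟩ | ⟨rfl, rfl⟩ | ⟨rfl, rfl⟩ | ⟨rfl, rfl⟩ | ⟨rfl, rfl⟩ | ⟨rfl, rfl⟩
      exacts [absurd (hginj e) (by decide), absurd (hginj e) (by decide), absurd (hginj e) (by decide),
        absurd (hginj e) (by decide), hθne e, absurd (hginj e) (by decide), absurd (hginj e) (by decide)]
    intro i j e
    rcases lt_trichotomy i j with h | h | h
    exacts [absurd e (main i j h), h, absurd e.symm (main j i h)]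
  have hbij : Function.Bijective f := by
    refine ⟨hinj, fun χ => ?_⟩
    by_contra hne
    push Not at hne
    have hsub := Finset.sum_le_univ_sum_of_nonneg (s := insert χ (Finset.univ.image f))
      (f := fun ψ : IrrCharacter G => charDegree (ψ : G → ℂ) ^ 2) (fun _ => Nat.zero_le _)
    rw [Finset.sum_insert (by simpa using fun i => hne i), Finset.sum_image (fun i _ j _ e => hinj e),
      Finset.sum_congr rfl (fun i _ => by rw [hfd i]), degs_sum, htot] at hsub
    have h1 : 1 ≤ charDegree (χ : G → ℂ) ^ 2 := Nat.one_le_pow _ _ (CfsgLib.Blocks.charDegree_pos χ)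
    omega
  -- the signs
  have sS : S.sgn 0 = 1 ∧ S.sgn 1 = 1 ∧ S.sgn 2 = -1 ∧ S.sgn 3 = 1 ∧ S.ε = 1 := by
    have q0 := S.sgn_eq 0
    have q1 := S.sgn_eq 1
    have q2 := S.sgn_eq 2
    have q3 := S.sgn_eq 3
    have he := S.ε_eq
    rw [s0] at q0; rw [s1] at q1; rw [s2] at q2; rw [s3] at q3; rw [st 0] at he
    omega
  have hεT : T.ε = 1 := by
    have h := T.ε_eq
    rw [hθd 0] at h
    omega
  have a1 : a 1 = S.a 0 := by rw [ha]; exact L.e1
  have a2 : a 2 = S.a 1 := by rw [ha]; exact L.e2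
  have a6 : a 6 = S.θ 0 := by rw [ha]; exact L.e6
  have a7 : a 7 = S.θ 1 := by rw [ha]; exact L.e7
  have a3 : a 3 = F.b 0 := by rw [ha]; exact L.e3
  have a67 : (a 6 = F.b 1 ∧ a 7 = F.b 2) ∨ (a 6 = F.b 2 ∧ a 7 = F.b 1) := by rw [ha]; exact L.five
  refine ⟨{ c := Equiv.ofBijective f hbij, deg := hfd, principal := by simp [hf], rel23 := ?_,
            rel11 := ?_, rel5 := ?_, at23 := ?_, at11 := ?_, at5 := ?_ }⟩
  · intro x hx
    have r0 := T.rel 0 x hx
    have r1 := T.rel 1 x hx
    rw [hεT, Int.cast_one, one_mul] at r0 r1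
    refine ⟨by simpa [hf] using r0.trans r1.symm, ?_⟩
    rw [← Equiv.sum_comp L.σ fun i => (T.sgn i : ℂ) * (T.a i : G → ℂ) x,
      Finset.sum_congr rfl fun i _ => by rw [L.sgn i, ← show a i = T.a (L.σ i) by rw [ha]]] at r0
    simp [Fin.sum_univ_succ, sg23] at r0
    simp [Fin.sum_univ_succ, hf, r23, principal_apply]
    linear_combination -r0
  · intro x hx
    have r0 := S.rel 0 x hx
    have r1 := S.rel 1 x hx
    rw [Fin.sum_univ_four, sS.1, sS.2.1, sS.2.2.1, sS.2.2.2.1, sS.2.2.2.2, ← a6, ← a1, ← a2] at r0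
    rw [Fin.sum_univ_four, sS.1, sS.2.1, sS.2.2.1, sS.2.2.2.1, sS.2.2.2.2, ← a7, ← a1, ← a2] at r1
    push_cast at r0 r1
    refine ⟨?_, ?_⟩
    · simp [hf]; linear_combination r0 - r1
    · simp [Fin.sum_univ_succ, hf, r11, principal_apply]
      linear_combination -r0
  · intro x hx
    have h := F.rel5 x hx
    simp [Fin.sum_univ_four, sgn5, ← a3] at h
    simp [Fin.sum_univ_succ, hf, r5, principal_apply]
    rcases a67 with ⟨e1, e2⟩ | ⟨e1, e2⟩ <;> rw [e1, e2] <;> linear_combination h
  · intro x hx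
    have hz : ∀ (χ : IrrCharacter G) (d : ℕ), charDegree (χ : G → ℂ) = d →
        d ∈ [230, 253, 1035, 2024] → (χ : G → ℂ) x = 0 := by
      intro χ d hd hm
      have key : ∀ d ∈ [230, 253, 1035, 2024], d ≠ 1 ∧
          ∀ i, d ≠ Fin.append main23.1 ![main23.2, main23.2] i := by decide +kernel
      refine T.zero_of_degree hd (key _ hm).1 (fun i => ?_) hx
      rw [hT]; exact (key _ hm).2 i
    have za := hz _ _ s2 (by simp)
    have zb := hz _ _ s3 (by simp)
    have zN := hz _ _ hN (by simp)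
    have zF := hz _ _ db3 (by simp)
    have hA : ∀ i, (a i : G → ℂ) x = (sg23 i : ℂ) := fun i => by
      rw [ha, ← L.sgn i]; exact T.at_p _ x hx
    refine ⟨fun i h1 h2 => ?_, ?_⟩
    · show (f i : G → ℂ) x = _
      fin_cases i <;> first
        | exact absurd rfl h1
        | exact absurd rfl h2
        | simp [hf, r23, sg23, hA, za, zb, zN, zF, principal_apply]
    · have := T.at_p_θ x hx
      rw [hεT] at this
      simpa [hf] using this
  · intro x hx
    have hz : ∀ (χ : IrrCharacter G) (d : ℕ), charDegree (χ : G → ℂ) = d →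
        d ∈ [22, 231, 253, 770, 990, 2024] → (χ : G → ℂ) x = 0 := by
      intro χ d hd hm
      have key : ∀ d ∈ [22, 231, 253, 770, 990, 2024], d ≠ 1 ∧
          ∀ i, d ≠ Fin.append main11.1 ![main11.2, main11.2] i := by decide +kernel
      refine S.zero_of_degree hd (key _ hm).1 (fun i => ?_) hx
      rw [hS]; exact (key _ hm).2 i
    have z0 := hz _ _ (had 0) (by decide)
    have z3 := hz _ _ (had 3) (by decide)
    have z4 := hz _ _ (had 4) (by decide)
    have z5 := hz _ _ (had 5) (by decide)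
    have z8 := hz _ _ (had 8) (by decide)
    have z9 := hz _ _ (had 9) (by decide)
    have zt0 := hz _ _ (hθd 0) (by simp)
    have zt1 := hz _ _ (hθd 1) (by simp)
    have zN := hz _ _ hN (by simp)
    have zF := hz _ _ db3 (by simp)
    have v1 : (a 1 : G → ℂ) x = 1 := by rw [a1, S.at_p 0 x hx, sS.1]; simp
    have v2 : (a 2 : G → ℂ) x = 1 := by rw [a2, S.at_p 1 x hx, sS.2.1]; simp
    have w2 : (S.a 2 : G → ℂ) x = -1 := by rw [S.at_p 2 x hx, sS.2.2.1]; simp
    have w3 : (S.a 3 : G → ℂ) x = 1 := by rw [S.at_p 3 x hx, sS.2.2.2.1]; simp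
    refine ⟨fun i h1 h2 => ?_, ?_⟩
    · show (f i : G → ℂ) x = _
      fin_cases i <;> first
        | exact absurd rfl h1
        | exact absurd rfl h2
        | simp [hf, r11, z0, z3, z4, z5, z8, z9, zt0, zt1, zN, zF, v1, v2, w2, w3, principal_apply]
    · have := S.at_p_θ x hx
      rw [sS.2.2.2.2, ← a6, ← a7] at this
      simpa [hf] using this
  · intro w hw i hne
    have v0 : (a 3 : G → ℂ) w = 1 := by rw [a3, F.at5 w hw 0]; simp [sgn5]
    have v1 : (F.b 1 : G → ℂ) w = 1 := by rw [F.at5 w hw 1]; simp [sgn5]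
    have v2 : (F.b 2 : G → ℂ) w = 1 := by rw [F.at5 w hw 2]; simp [sgn5]
    have v3 : (F.b 3 : G → ℂ) w = -1 := by rw [F.at5 w hw 3]; simp [sgn5]
    have v67 : (a 6 : G → ℂ) w = 1 ∧ (a 7 : G → ℂ) w = 1 := by
      rcases a67 with ⟨e1, e2⟩ | ⟨e1, e2⟩ <;> rw [e1, e2] <;> exact ⟨by assumption, by assumption⟩
    show (f i : G → ℂ) w = _
    fin_cases i <;> first
      | exact absurd rfl hne
      | simp [hf, r5, v0, v67.1, v67.2, v3, principal_apply]

/-- Piece F. -/
theorem degrees : DegreesStmt.{u} := fun G _ _ hs hG _ _ T S hT hS F => by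
  haveI := hs
  exact chars (G := G) T S hG F (central_eq _ hT) hS

end CfsgLib.M23Order
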