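import Cfsg.Agent.Lib.M23Order.Interface

/-!
# Simple groups of order 10200960: the arithmetic of the labels
-/

set_option autoImplicit false

namespace CfsgLib.M23Order.DegreesArith

/-- The true list at twenty-three. -/
def main23 : (Fin 10 → ℕ) × ℕ := (![22, 45, 45, 231, 231, 231, 896, 896, 990, 990], 770)

/-- The sign at twenty-three that goes with a degree. -/
def sg23 : Fin 10 → ℤ := ![-1, -1, -1, 1, 1, 1, -1, -1, 1, 1]

theorem central_eq : ∀ ℓ ∈ listsCentral, ℓ = main23 := by decide +kernel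

theorem sg23_spec : ∀ i, ∀ s ∈ ([1, -1] : List ℤ),
    s * (main23.1 i : ℤ) % 23 = 1 → s = sg23 i := by decide +kernel

/-- The permutation that moves three given indices to their places. -/
def perm (q p r : Fin 10) : Equiv.Perm (Fin 10) :=
  Equiv.swap 1 q * Equiv.swap 3 p * Equiv.swap 6 r

theorem perm_spec : ∀ q, main23.1 q = 45 → ∀ p, main23.1 p = 231 → ∀ r, main23.1 r = 896 →
    perm q p r 1 = q ∧ perm q p r 3 = p ∧ perm q p r 6 = r ∧
      (∀ i, main23.1 (perm q p r i) = main23.1 i ∧ sg23 (perm q p r i) = sg23 i) ∧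
      (∀ j, main23.1 j = 45 → j ≠ q → perm q p r 2 = j) ∧
      (∀ j, main23.1 j = 896 → j ≠ r → perm q p r 7 = j) := by decide +kernel

theorem idx_896 : ∀ i, main23.1 i = 896 → i = 6 ∨ i = 7 := by decide +kernel

/-- Which positions share a degree. -/
theorem degs_eq : ∀ i j, degs i = degs j → i < j →
    (i, j) ∈ ([(2, 3), (5, 6), (5, 7), (6, 7), (9, 10), (11, 12), (13, 14)] : List (Fin 17 × Fin 17)) := by
  decide +kernel

theorem degs_sum : ∑ i, degs i ^ 2 = 10200960 := by decide +kernel

/-- The sixteen degrees besides `253`. -/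
def degs16 : Fin 16 → ℕ :=
  ![1, 22, 45, 45, 230, 231, 231, 231, 770, 770, 896, 896, 990, 990, 1035, 2024]

theorem degs16_sum : ∑ i, degs16 i ^ 2 = 10136951 := by decide +kernel

end CfsgLib.M23Order.DegreesArith
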