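import Cfsg.Agent.Lib.M23Order.Interface
import Cfsg.Agent.Lib.Small.Order7920
import Cfsg.Agent.Lib.M12Order.Tools
import Cfsg.Agent.Lib.M12Order.FiveEvenTools
import Cfsg.Agent.Lib.CharApps.Galois
import Cfsg.Agent.S4441

/-!
# Simple groups of order 10200960: the principal block at five

Nothing is assumed about the centralizer of an element of order five: the automizer of its Sylow
subgroup has order two or four; in the second case five characters have values `1, -1` there.
-/

set_option autoImplicit false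
set_option linter.style.haveILetI false
set_option linter.unusedSectionVars false

open Cfsg CfsgLib.Chars CfsgLib.CharApps CfsgLib.Blocks CfsgLib.Small

namespace CfsgLib.M23Order.DegreesFive

universe u

variable {G : Type u} [Group G] [Finite G]

/-- In the principal block with a defect group of order `p` the columns at the defect group and
at the identity are orthogonal. -/
theorem sum_block_eq_zero {p : ℕ} [Fact p.Prime] {M : Ideal AlgInt} (hM : IsPModular p M)
    (P : Sylow p G) (hP : Nat.card (P : Subgroup G) = p) (hsq : ¬ p ^ 2 ∣ Nat.card G)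
    (Bf : Finset (IrrCharacter G)) (hB : ∀ χ, χ ∈ Bf ↔ χ ∈ principalBlock M G)
    {x : G} (hx : x ∈ (P : Subgroup G)) (hx1 : x ≠ 1) :
    ∑ χ ∈ Bf, (χ : G → ℂ) 1 * (χ : G → ℂ) x = 0 := by
  classical
  haveI := Fintype.ofFinite G
  haveI := irrFintype G
  haveI := hM.2.1.isPrime
  haveI : Fintype (Subgroup.centralizer ((P : Subgroup G) : Set G)) := Fintype.ofFinite _
  have hpair : IsBrauerPairOf p M (principalBlock M G) (P : Subgroup G)
      (principalBlock M (Subgroup.centralizer ((P : Subgroup G) : Set G))) :=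
    CfsgLib.Blocks.isBrauerPairOf_principalPair (M := M) hM.2.2 P.2
  have hθb := CfsgLib.Blocks.principal_mem_principalBlock
    (G := Subgroup.centralizer ((P : Subgroup G) : Set G)) M
  have hC1 : ∀ y : Subgroup.centralizer ((P : Subgroup G) : Set G), (CfsgLib.Chars.principal
      (Subgroup.centralizer ((P : Subgroup G) : Set G)) :
        Subgroup.centralizer ((P : Subgroup G) : Set G) → ℂ) y = 1 :=
    fun y => CfsgLib.Chars.principal_apply y
  have hθP : ∀ y : Subgroup.centralizer ((P : Subgroup G) : Set G), (y : G) ∈ (P : Subgroup G) →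
      (CfsgLib.Chars.principal (Subgroup.centralizer ((P : Subgroup G) : Set G)) :
        Subgroup.centralizer ((P : Subgroup G) : Set G) → ℂ) y =
      (CfsgLib.Chars.principal (Subgroup.centralizer ((P : Subgroup G) : Set G)) :
        Subgroup.centralizer ((P : Subgroup G) : Set G) → ℂ) 1 := fun y _ => by rw [hC1, hC1]
  have hxne : (⟨x, hx⟩ : (P : Subgroup G)) ≠ 1 := fun h => hx1 (congrArg Subtype.val h)
  have hp1 : ¬ p ∣ orderOf (1 : G) := by rw [orderOf_one]; exact (Fact.out : p.Prime).not_dvd_one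
  have hxi : ∀ χ ∈ principalBlock M G,
      xiFun (principalBlock M (Subgroup.centralizer ((P : Subgroup G) : Set G)))
        ((χ : IrrCharacter G) : G → ℂ) ⟨x, hx⟩ = (χ : G → ℂ) x := by
    intro χ hχ
    have hxp : ∃ k : ℕ, x ^ p ^ k = 1 :=
      ⟨1, by rw [pow_one]; exact CfsgLib.Modular.pow_p_eq_one hP hx⟩
    have h := secVal_principal hM hχ (Commute.one_right x) hxp hp1
    rw [CfsgLib.Blocks.zpowers_eq_of_prime hP hx hx1] at h
    have h2 := secVal_pair_eq hM hP hsq hpair hθb hθP χ hxne (y := 1)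
      (by rw [orderOf_one]; exact (Fact.out : p.Prime).not_dvd_one)
    rw [hC1, mul_one] at h2
    rw [← h2]
    simpa [principalPair] using h
  have h0 := sum_mul_xiFun_eq_zero hM hP hsq hpair (g := (1 : G)) hp1 hxne
  rw [← Finset.sum_coe_sort Bf]
  refine Eq.trans ?_ h0
  refine Fintype.sum_equiv (Equiv.subtypeEquivRight hB) _ _ fun i => ?_
  show _ = (i.1 : G → ℂ) 1 * xiFun _ (i.1 : G → ℂ) ⟨x, hx⟩
  rw [hxi i.1 ((hB i.1).1 i.2)]

/-- The five characters of the block when the automizer has order four. -/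
structure FiveSet (G : Type u) [Group G] [Finite G] where
  f : Fin 4 → IrrCharacter G
  s : Fin 4 → ℤ
  inj : Function.Injective f
  ne : ∀ i, f i ≠ principal G
  sign : ∀ i, s i = 1 ∨ s i = -1
  degree : ∀ i, s i * (charDegree (f i : G → ℂ) : ℤ) % 5 = 1
  rel : ∀ g : G, ¬ 5 ∣ orderOf g → 1 + ∑ i, (s i : ℂ) * (f i : G → ℂ) g = 0
  val : ∀ w : G, orderOf w = 5 → ∀ i, (f i : G → ℂ) w = (s i : ℂ)

/-- The block when the automizer has order two: what its degrees satisfy. -/
def TwoShape (G : Type u) [Group G] [Finite G] : Prop :=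
  ∃ (χ θ θ' : IrrCharacter G) (s ε : ℤ), χ ≠ principal G ∧ θ ≠ principal G ∧ θ ≠ θ' ∧
    (s = 1 ∨ s = -1) ∧ s * (charDegree (χ : G → ℂ) : ℤ) % 5 = 1 ∧
    charDegree (θ' : G → ℂ) = charDegree (θ : G → ℂ) ∧ (ε = 1 ∨ ε = -1) ∧
    ε * (charDegree (θ : G → ℂ) : ℤ) = 1 + s * (charDegree (χ : G → ℂ) : ℤ) ∧
    ε * (charDegree (θ : G → ℂ) : ℤ) % 5 = 2

/-- The two shapes. -/
theorem five_cases [IsSimpleGroup G] (hG : Nat.card G = 10200960) :
    Nonempty (FiveSet G) ∨ TwoShape G := by
  classical
  haveI := Fact.mk (show Nat.Prime 5 by norm_num)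
  haveI := Fintype.ofFinite G
  haveI := irrFintype G
  have hnab : ¬ IsMulCommutative G := not_isMulCommutative_of_card (by rw [hG]; norm_num)
  have hp1 : charDegree (principal G : G → ℂ) = 1 :=
    (deg_eq_one_iff (principal G)).mp (principal_apply _)
  have heq1 : ∀ χ : IrrCharacter G, charDegree (χ : G → ℂ) = 1 → χ = principal G := fun χ h =>
    eq_of_degree_one hnab h hp1
  obtain ⟨P⟩ := (inferInstance : Nonempty (Sylow 5 G))
  have hP : Nat.card (P : Subgroup G) = 5 := by
    simpa using card_sylow_eq (p := 5) 1 2040192 (by rw [hG]; norm_num) (by norm_num) P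
  have hsq : ¬ 5 ^ 2 ∣ Nat.card G := by rw [hG]; norm_num
  obtain ⟨e, he1, hed, hce⟩ := exists_normalizer_centralizer hnab P hP
  have hrel : (Subgroup.centralizer ((P : Subgroup G) : Set G)).relIndex
      (Subgroup.normalizer ((P : Subgroup G) : Set G)) = e := by
    have h := Subgroup.relIndex_mul_relIndex ⊥ (Subgroup.centralizer ((P : Subgroup G) : Set G))
      (Subgroup.normalizer ((P : Subgroup G) : Set G)) bot_le (Subgroup.centralizer_le_normalizer _)
    rw [Subgroup.relIndex_bot_left, Subgroup.relIndex_bot_left] at h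
    exact Nat.eq_of_mul_eq_mul_left Nat.card_pos (h.trans hce.symm)
  obtain ⟨M, hM⟩ := CharApps.exists_pModular (p := 5)
  obtain ⟨X, Y, σ, ε, hB, hdisj, hX, hY, hXp, hε, hYd, hYeq, hrelY⟩ :=
    Small.O7920.exists_block_data (by norm_num) hM P hP hrel
  have h5one : ¬ 5 ∣ orderOf (1 : G) := by rw [orderOf_one]; norm_num
  have hσdeg : ∀ θ ∈ Y, ε * (charDegree (θ : G → ℂ) : ℤ) =
      ∑ χ ∈ X, σ χ * (charDegree (χ : G → ℂ) : ℤ) := by
    intro θ hθ
    have h := hrelY θ hθ 1 h5one
    simp only [deg_eq] at h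
    exact_mod_cast h
  haveI := hM.2.1.isPrime
  have hpB := (hB _).1 (CfsgLib.Blocks.principal_mem_principalBlock M)
  have he4 : e = 2 ∨ e = 4 := by
    have := Nat.le_of_dvd (by norm_num) hed
    norm_num at hed this
    interval_cases e <;> omega
  rcases he4 with rfl | rfl
  · -- two
    right
    norm_num at hY
    obtain ⟨θ, θ', hne, rfl⟩ := Finset.card_eq_two.1 hY
    have hθ : θ ∈ ({θ, θ'} : Finset (IrrCharacter G)) := by simp
    have hθ' : θ' ∈ ({θ, θ'} : Finset (IrrCharacter G)) := by simp
    have hd' : charDegree (θ' : G → ℂ) = charDegree (θ : G → ℂ) := by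
      have h := hYeq θ' hθ' θ hθ 1 h5one
      rw [deg_eq, deg_eq] at h
      exact_mod_cast h
    have hnp : θ ≠ principal G ∧ θ' ≠ principal G := by
      constructor <;> intro h
      · exact hne (h.trans (heq1 _ (hd'.trans (h ▸ hp1))).symm)
      · exact hne ((heq1 _ (hd'.symm.trans (h ▸ hp1))).trans h.symm)
    have hprin : principal G ∈ X := by
      rcases hpB with h | h
      · exact h
      · simp only [Finset.mem_insert, Finset.mem_singleton] at h
        rcases h with h | h
        · exact absurd h.symm hnp.1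
        · exact absurd h.symm hnp.2
    obtain ⟨χ, hχe⟩ := Finset.card_eq_one.1 (show (X.erase (principal G)).card = 1 by
      rw [Finset.card_erase_of_mem hprin, hX])
    have hχX : χ ∈ X ∧ χ ≠ principal G := by
      have h : χ ∈ X.erase (principal G) := by simp [hχe]
      rw [Finset.mem_erase] at h
      exact ⟨h.2, h.1⟩
    have hσp : σ (principal G) = 1 := by
      have h := (hXp _ hprin).2.1
      rw [hp1, Int.ModEq] at h
      rcases (hXp _ hprin).1 with h' | h' <;> rw [h'] at h ⊢ <;> omega
    refine ⟨χ, θ, θ', σ χ, ε, hχX.2, hnp.1, hne, (hXp χ hχX.1).1, ?_, hd', hε, ?_, ?_⟩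
    · have h := (hXp χ hχX.1).2.1
      unfold Int.ModEq at h
      simpa using h
    · rw [hσdeg θ hθ, ← Finset.add_sum_erase _ _ hprin, hχe, Finset.sum_singleton, hσp, hp1]
      norm_num
    · have h := hYd θ hθ
      unfold Int.ModEq at h
      simpa using h
  · -- four
    left
    norm_num at hY
    obtain ⟨θ, rfl⟩ := Finset.card_eq_one.1 hY
    have hθX : θ ∉ X := fun h => Finset.disjoint_left.1 hdisj h (Finset.mem_singleton_self _)
    obtain ⟨x, hxP, hx5⟩ : ∃ x ∈ (P : Subgroup G), orderOf x = 5 := by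
      obtain ⟨⟨x, hxP⟩, hx⟩ := exists_prime_orderOf_dvd_card' (G := (P : Subgroup G)) 5 (by rw [hP])
      exact ⟨x, hxP, by rwa [Subgroup.orderOf_mk] at hx⟩
    let m : IrrCharacter G → ℤ := fun χ => if χ = θ then -ε else σ χ
    have hmX : ∀ χ ∈ X, m χ = σ χ := fun χ hχ => if_neg fun (h : χ = θ) => hθX (h ▸ hχ)
    have hmθ : m θ = -ε := if_pos rfl
    set Bf := insert θ X with hBf
    have hBmem : ∀ χ, χ ∈ Bf ↔ χ ∈ principalBlock M G := by
      intro χ
      rw [hB, hBf, Finset.mem_insert, Finset.mem_singleton]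
      exact or_comm
    -- the value of the last character
    have hvalP : ∀ y ∈ (P : Subgroup G), y ≠ 1 → ∀ χ ∈ Bf, (χ : G → ℂ) y = (m χ : ℂ) := by
      intro y hy hy1 χ hχ
      rcases Finset.mem_insert.1 hχ with rfl | hχ
      · have h := sum_block_eq_zero hM P hP hsq Bf hBmem hy hy1
        rw [hBf, Finset.sum_insert hθX, Finset.sum_congr rfl (g := fun χ => ((σ χ *
          (charDegree (χ : G → ℂ) : ℤ) : ℤ) : ℂ)) fun χ hχ => by
            rw [(hXp χ hχ).2.2 y hy hy1, deg_eq]; push_cast; ring,
          ← Int.cast_sum, ← hσdeg χ (Finset.mem_singleton_self _), deg_eq] at h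
        push_cast at h
        have hpos : (charDegree (χ : G → ℂ) : ℂ) ≠ 0 :=
          Nat.cast_ne_zero.2 (CfsgLib.Blocks.charDegree_pos χ).ne'
        rw [hmθ]
        refine mul_left_cancel₀ hpos ?_
        push_cast
        linear_combination h
      · rw [(hXp χ hχ).2.2 y hy hy1, hmX χ hχ]
    have hval : ∀ w : G, orderOf w = 5 → ∀ χ ∈ Bf, (χ : G → ℂ) w = (m χ : ℂ) := by
      intro w hw χ hχ
      obtain ⟨Q, hQ, -⟩ := M12Order.FiveEven.exists_sylow_zpowers hsq hw
      obtain ⟨g, hg⟩ := MulAction.exists_smul_eq G Q P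
      have hmem : g * w * g⁻¹ ∈ (P : Subgroup G) := by
        have h1 : w ∈ (Q : Subgroup G) := hQ ▸ Subgroup.mem_zpowers w
        rw [← hg, Sylow.coe_subgroup_smul]
        exact ⟨w, h1, rfl⟩
      rw [← hvalP _ hmem (fun e => by rw [conj_eq_one_iff] at e; rw [e, orderOf_one] at hw; omega) χ hχ]
      have h3 := isClassFunction_irr χ w g
      exact h3.symm
    have hmd : ∀ χ ∈ Bf, (m χ = 1 ∨ m χ = -1) ∧ m χ * (charDegree (χ : G → ℂ) : ℤ) % 5 = 1 := by
      intro χ hχ
      rcases Finset.mem_insert.1 hχ with rfl | hχ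
      · have h := hYd χ (Finset.mem_singleton_self _)
        unfold Int.ModEq at h
        rw [hmθ]
        refine ⟨by omega, ?_⟩
        rcases hε with e | e <;> rw [e] at h ⊢ <;> omega
      · rw [hmX χ hχ]
        refine ⟨(hXp χ hχ).1, ?_⟩
        have h := (hXp χ hχ).2.1
        unfold Int.ModEq at h
        simpa using h
    have hrelB : ∀ g : G, ¬ 5 ∣ orderOf g → ∑ χ ∈ Bf, (m χ : ℂ) * (χ : G → ℂ) g = 0 := by
      intro g hg
      rw [hBf, Finset.sum_insert hθX, hmθ, Finset.sum_congr rfl fun χ hχ => by rw [hmX χ hχ],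
        ← hrelY θ (Finset.mem_singleton_self _) g hg]
      push_cast
      ring
    have hprin : principal G ∈ Bf := (hBmem _).2 (CfsgLib.Blocks.principal_mem_principalBlock M)
    have hmp : m (principal G) = 1 := by
      have h := hval x hx5 _ hprin
      rw [principal_apply] at h
      exact_mod_cast h.symm
    set T := Bf.erase (principal G) with hT
    have hTc : T.card = 4 := by
      rw [hT, Finset.card_erase_of_mem hprin, hBf, Finset.card_insert_of_notMem hθX, hX]
    let e : Fin 4 ≃ T := (T.equivFinOfCardEq hTc).symm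
    refine ⟨{ f := fun i => (e i : IrrCharacter G), s := fun i => m (e i),
              inj := fun i j h => e.injective (Subtype.ext h),
              ne := fun i => Finset.ne_of_mem_erase (e i).2,
              sign := fun i => (hmd _ (Finset.mem_of_mem_erase (e i).2)).1,
              degree := fun i => (hmd _ (Finset.mem_of_mem_erase (e i).2)).2,
              rel := fun g hg => ?_,
              val := fun w hw i => hval w hw _ (Finset.mem_of_mem_erase (e i).2) }⟩
    have h := hrelB g hg
    rw [← Finset.add_sum_erase _ _ hprin, hmp, principal_apply, ← hT, ← Finset.sum_coe_sort T,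
      ← Equiv.sum_comp e] at h
    simpa using h

end CfsgLib.M23Order.DegreesFive
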