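import Cfsg.Agent.Lib.M23Order.ElevenArithFive

/-!
# Simple groups of order 10200960: the three searches at eleven

Index five is searched in `ElevenArithFive.lean`; index two is a search with one pair; for index
ten the residues modulo twenty-three leave no search.
-/

set_option autoImplicit false
set_option linter.style.haveILetI false

namespace CfsgLib.M23Order.ElevenArith

open CfsgLib.M23Order.ElevenDefs

theorem search_two : centList.all (fun C => search C 5 1 (leafTwo C)) = true := by decide +kernel

/-- Index two leaves nothing. -/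
theorem arithTwo : ArithTwoStmt := by
  intro j c l T W hj hc h
  have hC : 0 < 22 * j := Nat.mul_pos (by norm_num) (Nat.pos_of_dvd_of_pos hj (by norm_num))
  have hlen : l.length = 1 := by simpa using h.len
  have hs := List.all_eq_true.1 search_two _ (mem_centList hj)
  rw [← hlen] at hs
  have hleaf := leaf_of_row h (Or.inl rfl) (m := 5) (by norm_num) hs
  simp only [leafTwo, Bool.not_eq_true', Bool.and_eq_false_iff] at hleaf
  rcases hleaf with hl | hl
  · rw [excB_of rfl rfl (h.exc (by norm_num))] at hl
    exact Bool.false_ne_true hl.symm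
  · obtain ⟨k, -, hk⟩ := h.square
    rw [List.any_eq_false] at hl
    exact hl c hc (squareB_of hC hk)

theorem residue_case {C : ℕ} {p : ℤ × ℤ} (hp : Pair C p) (hlt : p.1.natAbs < 3194)
    (h23 : p.1.natAbs % 23 ∈ ([0, 1, 11, 12, 22] : List ℕ)) :
    p.1 % 23 = 0 ∨ p.1 = 45 ∨ p.1 = -252 := by
  obtain ⟨h1, h2, h3, h4, h5, -, -⟩ := hp
  have hm := mem_signedDegs h1 h2 h3 hlt
  simp only [signedDegs, List.mem_cons, List.not_mem_nil, or_false] at hm h23
  omega

theorem sum_residue : ∀ l : List (ℤ × ℤ), (∀ p ∈ l, p.1 % 23 = 0 ∨ p.1 = 45 ∨ p.1 = -252) →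
    ∃ m : ℤ, (l.map fun p => p.1).sum = 23 * m - (l.countP fun p => p.1.natAbs == 45 : ℕ) +
      (l.countP fun p => p.1.natAbs == 252 : ℕ)
  | [], _ => ⟨0, by simp⟩
  | p :: l, h => by
    obtain ⟨m, hm⟩ := sum_residue l fun q hq => h q (List.mem_cons_of_mem _ hq)
    simp only [List.map_cons, List.sum_cons, List.countP_cons, hm]
    rcases h p List.mem_cons_self with h0 | h0 | h0
    · have n1 : (p.1.natAbs == 45) = false := by rw [beq_eq_false_iff_ne]; omega
      have n2 : (p.1.natAbs == 252) = false := by rw [beq_eq_false_iff_ne]; omega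
      refine ⟨m + p.1 / 23, ?_⟩
      simp only [n1, n2, Bool.false_eq_true, if_false, add_zero]
      omega
    · refine ⟨m + 2, ?_⟩
      simp [h0]
      ring
    · refine ⟨m - 11, ?_⟩
      simp [h0]
      ring

/-- Index ten. -/
theorem arithTen : ArithTenStmt := by
  intro j c l T W hj h h23
  have hcase : ∀ p ∈ l, p.1 % 23 = 0 ∨ p.1 = 45 ∨ p.1 = -252 := by
    intro p hp
    refine residue_case (h.pair p hp) ?_ (h23 p hp)
    have hsum := List.single_le_sum (l := l.map fun q => q.1 * q.1)
      (fun x hx => by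
        obtain ⟨q, -, rfl⟩ := List.mem_map.1 hx
        exact mul_self_nonneg _) _ (List.mem_map.2 ⟨p, hp, rfl⟩)
    have h0 := h.degSq
    have hT := (h.none rfl).1
    simp only [hT, mul_zero, add_zero] at h0
    by_contra hc
    have h1 := Nat.mul_le_mul (not_lt.1 hc) (not_lt.1 hc)
    have h2 : ((p.1.natAbs * p.1.natAbs : ℕ) : ℤ) = p.1 * p.1 := Int.natAbs_mul_self
    omega
  obtain ⟨m, hm⟩ := sum_residue l hcase
  have hT := h.deg
  rw [(h.none rfl).1, hm] at hT
  have hlen : l.length = 10 := by simpa using h.len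
  have hA : l.countP (fun p => p.1.natAbs == 45) ≤ 10 := hlen ▸ List.countP_le_length
  have hB : l.countP (fun p => p.1.natAbs == 252) ≤ 10 := hlen ▸ List.countP_le_length
  refine ⟨fun h9 => ?_, fun h7 => Or.inr ?_⟩
  · have h0 : l.countP (fun p => p.1.natAbs == 45) = 0 := List.countP_eq_zero.2 fun p hp e => by
      rw [beq_iff_eq] at e
      exact h9 p hp (by rw [e]; norm_num)
    have h1 : l.countP (fun p => p.1.natAbs == 252) = 0 := List.countP_eq_zero.2 fun p hp e => by
      rw [beq_iff_eq] at e
      exact h9 p hp (by rw [e]; norm_num)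
    omega
  · have h1 : l.countP (fun p => p.1.natAbs == 252) = 0 := List.countP_eq_zero.2 fun p hp e => by
      rw [beq_iff_eq] at e
      exact h7 p hp (by rw [e]; norm_num)
    unfold cnt
    omega

end CfsgLib.M23Order.ElevenArith
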