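import Cfsg.Agent.Lib.M23Order.ElevenFinish
import Cfsg.Agent.Lib.M23Order.ElevenArith

/-!
# Simple groups of order 10200960: piece B
-/

set_option autoImplicit false

namespace CfsgLib.M23Order

universe u

/-- Piece B. -/
theorem eleven : ElevenStmt.{u} :=
  eleven_of_arith ElevenArith.arithFive ElevenArith.arithTwo ElevenArith.arithTen

end CfsgLib.M23Order
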