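import Cfsg.Agent.Lib.M23Order.ElevenDefs

/-!
# Simple groups of order 10200960: the search at an involution centralizing a Sylow subgroup of
order eleven

The multisets of signed pairs are searched in decreasing order of size, with the bounds from the
two square sums and, for ten pairs, from the largest and smallest entries that are left.
-/

set_option autoImplicit false
set_option linter.style.haveILetI false

namespace CfsgLib.M23Order.ElevenArith

open CfsgLib.M23Order.ElevenDefs

/-- The signed degrees. -/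
def signedDegs : List ℤ :=
  [-10, 12, -21, 23, -32, 45, 56, -120, 144, 210, -230, -252,
    276, 320, -384, -483, -560, 672, -736, 1035, 1288, -1440, 2520, -2760]

theorem mem_signedDegs {f : ℤ} (h : f % 11 = 1) (h2 : 2 ≤ f.natAbs) (hd : f.natAbs ∣ 10200960)
    (hlt : f.natAbs < 3194) : f ∈ signedDegs := by
  have key : (List.range 3194).all (fun d => !(decide (2 ≤ d) && 10200960 % d == 0) ||
      ((d % 11 != 1 || decide ((d : ℤ) ∈ signedDegs)) &&
        (d % 11 != 10 || decide (-(d : ℤ) ∈ signedDegs)))) = true := by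
    decide +kernel
  have k0 := List.all_eq_true.1 key _ (List.mem_range.2 hlt)
  simp only [decide_eq_true h2, Bool.true_and, Nat.mod_eq_zero_of_dvd hd, beq_self_eq_true,
    Bool.not_true, Bool.false_or, Bool.and_eq_true, Bool.or_eq_true, bne_iff_ne, decide_eq_true_eq] at k0
  have k1 : f.natAbs % 11 = 1 → (f.natAbs : ℤ) ∈ signedDegs := fun e => k0.1.resolve_left (not_not.2 e)
  have k2 : f.natAbs % 11 = 10 → -(f.natAbs : ℤ) ∈ signedDegs := fun e => k0.2.resolve_left (not_not.2 e)
  rcases Int.natAbs_eq f with e | e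
  · rw [e]; exact k1 (by omega)
  · rw [e]; exact k2 (by omega)

/-- The orders of centralizers. -/
def centList : List ℕ :=
  [22, 44, 66, 88, 110, 132, 154, 176, 198, 220, 264, 308,
    330, 352, 396, 440, 462, 528, 616, 660, 704, 770, 792, 880,
    924, 990, 1056, 1232, 1320, 1386, 1408, 1540, 1584, 1760, 1848, 1980,
    2112, 2310, 2464, 2640, 2772, 3080, 3168, 3520, 3696, 3960, 4224, 4620,
    4928, 5280, 5544, 6160, 6336, 6930, 7040, 7392, 7920, 9240, 9856, 10560,
    11088, 12320, 12672, 13860, 14784, 15840, 18480, 21120, 22176, 24640, 27720, 29568,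
    31680, 36960, 44352, 49280, 55440, 63360, 73920, 88704, 110880, 147840, 221760, 443520]

theorem mem_centList {j : ℕ} (hj : j ∣ 20160) : 22 * j ∈ centList := by
  have key : ∀ j ∈ Nat.divisors 20160, 22 * j ∈ centList := by decide +kernel
  exact key j (Nat.mem_divisors.2 ⟨hj, by norm_num⟩)

/-- An option: a signed pair with its term in the class count and the extremes of what follows. -/
structure Node where
  f : ℤ
  u : ℤ
  g : ℤ
  hf : ℤ
  lf : ℤ
  hu : ℤ
  lu : ℤ

/-- The raw options. -/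
def raw (C : ℕ) : List (ℤ × ℤ) :=
  signedDegs.flatMap fun f =>
    ((List.range (f.natAbs / 22 + 1)).map fun i : ℕ => (f, f - f.sign * (44 * (i : ℤ)))).filter fun p =>
      decide (p.2.natAbs < f.natAbs ∧ p.2 * p.2 < (C : ℤ) ∧ f ∣ ((10200960 / C : ℕ) : ℤ) * p.2)

theorem mem_raw {C : ℕ} {f u : ℤ} (hf : f ∈ signedDegs) (h44 : (44 : ℤ) ∣ f - u)
    (hlt : u.natAbs < f.natAbs) (hsq : u * u < (C : ℤ)) (hdvd : f ∣ ((10200960 / C : ℕ) : ℤ) * u) :
    (f, u) ∈ raw C := by
  obtain ⟨j, hj⟩ := h44
  refine List.mem_flatMap.2 ⟨f, hf, List.mem_filter.2 ⟨List.mem_map.2 ?_, decide_eq_true ⟨hlt, hsq, hdvd⟩⟩⟩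
  rcases lt_trichotomy f 0 with hf0 | hf0 | hf0
  · refine ⟨(-j).toNat, List.mem_range.2 (by omega), ?_⟩
    rw [Int.sign_eq_neg_one_of_neg hf0, Prod.mk.injEq]
    exact ⟨rfl, by omega⟩
  · subst hf0
    simp [signedDegs] at hf
  · refine ⟨j.toNat, List.mem_range.2 (by omega), ?_⟩
    rw [Int.sign_eq_one_of_pos hf0, Prod.mk.injEq]
    exact ⟨rfl, by omega⟩

/-- The size used for the order of the options. -/
def size (C : ℕ) (p : ℤ × ℤ) : ℤ := max (p.1 * p.1 * (C : ℤ)) (p.2 * p.2 * 10200960)

/-- Insertion by decreasing size. -/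
def ins (C : ℕ) (p : ℤ × ℤ) : List (ℤ × ℤ) → List (ℤ × ℤ)
  | [] => [p]
  | q :: qs => if size C q ≤ size C p then p :: q :: qs else q :: ins C p qs

theorem mem_ins {C : ℕ} {p x : ℤ × ℤ} : ∀ {L : List (ℤ × ℤ)}, x = p ∨ x ∈ L → x ∈ ins C p L
  | [], h => by rcases h with h | h <;> simp_all [ins]
  | q :: qs, h => by
    unfold ins
    split_ifs
    · simpa using h
    · rcases h with h | h
      · exact List.mem_cons_of_mem _ (mem_ins (Or.inl h))
      · rcases List.mem_cons.1 h with h | h
        · exact List.mem_cons.2 (Or.inl h)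
        · exact List.mem_cons_of_mem _ (mem_ins (Or.inr h))

/-- The options in decreasing order. -/
def sorted (C : ℕ) : List (ℤ × ℤ) → List (ℤ × ℤ)
  | [] => []
  | p :: ps => ins C p (sorted C ps)

theorem mem_sorted {C : ℕ} {x : ℤ × ℤ} : ∀ {L : List (ℤ × ℤ)}, x ∈ L → x ∈ sorted C L
  | [], h => absurd h List.not_mem_nil
  | p :: ps, h => by
    rcases List.mem_cons.1 h with h | h
    · exact mem_ins (Or.inl h)
    · exact mem_ins (Or.inr (mem_sorted h))

/-- The nodes of a list of options. -/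
def annot : List (ℤ × ℤ) → List Node
  | [] => []
  | p :: ps =>
    match annot ps with
    | [] => [⟨p.1, p.2, 10200960 / p.1 * (p.2 * p.2), p.1, p.1, p.2, p.2⟩]
    | n :: ns => ⟨p.1, p.2, 10200960 / p.1 * (p.2 * p.2), max p.1 n.hf, min p.1 n.lf, max p.2 n.hu,
        min p.2 n.lu⟩ :: n :: ns

theorem mem_annot {x : ℤ × ℤ} : ∀ {L : List (ℤ × ℤ)}, x ∈ L →
    ∃ n ∈ annot L, n.f = x.1 ∧ n.u = x.2 ∧ n.g = 10200960 / x.1 * (x.2 * x.2)
  | [], h => absurd h List.not_mem_nil
  | p :: ps, h => by
    unfold annot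
    rcases hps : annot ps with _ | ⟨n, ns⟩
    · rcases List.mem_cons.1 h with rfl | h
      · exact ⟨_, List.mem_cons_self, rfl, rfl, rfl⟩
      · obtain ⟨m, hm, -⟩ := mem_annot h
        rw [hps] at hm
        exact absurd hm List.not_mem_nil
    · rcases List.mem_cons.1 h with rfl | h
      · exact ⟨_, List.mem_cons_self, rfl, rfl, rfl⟩
      · obtain ⟨m, hm, hm'⟩ := mem_annot h
        rw [hps] at hm
        exact ⟨m, List.mem_cons_of_mem _ hm, hm'⟩

/-- The options. -/
def nodes (C : ℕ) : List Node := annot (sorted C (raw C))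

/-- The extremes are right. -/
def wfB : List Node → Bool
  | [] => true
  | n :: ns => (n :: ns).all (fun q => decide (n.lf ≤ q.f) && decide (q.f ≤ n.hf) &&
      (decide (n.lu ≤ q.u) && decide (q.u ≤ n.hu))) && wfB ns

/-- The running sums. -/
structure St where
  dd : ℤ
  ss : ℤ
  a : ℤ
  b : ℤ
  q : ℤ
  n23 : ℕ
  n45 : ℕ

/-- Adding an option. -/
def St.add (s : St) (n : Node) : St :=
  ⟨s.dd + n.f * n.f, s.ss + n.u * n.u, s.a + n.f, s.b + n.u, s.q + n.g,
    s.n23 + bif n.f.natAbs == 23 then 1 else 0, s.n45 + bif n.f.natAbs == 45 then 1 else 0⟩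

/-- No `k + 1` further options from here reach a vanishing sum. -/
def stop (m k : ℕ) (s : St) (n : Node) : Bool :=
  decide (m = 0) && (decide (0 < s.a + ((k : ℤ) + 1) * n.lf) || decide (s.a + ((k : ℤ) + 1) * n.hf < 0) ||
    decide (0 < s.b + ((k : ℤ) + 1) * n.lu) || decide (s.b + ((k : ℤ) + 1) * n.hu < 0))

/-- The bound for `k` further options. -/
def bound (m k : ℕ) (x B : ℤ) : Bool :=
  match m with
  | 0 => decide (x * x ≤ (k : ℤ) * B)
  | m + 1 => decide (((m : ℤ) + 1) * (x * x) ≤ (((m : ℤ) + 1) * (k : ℤ) + 1) * B)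

/-- Whether `k` further options can follow. -/
def fits (C m k : ℕ) (s : St) : Bool :=
  decide (1 + s.dd ≤ 10200960) && decide (1 + s.ss ≤ (C : ℤ)) &&
    bound m k s.a (10200959 - s.dd) && bound m k s.b ((C : ℤ) - 1 - s.ss)

/-- One level of the search. -/
def step (C m k : ℕ) (rec : List Node → St → Bool) : List Node → St → Bool
  | [], _ => true
  | n :: ns, s =>
    bif stop m k s n then true
    else (bif fits C m k (s.add n) then rec (n :: ns) (s.add n) else true) && step C m k rec ns s

/-- The search. -/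
def go (C m : ℕ) (leaf : St → Bool) : ℕ → List Node → St → Bool
  | 0 => fun _ s => leaf s
  | k + 1 => step C m k (go C m leaf k)

/-- The sum of a function over a list. -/
def tot (φ : Node → ℤ) (l : List Node) : ℤ := (l.map φ).sum

/-- The state after a list of options. -/
def St.addAll (s : St) (l : List Node) : St :=
  ⟨s.dd + tot (fun n => n.f * n.f) l, s.ss + tot (fun n => n.u * n.u) l, s.a + tot Node.f l,
    s.b + tot Node.u l, s.q + tot Node.g l, s.n23 + l.countP (fun n => n.f.natAbs == 23),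
    s.n45 + l.countP (fun n => n.f.natAbs == 45)⟩

theorem tot_cons (φ : Node → ℤ) (n : Node) (l : List Node) : tot φ (n :: l) = φ n + tot φ l := by
  simp [tot]

theorem addAll_cons (s : St) (n : Node) (l : List Node) : s.addAll (n :: l) = (s.add n).addAll l := by
  unfold St.addAll St.add
  simp only [tot_cons, List.countP_cons, Bool.cond_eq_ite, St.mk.injEq]
  refine ⟨by ring, by ring, by ring, by ring, by ring, by split_ifs <;> omega, by split_ifs <;> omega⟩

theorem addAll_perm (s : St) {l l' : List Node} (h : l.Perm l') : s.addAll l = s.addAll l' := by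
  unfold St.addAll tot
  simp only [St.mk.injEq, h.countP_eq, and_true, (h.map _).sum_eq]

theorem sum_sq_le (φ : Node → ℤ) : ∀ l : List Node,
    tot φ l * tot φ l ≤ (l.length : ℤ) * tot (fun n => φ n * φ n) l ∧ 0 ≤ tot (fun n => φ n * φ n) l
  | [] => by simp [tot]
  | n :: l => by
    obtain ⟨h, h0⟩ := sum_sq_le φ l
    simp only [tot_cons, List.length_cons, Nat.cast_add, Nat.cast_one]
    refine ⟨?_, by nlinarith [mul_self_nonneg (φ n)]⟩
    rcases Nat.eq_zero_or_pos l.length with hl | hl
    · rw [List.length_eq_zero_iff.1 hl]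
      simp [tot]
    · have hl' : (0 : ℤ) < (l.length : ℤ) := by exact_mod_cast hl
      have hsq := mul_self_nonneg ((l.length : ℤ) * φ n - tot φ l)
      nlinarith

theorem tot_le {φ : Node → ℤ} {B : ℤ} : ∀ {l : List Node}, (∀ p ∈ l, φ p ≤ B) →
    tot φ l ≤ (l.length : ℤ) * B
  | [], _ => by simp [tot]
  | n :: l, h => by
    have h1 := h n List.mem_cons_self
    have h2 := tot_le (l := l) (B := B) fun p hp => h p (List.mem_cons_of_mem _ hp)
    simp only [tot_cons, List.length_cons, Nat.cast_add, Nat.cast_one]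
    linarith

theorem le_tot {φ : Node → ℤ} {B : ℤ} : ∀ {l : List Node}, (∀ p ∈ l, B ≤ φ p) →
    (l.length : ℤ) * B ≤ tot φ l
  | [], _ => by simp [tot]
  | n :: l, h => by
    have h1 := h n List.mem_cons_self
    have h2 := le_tot (l := l) (B := B) fun p hp => h p (List.mem_cons_of_mem _ hp)
    simp only [tot_cons, List.length_cons, Nat.cast_add, Nat.cast_one]
    linarith

/-- What the last state satisfies. -/
def Final (C m : ℕ) (s : St) : Prop :=
  1 + s.dd + (m : ℤ) * (s.a * s.a) ≤ 10200960 ∧ 1 + s.ss + (m : ℤ) * (s.b * s.b) ≤ (C : ℤ) ∧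
    (m = 0 → s.a = 0 ∧ s.b = 0)

theorem bound_sound {m k : ℕ} {x R S B : ℤ} (hR : R * R ≤ (k : ℤ) * S) (hS : 0 ≤ S)
    (hB : S + (m : ℤ) * ((x + R) * (x + R)) ≤ B) (hz : m = 0 → x + R = 0) : bound m k x B = true := by
  unfold bound
  rcases m with _ | m
  · simp only [decide_eq_true_eq]
    have hx : x = -R := by linarith [hz rfl]
    subst hx
    simp only [Nat.cast_zero, zero_mul, add_zero] at hB
    have : (k : ℤ) * S ≤ (k : ℤ) * B := mul_le_mul_of_nonneg_left hB (by positivity)
    linarith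
  · simp only [decide_eq_true_eq]
    push_cast at hB
    set M : ℤ := (m : ℤ) + 1 with hM
    have hM0 : (0 : ℤ) < M := by positivity
    have h1 : (M * (k : ℤ) + 1) * (S + M * ((x + R) * (x + R))) ≤ (M * (k : ℤ) + 1) * B :=
      mul_le_mul_of_nonneg_left hB (by positivity)
    refine le_trans ?_ h1
    rcases Nat.eq_zero_or_pos k with hk | hk
    · subst hk
      have hR0 : R * R ≤ 0 := by simpa using hR
      have : R = 0 := mul_self_eq_zero.1 (le_antisymm hR0 (mul_self_nonneg R))
      subst this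
      simp only [Nat.cast_zero, mul_zero, zero_add, one_mul, add_zero]
      linarith
    · have hk' : (0 : ℤ) < (k : ℤ) := by exact_mod_cast hk
      have hsq := mul_self_nonneg (M * (k : ℤ) * (x + R) + R)
      have h2 := mul_le_mul_of_nonneg_left hR (show (0 : ℤ) ≤ M * (k : ℤ) + 1 by positivity)
      refine le_of_mul_le_mul_left ?_ hk'
      linear_combination hsq + h2

theorem addAll_fields (s : St) (l : List Node) :
    (s.addAll l).dd = s.dd + tot (fun n => n.f * n.f) l ∧
      (s.addAll l).ss = s.ss + tot (fun n => n.u * n.u) l ∧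
      (s.addAll l).a = s.a + tot Node.f l ∧ (s.addAll l).b = s.b + tot Node.u l := ⟨rfl, rfl, rfl, rfl⟩

theorem fits_of_final {C m : ℕ} {s : St} {l : List Node} (h : Final C m (s.addAll l)) :
    fits C m l.length s = true := by
  obtain ⟨h1, h2, h3⟩ := h
  obtain ⟨e1, e2, e3, e4⟩ := addAll_fields s l
  rw [e1, e3] at h1
  rw [e2, e4] at h2
  rw [e3, e4] at h3
  obtain ⟨f1, f2⟩ := sum_sq_le Node.f l
  obtain ⟨u1, u2⟩ := sum_sq_le Node.u l
  have hm : (0 : ℤ) ≤ (m : ℤ) := Int.natCast_nonneg m
  have hA := mul_nonneg hm (mul_self_nonneg (s.a + tot Node.f l))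
  have hB := mul_nonneg hm (mul_self_nonneg (s.b + tot Node.u l))
  simp only [fits, Bool.and_eq_true, decide_eq_true_eq]
  exact ⟨⟨⟨by linarith, by linarith⟩, bound_sound f1 f2 (by linarith) fun e => (h3 e).1⟩,
    bound_sound u1 u2 (by linarith) fun e => (h3 e).2⟩

theorem not_stop {C m k : ℕ} {s : St} {n : Node} {l : List Node} (hlen : l.length = k + 1)
    (hb : ∀ p ∈ l, n.lf ≤ p.f ∧ p.f ≤ n.hf ∧ n.lu ≤ p.u ∧ p.u ≤ n.hu)
    (h : Final C m (s.addAll l)) : stop m k s n = false := by
  rw [Bool.eq_false_iff]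
  intro hs
  simp only [stop, Bool.and_eq_true, Bool.or_eq_true, decide_eq_true_eq] at hs
  obtain ⟨hm, hs⟩ := hs
  obtain ⟨h3, h4⟩ := h.2.2 hm
  obtain ⟨-, -, e3, e4⟩ := addAll_fields s l
  rw [e3] at h3
  rw [e4] at h4
  have a1 := le_tot (φ := Node.f) fun p hp => (hb p hp).1
  have a2 := tot_le (φ := Node.f) fun p hp => (hb p hp).2.1
  have b1 := le_tot (φ := Node.u) fun p hp => (hb p hp).2.2.1
  have b2 := tot_le (φ := Node.u) fun p hp => (hb p hp).2.2.2
  rw [hlen] at a1 a2 b1 b2
  push_cast at a1 a2 b1 b2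
  rcases hs with ((h | h) | h) | h <;> linarith

theorem step_sound {C m k : ℕ} {rec : List Node → St → Bool} {P : St → Prop}
    (hrec : ∀ O s, wfB O = true → rec O s = true → ∀ l : List Node, l.length = k → (∀ p ∈ l, p ∈ O) →
      Final C m (s.addAll l) → P (s.addAll l)) :
    ∀ (O : List Node) (s : St), wfB O = true → step C m k rec O s = true →
      ∀ l : List Node, l.length = k + 1 → (∀ p ∈ l, p ∈ O) → Final C m (s.addAll l) → P (s.addAll l)
  | [], _, _, _, l, hl, hmem, _ => by
    obtain ⟨p, hp⟩ := List.exists_mem_of_ne_nil l (List.ne_nil_of_length_eq_add_one hl)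
    exact absurd (hmem p hp) List.not_mem_nil
  | n :: ns, s, hwf, h, l, hl, hmem, hfin => by
    classical
    have hwf' := hwf
    simp only [wfB, Bool.and_eq_true, List.all_eq_true, decide_eq_true_eq] at hwf'
    have hb : ∀ p ∈ l, n.lf ≤ p.f ∧ p.f ≤ n.hf ∧ n.lu ≤ p.u ∧ p.u ≤ n.hu := fun p hp => by
      obtain ⟨⟨h1, h2⟩, h3, h4⟩ := hwf'.1 p (hmem p hp)
      exact ⟨h1, h2, h3, h4⟩
    rw [step, not_stop hl hb hfin, cond_false, Bool.and_eq_true] at h
    by_cases hn : n ∈ l
    · have hperm := List.perm_cons_erase hn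
      have hlen : (l.erase n).length = k := by rw [List.length_erase_of_mem hn]; omega
      rw [addAll_perm s hperm, addAll_cons] at hfin ⊢
      have hfit := fits_of_final hfin
      rw [hlen] at hfit
      rw [hfit, cond_true] at h
      exact hrec _ _ hwf h.1 _ hlen (fun p hp => hmem p (List.mem_of_mem_erase hp)) hfin
    · exact step_sound hrec ns s hwf'.2 h.2 l hl
        (fun p hp => (List.mem_cons.1 (hmem p hp)).resolve_left fun e => hn (e ▸ hp)) hfin

theorem go_sound {C m : ℕ} {leaf : St → Bool} : ∀ (k : ℕ) (O : List Node) (s : St), wfB O = true →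
    go C m leaf k O s = true → ∀ l : List Node, l.length = k → (∀ p ∈ l, p ∈ O) →
      Final C m (s.addAll l) → leaf (s.addAll l) = true
  | 0, O, s, _, h, l, hl, _, _ => by
    rw [List.length_eq_zero_iff.1 hl]
    simpa [St.addAll, tot, go] using h
  | k + 1, O, s, hwf, h, l, hl, hmem, hfin =>
    step_sound (P := fun t => leaf t = true) (fun O s hw hg => go_sound k O s hw hg) O s hwf h l hl hmem hfin

/-- The first state. -/
def start : St := ⟨0, 0, 1, 1, 0, 0, 0⟩

/-- The search for one order. -/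
def search (C m n : ℕ) (leaf : St → Bool) : Bool :=
  wfB (nodes C) && go C m leaf n (nodes C) start

/-- A row gives a last state that passes the test. -/
theorem leaf_of_row {e j c : ℕ} {l : List (ℤ × ℤ)} {T W : ℤ} (h : Row e (22 * j) c l T W)
    (he' : e = 2 ∨ e = 5 ∨ e = 10) {m : ℕ}
    (hm : m = if e = 10 then 0 else 10 / e) {leaf : St → Bool}
    (hs : search (22 * j) m l.length leaf = true) :
    leaf ⟨(l.map fun p => p.1 * p.1).sum, (l.map fun p => p.2 * p.2).sum, T, W,
      (l.map fun p => 10200960 / p.1 * (p.2 * p.2)).sum, cnt 23 l, cnt 45 l⟩ = true := by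
  classical
  simp only [search, Bool.and_eq_true] at hs
  have hnode : ∀ p ∈ l, ∃ n ∈ nodes (22 * j),
      n.f = p.1 ∧ n.u = p.2 ∧ n.g = 10200960 / p.1 * (p.2 * p.2) := by
    intro p hp
    obtain ⟨h1, h2, h3, h4, h5, h6, h7⟩ := h.pair p hp
    have hsq : p.1 * p.1 ≤ 10200960 := by
      have hsum := List.single_le_sum (l := l.map fun q => q.1 * q.1)
        (fun x hx => by
          obtain ⟨q, -, rfl⟩ := List.mem_map.1 hx
          exact mul_self_nonneg _) _ (List.mem_map.2 ⟨p, hp, rfl⟩)
      have h0 : 0 ≤ ((10 / e : ℕ) : ℤ) * (T * T) := mul_nonneg (by positivity) (mul_self_nonneg T)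
      linarith [h.degSq]
    have hlt : p.1.natAbs < 3194 := by
      have h' : p.1.natAbs * p.1.natAbs ≤ 10200960 := by
        have : ((p.1.natAbs * p.1.natAbs : ℕ) : ℤ) ≤ 10200960 := by
          rw [Int.natAbs_mul_self]; exact hsq
        exact_mod_cast this
      by_contra hc
      have := Nat.mul_le_mul (not_lt.1 hc) (not_lt.1 hc)
      omega
    exact mem_annot (mem_sorted (mem_raw (mem_signedDegs h1 h2 h3 hlt) h4 h5 h6 h7))
  choose φ hφ hφ' using hnode
  set L : List Node := l.attach.map fun p => φ p.1 p.2 with hL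
  have hmap : ∀ (g : Node → ℤ) (g' : ℤ × ℤ → ℤ), (∀ p (hp : p ∈ l), g (φ p hp) = g' p) →
      tot g L = (l.map g').sum := by
    intro g g' hg
    rw [tot, hL, List.map_map, show (l.map g') = (l.attach.map Subtype.val).map g' by
      rw [List.attach_map_subtype_val], List.map_map]
    exact congrArg List.sum (List.map_congr_left fun p _ => hg p.1 p.2)
  have hcnt : ∀ d : ℕ, L.countP (fun n => n.f.natAbs == d) = cnt d l := by
    intro d
    rw [cnt, hL, List.countP_map]
    conv_rhs => rw [← List.attach_map_subtype_val l, List.countP_map]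
    refine List.countP_congr fun p _ => ?_
    simp only [Function.comp_apply, (hφ' p.1 p.2).1]
  have e1 := hmap (fun n => n.f * n.f) (fun p => p.1 * p.1) fun p hp => by simp only [(hφ' p hp).1]
  have e2 := hmap (fun n => n.u * n.u) (fun p => p.2 * p.2) fun p hp => by simp only [(hφ' p hp).2.1]
  have e3 := hmap Node.f (fun p => p.1) fun p hp => (hφ' p hp).1
  have e4 := hmap Node.u (fun p => p.2) fun p hp => (hφ' p hp).2.1
  have e5 := hmap Node.g (fun p => 10200960 / p.1 * (p.2 * p.2)) fun p hp => (hφ' p hp).2.2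
  have hend : start.addAll L = ⟨(l.map fun p => p.1 * p.1).sum, (l.map fun p => p.2 * p.2).sum, T, W,
      (l.map fun p => 10200960 / p.1 * (p.2 * p.2)).sum, cnt 23 l, cnt 45 l⟩ := by
    unfold St.addAll start
    simp only [e1, e2, e3, e4, e5, hcnt, zero_add, ← h.deg, ← h.val]
  have hfin : Final (22 * j) m (start.addAll L) := by
    rw [hend]
    refine ⟨?_, ?_, fun hm0 => ?_⟩
    · rcases eq_or_ne e 10 with he | he
      · rw [hm, if_pos he]
        have h0 := h.degSq
        have hn := (h.none he).1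
        simp only [hn, mul_zero, add_zero] at h0 ⊢
        exact h0
      · rw [hm, if_neg he]
        exact h.degSq
    · rcases eq_or_ne e 10 with he | he
      · rw [hm, if_pos he]
        have h0 := h.valSq
        have hn := (h.none he).2
        simp only [hn, mul_zero, add_zero] at h0 ⊢
        exact h0
      · rw [hm, if_neg he]
        exact h.valSq
    · rcases eq_or_ne e 10 with he | he
      · exact h.none he
      · rw [hm, if_neg he] at hm0
        rcases he' with rfl | rfl | rfl <;> simp_all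
  rw [← hend]
  exact go_sound _ _ _ hs.1 hs.2 L (by rw [hL, List.length_map, List.length_attach]) (fun n hn => by
    obtain ⟨p, -, rfl⟩ := List.mem_map.1 hn
    exact hφ p.1 p.2) hfin

/-- The test of a square condition. -/
def squareB (C c : ℕ) (s : St) : Bool :=
  let X := 11 * (c : ℤ) * (10200960 + s.q - 10200960 / s.a * (s.b * s.b))
  decide (0 ≤ X) && decide (X.natAbs % (C * C) = 0) &&
    decide (Nat.sqrt (X.natAbs / (C * C)) * Nat.sqrt (X.natAbs / (C * C)) = X.natAbs / (C * C))

theorem squareB_of {C c k : ℕ} {s : St} (hC : 0 < C)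
    (h : 11 * (c : ℤ) * (10200960 + s.q - 10200960 / s.a * (s.b * s.b)) = (C : ℤ) ^ 2 * (k : ℤ) ^ 2) :
    squareB C c s = true := by
  simp only [squareB, h, Bool.and_eq_true, decide_eq_true_eq]
  have e : ((C : ℤ) ^ 2 * (k : ℤ) ^ 2).natAbs = C * C * (k * k) := by
    rw [Int.natAbs_mul, Int.natAbs_pow, Int.natAbs_pow, Int.natAbs_natCast, Int.natAbs_natCast]
    ring
  rw [e]
  refine ⟨⟨by positivity, Nat.mul_mod_right _ _⟩, ?_⟩
  rw [Nat.mul_div_cancel_left _ (Nat.mul_pos hC hC), Nat.sqrt_eq]

/-- The conditions on the exceptional degree and value. -/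
def excB (C : ℕ) (s : St) : Bool :=
  decide (2 ≤ s.a.natAbs) && decide (10200960 % s.a.natAbs = 0) && decide ((44 : ℤ) ∣ s.a - s.b) &&
    decide (s.b.natAbs < s.a.natAbs) && decide (s.a ∣ ((10200960 / C : ℕ) : ℤ) * s.b)

theorem excB_of {C : ℕ} {s : St} {T W : ℤ} (hT : s.a = T) (hW : s.b = W)
    (h : 2 ≤ T.natAbs ∧ T.natAbs ∣ 10200960 ∧ (44 : ℤ) ∣ T - W ∧ W.natAbs < T.natAbs ∧
      T ∣ ((10200960 / C : ℕ) : ℤ) * W) : excB C s = true := by
  subst hT hW
  obtain ⟨h1, h2, h3, h4, h5⟩ := h
  simp only [excB, Bool.and_eq_true, decide_eq_true_eq]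
  exact ⟨⟨⟨⟨h1, Nat.mod_eq_zero_of_dvd h2⟩, h3⟩, h4⟩, h5⟩

/-- The orders left for index five. -/
def leftFive : List ℕ := [4928, 9856]

/-- The test for index five. -/
def leafFive (C : ℕ) (s : St) : Bool :=
  !(excB C s && decide (10200960 + s.q - 10200960 / s.a * (s.b * s.b) = 0))

/-- The test for index two. -/
def leafTwo (C : ℕ) (s : St) : Bool :=
  !(excB C s && [8, 30, 96, 360].any fun c => squareB C c s)

end CfsgLib.M23Order.ElevenArith
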