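import Cfsg.Agent.Lib.M23Order.ElevenArithBase

/-!
# Simple groups of order 10200960: index five at eleven
-/

set_option autoImplicit false

namespace CfsgLib.M23Order.ElevenArith

open CfsgLib.M23Order.ElevenDefs

-- one kernel computation at a time, to bound the memory
set_option Elab.async false

/-- A part of the orders to search. -/
def fiveList0 : List ℕ :=
  [22, 44, 66, 88, 110, 132, 154, 176, 198, 220, 264, 308,
    330, 352, 396, 440, 462, 528, 616, 660, 704, 770, 792, 880,
    924, 990, 1056, 1232, 1320, 1386, 1408, 1540, 1584, 1760, 1848, 1980,
    2112, 2310, 2464, 2640, 2772, 3080, 3168, 3520, 3696]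

theorem search_five0 : fiveList0.all (fun C => search C 2 4 (leafFive C)) = true := by decide +kernel

/-- A part of the orders to search. -/
def fiveList1 : List ℕ :=
  [3960, 4224, 4620, 5280, 5544, 6160, 6336, 6930, 7040, 7392, 7920, 9240,
    10560, 11088, 12320, 12672, 13860]

theorem search_five1 : fiveList1.all (fun C => search C 2 4 (leafFive C)) = true := by decide +kernel

/-- A part of the orders to search. -/
def fiveList2 : List ℕ :=
  [14784, 15840, 18480, 21120, 22176, 24640, 27720, 29568, 31680, 36960]

theorem search_five2 : fiveList2.all (fun C => search C 2 4 (leafFive C)) = true := by decide +kernel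

/-- A part of the orders to search. -/
def fiveList3 : List ℕ :=
  [44352, 49280, 55440, 63360, 73920, 88704]

theorem search_five3 : fiveList3.all (fun C => search C 2 4 (leafFive C)) = true := by decide +kernel

/-- A part of the orders to search. -/
def fiveList4 : List ℕ :=
  [110880, 147840, 221760, 443520]

theorem search_five4 : fiveList4.all (fun C => search C 2 4 (leafFive C)) = true := by decide +kernel

/-- Index five leaves two orders. -/
theorem arithFive : ArithFiveStmt := by
  intro j c l T W hj hc h
  have hC : 0 < 22 * j := Nat.mul_pos (by norm_num) (Nat.pos_of_dvd_of_pos hj (by norm_num))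
  by_contra hne
  rw [not_or] at hne
  have hlen : l.length = 4 := by simpa using h.len
  have hsplit : ∀ C ∈ centList, C = 4928 ∨ C = 9856 ∨
      C ∈ fiveList0 ++ fiveList1 ++ fiveList2 ++ fiveList3 ++ fiveList4 := by decide +kernel
  have hs : search (22 * j) 2 4 (leafFive (22 * j)) = true := by
    rcases hsplit _ (mem_centList hj) with e | e | e
    · exact absurd e hne.1
    · exact absurd e hne.2
    simp only [List.mem_append] at e
    rcases e with (((e | e) | e) | e) | e
    · exact List.all_eq_true.1 search_five0 _ e
    · exact List.all_eq_true.1 search_five1 _ e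
    · exact List.all_eq_true.1 search_five2 _ e
    · exact List.all_eq_true.1 search_five3 _ e
    · exact List.all_eq_true.1 search_five4 _ e
  rw [← hlen] at hs
  have hleaf := leaf_of_row h (Or.inr (Or.inl rfl)) (m := 2) (by norm_num) hs
  simp only [leafFive, Bool.not_eq_true', Bool.and_eq_false_iff, decide_eq_false_iff_not] at hleaf
  rcases hleaf with hl | hl
  · rw [excB_of rfl rfl (h.exc (by norm_num))] at hl
    exact Bool.false_ne_true hl.symm
  · obtain ⟨k, hk0, hk⟩ := h.square
    rw [hk0 rfl, Nat.cast_zero, zero_pow two_ne_zero, mul_zero, mul_eq_zero] at hk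
    exact hl (hk.resolve_left (by positivity))

end CfsgLib.M23Order.ElevenArith
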