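import Mathlib

/-!
# Simple groups of order 10200960: the arithmetic data at an involution centralizing a Sylow
subgroup of order eleven

A character of the principal block at eleven gives a pair `(f, u)`: its degree and its value at
the involution, both multiplied by the sign.  `T`, `W` are the sums with the principal character.
-/

set_option autoImplicit false

namespace CfsgLib.M23Order.ElevenDefs

/-- One signed pair. -/
def Pair (C : ℕ) (p : ℤ × ℤ) : Prop :=
  p.1 % 11 = 1 ∧ 2 ≤ p.1.natAbs ∧ p.1.natAbs ∣ 10200960 ∧ (44 : ℤ) ∣ p.1 - p.2 ∧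
    p.2.natAbs < p.1.natAbs ∧ p.2 * p.2 < (C : ℤ) ∧ p.1 ∣ ((10200960 / C : ℕ) : ℤ) * p.2

/-- What holds for index `e` of the centralizer, its complement of order `c`, and an involution
there with centralizer of order `C`; `k` comes from the number of conjugates inverting the
Sylow subgroup. -/
structure Row (e C c : ℕ) (l : List (ℤ × ℤ)) (T W : ℤ) : Prop where
  len : l.length = if e = 10 then 10 else e - 1
  pair : ∀ p ∈ l, Pair C p
  deg : T = 1 + (l.map fun p => p.1).sum
  val : W = 1 + (l.map fun p => p.2).sum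
  none : e = 10 → T = 0 ∧ W = 0
  exc : e ≠ 10 → 2 ≤ T.natAbs ∧ T.natAbs ∣ 10200960 ∧ (44 : ℤ) ∣ T - W ∧ W.natAbs < T.natAbs ∧
    T ∣ ((10200960 / C : ℕ) : ℤ) * W
  degSq : 1 + (l.map fun p => p.1 * p.1).sum + ((10 / e : ℕ) : ℤ) * (T * T) ≤ 10200960
  valSq : 1 + (l.map fun p => p.2 * p.2).sum + ((10 / e : ℕ) : ℤ) * (W * W) ≤ (C : ℤ)
  square : ∃ k : ℕ, (e = 5 → k = 0) ∧
    11 * (c : ℤ) * (10200960 + (l.map fun p => 10200960 / p.1 * (p.2 * p.2)).sum -
      10200960 / T * (W * W)) = (C : ℤ) ^ 2 * (k : ℤ) ^ 2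

/-- The order of the normalizer of the Sylow subgroup in the centralizer of the involution is
`11 a`; the number of Sylow subgroups there is one modulo eleven. -/
def Loc (e C c : ℕ) : Prop :=
  ∃ a : ℕ, 2 ∣ a ∧ a ∣ c * e ∧ a ∣ C / 11 ∧ C / 11 / a % 11 = 1

/-- The number of pairs of a given degree. -/
def cnt (d : ℕ) (l : List (ℤ × ℤ)) : ℕ := l.countP fun p => p.1.natAbs == d

/-- Index five leaves two orders. -/
def ArithFiveStmt : Prop :=
  ∀ (j c : ℕ) (l : List (ℤ × ℤ)) (T W : ℤ), j ∣ 20160 → 0 < c → Row 5 (22 * j) c l T W →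
    22 * j = 4928 ∨ 22 * j = 9856

/-- Index two with no element of order seven leaves nothing. -/
def ArithTwoStmt : Prop :=
  ∀ (j c : ℕ) (l : List (ℤ × ℤ)) (T W : ℤ), j ∣ 20160 → c ∈ ([8, 30, 96, 360] : List ℕ) →
    Row 2 (22 * j) c l T W → False

/-- Index ten, with the residues of the degrees modulo twenty-three: some degree is divisible by
nine, and without degrees divisible by seven the degree twenty-three or forty-five occurs once. -/
def ArithTenStmt : Prop :=
  ∀ (j c : ℕ) (l : List (ℤ × ℤ)) (T W : ℤ), j ∣ 20160 → Row 10 (22 * j) c l T W →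
    (∀ p ∈ l, p.1.natAbs % 23 ∈ ([0, 1, 11, 12, 22] : List ℕ)) →
    ((∀ p ∈ l, ¬ 9 ∣ p.1.natAbs) → False) ∧
      ((∀ p ∈ l, ¬ 7 ∣ p.1.natAbs) → cnt 23 l = 1 ∨ cnt 45 l = 1)

end CfsgLib.M23Order.ElevenDefs
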