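import Cfsg.Agent.Lib.M23Order.Tables

/-!
# Simple groups of order 10200960: the degrees modulo twenty-three
-/

set_option autoImplicit false
set_option linter.style.haveILetI false
set_option linter.unusedSectionVars false

open Cfsg CfsgLib.Chars CfsgLib.CharApps CfsgLib.Small

namespace CfsgLib.M23Order.ElevenResidue

universe u

variable {G : Type u} [Group G] [Finite G] [IsSimpleGroup G]

/-- The residues modulo twenty-three allowed by the block there. -/
theorem degree_residue (hG : Nat.card G = 10200960) (h23 : LocalTwentyThree G) (χ : IrrCharacter G) :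
    charDegree (χ : G → ℂ) % 23 ∈ ([0, 1, 11, 12, 22] : List ℕ) := by
  haveI := Fact.mk (show Nat.Prime 23 by norm_num)
  have hna : ¬ IsMulCommutative G := not_isMulCommutative_of_card (by rw [hG]; norm_num)
  obtain ⟨T⟩ : Nonempty (TableTwentyThree G) :=
    Tables.exists_table hna (m := 443520) (by norm_num) (by rw [hG]) (by norm_num) h23.cent
      (fun P => h23.norm P) (by norm_num) (by norm_num)
  simp only [List.mem_cons, List.not_mem_nil, or_false]
  rcases T.cover χ with rfl | ⟨i, rfl⟩ | ⟨h, -⟩
  · rw [Tables.principal_degree hna]
    norm_num
  · induction i using Fin.addCases with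
    | left i =>
      rw [Fin.append_left]
      obtain ⟨hs, h⟩ := T.sgn_eq i
      rcases hs with e | e <;> rw [e] at h <;> omega
    | right i =>
      rw [Fin.append_right]
      obtain ⟨hs, h⟩ := T.ε_eq
      have hd : charDegree (T.θ i : G → ℂ) = charDegree (T.θ 0 : G → ℂ) := by
        fin_cases i
        · rfl
        · exact T.deg_θ
      rw [hd]
      rcases hs with e | e <;> rw [e] at h <;> norm_num at h <;> omega
  · omega

end CfsgLib.M23Order.ElevenResidue
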