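import Cfsg.Agent.Lib.M23Order.ElevenRow
import Cfsg.Agent.Lib.M23Order.ElevenResidue

/-!
# Simple groups of order 10200960: index two and ten at eleven
-/

set_option autoImplicit false
set_option linter.style.haveILetI false
set_option linter.unusedSectionVars false

open Cfsg CfsgLib.Chars CfsgLib.CharApps CfsgLib.Blocks CfsgLib.Small
open scoped ComplexConjugate Classical

namespace CfsgLib.M23Order.ElevenEven

open CfsgLib.M23Order.ElevenSection CfsgLib.M23Order.ElevenDefs CfsgLib.M23Order.ElevenRow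

universe u

set_option maxRecDepth 100000 in
set_option synthInstance.maxSize 4096 in
set_option synthInstance.maxHeartbeats 100000 in
theorem two_list : ∀ d < (1400 : ℕ), d ∣ 10200960 →
    (d % 11 = 1 → (1 + d) ∣ 10200960 → 1 + d * d + 5 * ((1 + d) * (1 + d)) ≤ 10200960 →
      d ∈ ([1, 10, 21, 23, 45] : List ℕ)) ∧
    (d % 11 = 10 → (d - 1) ∣ 10200960 → 1 + d * d + 5 * ((d - 1) * (d - 1)) ≤ 10200960 →
      d ∈ ([1, 10, 21, 23, 45] : List ℕ)) := by
  decide +kernel

variable {G : Type u} [Group G] [Finite G] [IsSimpleGroup G] {P : Sylow 11 G} {e c : ℕ}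
  (hG : Nat.card G = 10200960) {D : Sec P e c} (B : Block D) (he : e = 2 ∨ e = 5 ∨ e = 10)
include hG B he

/-- No degree of the block is divisible by eleven. -/
theorem not_eleven_dvd {χ : IrrCharacter G} (h : χ ∈ B.X ∨ χ ∈ B.Y) :
    ¬ 11 ∣ charDegree (χ : G → ℂ) := by
  intro hd
  obtain ⟨j, hj⟩ := hd
  rcases h with hX | hY
  · obtain ⟨hs, h'⟩ := B.sign χ hX
    rw [hj] at h'
    rcases hs with h'' | h'' <;> rw [h''] at h' <;> push_cast at h' <;> omega
  · have h' := B.degY χ hY
    rw [hj] at h'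
    rcases B.ε_sign with h'' | h'' <;> rw [h''] at h' <;> push_cast at h' <;>
      rcases he with rfl | rfl | rfl <;> omega

/-- The members, without set operations. -/
theorem members_iff (χ : IrrCharacter G) :
    χ ∈ members B ↔ χ ≠ principal G ∧ (χ ∈ B.X ∨ (e = 10 ∧ χ ∈ B.Y)) := by
  unfold members
  rw [Finset.mem_erase]
  by_cases h : e = 10 <;> simp [h]

theorem filter_singleton {χ ψ : IrrCharacter G} {d : ℕ}
    (hχ : ((members B).filter fun χ : IrrCharacter G => charDegree (χ : G → ℂ) = d) = {χ}) :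
    (χ ∈ members B ∧ charDegree (χ : G → ℂ) = d) ∧
      (ψ ∈ members B → charDegree (ψ : G → ℂ) = d → ψ = χ) := by
  refine ⟨?_, fun h1 h2 => ?_⟩
  · rw [← Finset.mem_filter (p := fun χ : IrrCharacter G => charDegree (χ : G → ℂ) = d), hχ]
    exact Finset.mem_singleton_self χ
  · rw [← Finset.mem_singleton, ← hχ, Finset.mem_filter]
    exact ⟨h1, h2⟩

theorem members_one {χ ψ : IrrCharacter G} (hχ : members B = {χ}) :
    χ ∈ members B ∧ (ψ ∈ members B → ψ = χ) := by
  rw [hχ]
  exact ⟨Finset.mem_singleton_self χ, fun h => Finset.mem_singleton.1 h⟩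

/-- An element of prime order in the centralizer. -/
theorem exists_prime_element {q : ℕ} [Fact q.Prime] (hq : q ∣ c) :
    ∃ w ∈ Subgroup.centralizer ((P : Subgroup G) : Set G), orderOf w = q := by
  obtain ⟨w, hw⟩ := exists_prime_orderOf_dvd_card' (G := D.H) q (by rw [D.card]; exact hq)
  exact ⟨(w : G), D.le w.2, by rw [Subgroup.orderOf_coe, hw]⟩

/-- A degree with the full power of a prime dividing `c` does not occur. -/
theorem not_dvd_deg {q n : ℕ} [Fact q.Prime] (hn : q ^ n ∣ 10200960) (hn' : ¬ q ^ (n + 1) ∣ 10200960)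
    (hq : q ∣ c) {χ : IrrCharacter G} (h : χ ∈ B.X ∨ χ ∈ B.Y) :
    ¬ q ^ n ∣ charDegree (χ : G → ℂ) := by
  intro hd
  obtain ⟨w, hwC, hw⟩ := exists_prime_element hG B he hq
  have h0 : (χ : G → ℂ) w = 0 :=
    M12Order.FiveEven.apply_eq_zero (Fact.out : q.Prime) χ (hG ▸ hn) (hG ▸ hn') hd (by rw [hw])
  have h11 := B.congr χ h w hwC 0 (by rw [h0, Int.cast_zero])
  rw [zero_sub, dvd_neg] at h11
  exact not_eleven_dvd hG B he h (by exact_mod_cast h11)

/-- A character with a degree of its own in the block forbids elements of order seven. -/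
theorem no_seven (h7 : 7 ∣ c) {χ : IrrCharacter G} (hχ : χ ∈ B.X ∨ χ ∈ B.Y)
    (hne : χ ≠ principal G) (hd : charDegree (χ : G → ℂ) ∈ ([10, 21, 23, 45] : List ℕ))
    (huniq : ∀ ψ : IrrCharacter G, (ψ ∈ B.X ∨ ψ ∈ B.Y) →
      charDegree (ψ : G → ℂ) = charDegree (χ : G → ℂ) → ψ = χ) : False := by
  classical
  haveI := Fintype.ofFinite G
  haveI := Fact.mk (show Nat.Prime 7 by norm_num)
  have hfix : ∀ σ : ℂ ≃+* ℂ, galoisIrr σ χ = χ := by
    intro σ
    refine huniq _ ?_ (M12Order.FiveEven.charDegree_galois σ χ)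
    by_contra h
    rw [not_or] at h
    have h0 := B.avg_zero (galoisIrr σ χ) h.1 h.2
    have hσ : avg D (galoisIrr σ χ) = σ (avg D χ) := by
      simp only [avg, map_sum, galoisIrr_apply]
    rw [hσ, map_eq_zero] at h0
    have hc : (c : ℂ) ≠ 0 := Nat.cast_ne_zero.2 (cpos D).ne'
    rcases hχ with hX | hY
    · rw [B.avgX χ hX] at h0
      rcases (B.sign χ hX).1 with h' | h' <;> rw [h'] at h0 <;> push_cast at h0 <;>
        simp [hc] at h0
    · rw [B.avgY χ hY] at h0
      rcases B.ε_sign with h' | h' <;> rw [h'] at h0 <;> push_cast at h0 <;>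
        rcases he with rfl | rfl | rfl <;> simp [hc] at h0
  have hint : ∀ g : G, ∃ m : ℤ, (m : ℂ) = (χ : G → ℂ) g := fun g =>
    M12Order.FiveEven.exists_int_of_galois χ g fun σ => by rw [hfix σ]
  choose v hv using hint
  set d := charDegree (χ : G → ℂ) with hdd
  have hv1 : v 1 = (d : ℤ) := by
    have h := hv 1
    rw [deg_eq, ← hdd] at h
    exact_mod_cast h
  have hkey : ∀ w ∈ Subgroup.centralizer ((P : Subgroup G) : Set G), orderOf w = 7 →
      d = 45 ∧ v w = -32 := by
    intro w hwC hw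
    have h11 := B.congr χ hχ w hwC (v w) (hv w)
    have hw7 : w ^ 7 = 1 := hw ▸ pow_orderOf_eq_one w
    have h7' := M12Order.FiveEven.int_congr_pow (p := 7) χ (x := w) (k := 7) (n := 1) (by norm_num)
      (by rw [show (7 - 1) * 7 ^ 1 = 7 * 6 by norm_num, pow_mul, hw7, one_pow]) (hv w)
      (m' := v 1) (by rw [hv 1, hw7])
    rw [hv1] at h7'
    have h2 := char_norm_le (isCharacter_of_irr χ.2) w
    rw [← hv w, deg_eq, ← hdd, Complex.norm_intCast, Complex.natCast_re] at h2
    have h3 : |v w| ≤ (d : ℤ) := by exact_mod_cast h2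
    have hw1 : w ≠ 1 := fun h => by rw [h, orderOf_one] at hw; omega
    have h1 := apply_ne_degree (t := w) (fun K hK hwK =>
      hK.eq_bot_or_eq_top.resolve_left fun h => hw1 (by rwa [h, Subgroup.mem_bot] at hwK)) χ hne
    rw [← hv w, deg_eq, ← hdd] at h1
    have h5 : v w ≠ (d : ℤ) := fun h => h1 (by exact_mod_cast congrArg (Int.cast : ℤ → ℂ) h)
    obtain ⟨h6, h6'⟩ := abs_le.1 h3
    rw [← hdd] at h11
    simp only [List.mem_cons, List.not_mem_nil, or_false] at hd
    rcases hd with hd | hd | hd | hd <;> rw [hd] at h11 h7' h5 h6 h6' ⊢ <;> omega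
  obtain ⟨w, hwC, hw⟩ := exists_prime_element hG B he h7
  haveI : Fintype (Subgroup.zpowers w) := Fintype.ofFinite _
  obtain ⟨a, ha⟩ := sum_subgroup χ (Subgroup.zpowers w)
  have hval : ∀ g : Subgroup.zpowers w, (χ : G → ℂ) g =
      (if g = 1 then (77 : ℂ) else 0) - 32 := by
    intro g
    split_ifs with h
    · rw [h, OneMemClass.coe_one, deg_eq, ← hdd, (hkey w hwC hw).1]
      norm_num
    · have ho : orderOf (g : G) = 7 := by
        rw [Subgroup.orderOf_coe]
        rcases (Nat.dvd_prime (show Nat.Prime 7 by norm_num)).1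
          (show orderOf g ∣ 7 from hw ▸ Nat.card_zpowers w ▸ orderOf_dvd_natCard g) with h' | h'
        · exact absurd (orderOf_eq_one_iff.1 h') h
        · exact h'
      rw [← hv, (hkey (g : G) ((Subgroup.zpowers_le.2 hwC) g.2) ho).2]
      norm_num
  rw [Finset.sum_congr rfl (fun g _ => hval g), Finset.sum_sub_distrib, Finset.sum_ite_eq',
    Finset.sum_const, Finset.card_univ, ← Nat.card_eq_fintype_card, Nat.card_zpowers, hw] at ha
  simp only [Finset.mem_univ, if_true, nsmul_eq_mul] at ha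
  have h : ((77 - 7 * 32 : ℤ) : ℂ) = ((7 * a : ℕ) : ℤ) := by
    push_cast at ha ⊢
    linear_combination ha
  have h' : (77 - 7 * 32 : ℤ) = ((7 * a : ℕ) : ℤ) := by exact_mod_cast h
  omega

/-- The centralizer of an involution of the centralizer. -/
theorem exists_j (h23 : LocalTwentyThree G) {t : G} (ht : orderOf t = 2)
    (htC : t ∈ Subgroup.centralizer ((P : Subgroup G) : Set G)) :
    ∃ j : ℕ, j ∣ 20160 ∧ Nat.card (cen t) = 22 * j := by
  haveI := Fact.mk (show Nat.Prime 23 by norm_num)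
  have h2 : 2 ∣ Nat.card (cen t) :=
    ht ▸ Subgroup.orderOf_dvd_natCard (cen t) (Subgroup.mem_centralizer_singleton_iff.2 rfl)
  have h11 : 11 ∣ Nat.card (cen t) := by
    refine dvd_trans (dvd_of_eq D.cardP.symm) (Subgroup.card_dvd_of_le fun x hx => ?_)
    exact Subgroup.mem_centralizer_singleton_iff.2 (Subgroup.mem_centralizer_iff.1 htC x hx)
  have hn23 : ¬ 23 ∣ Nat.card (cen t) := by
    intro h
    obtain ⟨⟨y, hy⟩, hyo⟩ := exists_prime_orderOf_dvd_card' (G := cen t) 23 h
    rw [Subgroup.orderOf_mk] at hyo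
    have htC' : t ∈ cen y :=
      Subgroup.mem_centralizer_singleton_iff.2 (Subgroup.mem_centralizer_singleton_iff.1 hy).symm
    have := Subgroup.orderOf_dvd_natCard _ htC'
    rw [ht, h23.cent y hyo] at this
    norm_num at this
  obtain ⟨j, hj⟩ := (by norm_num : Nat.Coprime 2 11).mul_dvd_of_dvd_of_dvd h2 h11
  refine ⟨j, ?_, hj⟩
  have hd : 22 * j ∣ 22 * (20160 * 23) := by
    have := Subgroup.card_subgroup_dvd_card (cen t)
    rwa [hG, hj, show 10200960 = 22 * (20160 * 23) by norm_num] at this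
  refine Nat.Coprime.dvd_of_dvd_mul_right ?_ (Nat.dvd_of_mul_dvd_mul_left (by norm_num) hd)
  exact ((Nat.Prime.coprime_iff_not_dvd (by norm_num)).2 fun h => hn23 (hj ▸ h.mul_left 22)).symm

/-- An involution of the centralizer. -/
theorem exists_involution (h2 : 2 ∣ c) :
    ∃ t ∈ Subgroup.centralizer ((P : Subgroup G) : Set G), orderOf t = 2 := by
  haveI := Fact.mk Nat.prime_two
  exact exists_prime_element hG B he h2

omit he B

/-- Index two is impossible. -/
theorem false_two (h23 : LocalTwentyThree G) (hA : ArithTwoStmt) (D : Sec P 2 c)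
    (hc : c ∈ ([8, 30, 63, 96, 140, 360, 448, 1680, 20160] : List ℕ)) : False := by
  haveI := Fintype.ofFinite G
  have he : (2 : ℕ) = 2 ∨ (2 : ℕ) = 5 ∨ (2 : ℕ) = 10 := Or.inl rfl
  obtain ⟨B⟩ := exists_block D he
  by_cases h7 : 7 ∣ c
  · obtain ⟨χ, hχ⟩ := Finset.card_eq_one.1 (show (members B).card = 1 by
      rw [card_members hG B he]; norm_num)
    obtain ⟨hXY, hne, hs, hmod⟩ := mem_members hG B he (members_one hG B he hχ (ψ := χ)).1
    obtain ⟨θ, hθ⟩ : B.Y.Nonempty := Finset.card_pos.1 (by rw [B.cardY]; norm_num)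
    have hrel := rel_exc hG B he (by norm_num) hθ (g := (1 : G)) (by rw [orderOf_one]; norm_num)
    rw [hχ, Finset.sum_singleton, deg_eq, deg_eq] at hrel
    have hT : B.ε * (charDegree (θ : G → ℂ) : ℤ) =
        1 + sign' B χ * (charDegree (χ : G → ℂ) : ℤ) := by exact_mod_cast hrel
    have hXm : ∀ ψ ∈ B.X, ψ = principal G ∨ ψ = χ := fun ψ hψ => by
      by_cases hp : ψ = principal G
      · exact Or.inl hp
      · exact Or.inr ((members_one hG B he hχ).2 ((members_iff hG B he ψ).2 ⟨hp, Or.inl hψ⟩))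
    have hYd : ∀ ψ ∈ B.Y, charDegree (ψ : G → ℂ) = charDegree (θ : G → ℂ) := fun ψ hψ => by
      have h := B.eqY ψ hψ θ hθ 1 (by rw [orderOf_one]; norm_num)
      rw [deg_eq, deg_eq, Nat.cast_inj] at h
      exact h
    have hXnY : ∀ ψ, ψ ∈ B.X → ψ ∉ B.Y := fun ψ h h' => Finset.disjoint_left.1 B.disj h h'
    have hχX : χ ∈ B.X := by
      rcases ((members_iff hG B he χ).1 (members_one hG B he hχ (ψ := χ)).1).2 with h | ⟨h, -⟩
      · exact h
      · omega
    have hbound : 1 + charDegree (χ : G → ℂ) * charDegree (χ : G → ℂ) +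
        5 * (charDegree (θ : G → ℂ) * charDegree (θ : G → ℂ)) ≤ 10200960 := by
      haveI := irrFintype G
      have hnot : principal G ∉ insert χ B.Y := by
        simp only [Finset.mem_insert, not_or]
        exact ⟨hne.symm, hXnY _ (principal_X hG B he (by norm_num))⟩
      have h' := Finset.sum_le_univ_sum_of_nonneg (s := insert (principal G) (insert χ B.Y))
        (f := fun χ : IrrCharacter G => charDegree (χ : G → ℂ) ^ 2) fun χ => Nat.zero_le _
      rw [sum_degree_sq_nat (G := G), hG, Finset.sum_insert hnot,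
        Finset.sum_insert (hXnY χ hχX), Tables.principal_degree (nonabelian hG),
        Finset.sum_congr rfl (s₁ := B.Y) (g := fun _ => charDegree (θ : G → ℂ) ^ 2) fun φ hφ => by
          rw [hYd φ hφ],
        Finset.sum_const, B.cardY, smul_eq_mul] at h'
      norm_num [pow_two] at h'
      omega
    have hlist : charDegree (χ : G → ℂ) ∈ ([1, 10, 21, 23, 45] : List ℕ) := by
      have hlt : charDegree (χ : G → ℂ) < 1400 := by
        have h5 : (charDegree (χ : G → ℂ) : ℤ) ≤ (charDegree (θ : G → ℂ) : ℤ) + 1 := by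
          rcases hs with h | h <;> rcases B.ε_sign with h' | h' <;> rw [h, h'] at hT <;> omega
        by_contra hlt
        have h1 : 1400 * 1400 ≤ charDegree (χ : G → ℂ) * charDegree (χ : G → ℂ) :=
          Nat.mul_le_mul (by omega) (by omega)
        have h2 : 1399 * 1399 ≤ charDegree (θ : G → ℂ) * charDegree (θ : G → ℂ) :=
          Nat.mul_le_mul (by omega) (by omega)
        omega
      obtain ⟨hp1, hn1⟩ := two_list _ hlt (deg_facts hG χ).1
      have hθd := (deg_facts hG θ).1
      rcases hs with h | h <;> rw [h] at hT hmod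
      · have hθe : charDegree (θ : G → ℂ) = 1 + charDegree (χ : G → ℂ) := by
          rcases B.ε_sign with h' | h' <;> rw [h'] at hT <;> omega
        rw [hθe] at hθd hbound
        exact hp1 (by omega) hθd hbound
      · have hθe : charDegree (θ : G → ℂ) = charDegree (χ : G → ℂ) - 1 := by
          rcases B.ε_sign with h' | h' <;> rw [h'] at hT <;> omega
        rw [hθe] at hθd hbound
        exact hn1 (by omega) hθd hbound
    have h2d := two_le_deg hG hne
    refine no_seven hG B he h7 hXY hne ?_ ?_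
    · simp only [List.mem_cons, List.not_mem_nil, or_false] at hlist ⊢
      omega
    · intro ψ hψ hd
      rcases hψ with h | h
      · rcases hXm ψ h with rfl | rfl
        · rw [Tables.principal_degree (nonabelian hG)] at hd; omega
        · rfl
      · rw [hYd ψ h] at hd
        rw [hd] at hT
        rcases hs with h' | h' <;> rcases B.ε_sign with h'' | h'' <;> rw [h', h''] at hT <;> omega
  · have hc' : c ∈ ([8, 30, 96, 360] : List ℕ) := by
      simp only [List.mem_cons, List.not_mem_nil, or_false] at hc ⊢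
      omega
    obtain ⟨t, htC, ht⟩ := exists_involution hG B he (by
      simp only [List.mem_cons, List.not_mem_nil, or_false] at hc'; omega)
    obtain ⟨j, hj, hC⟩ := exists_j hG B he h23 ht htC
    obtain ⟨l, T, W, hrow, -⟩ := exists_row hG B he ht htC
    rw [hC] at hrow
    exact hA j c l T W hj hc' hrow

/-- Index ten is impossible. -/
theorem false_ten (h23 : LocalTwentyThree G) (hA : ArithTenStmt) (D : Sec P 10 c)
    (hc : c ∈ ([6, 28, 72, 336] : List ℕ)) : False := by
  haveI := Fintype.ofFinite G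
  have he : (10 : ℕ) = 2 ∨ (10 : ℕ) = 5 ∨ (10 : ℕ) = 10 := Or.inr (Or.inr rfl)
  obtain ⟨B⟩ := exists_block D he
  simp only [List.mem_cons, List.not_mem_nil, or_false] at hc
  obtain ⟨t, htC, ht⟩ := exists_involution hG B he (by omega)
  obtain ⟨j, hj, hC⟩ := exists_j hG B he h23 ht htC
  obtain ⟨l, T, W, hrow, hcnt⟩ := exists_row hG B he ht htC
  rw [hC] at hrow
  have hmem : ∀ p ∈ l, ∃ χ : IrrCharacter G, (χ ∈ B.X ∨ χ ∈ B.Y) ∧
      p.1.natAbs = charDegree (χ : G → ℂ) := by
    intro p hp
    have h1 : 0 < cnt p.1.natAbs l := List.countP_pos_iff.2 ⟨p, hp, by simp⟩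
    rw [hcnt, Finset.card_pos] at h1
    obtain ⟨χ, hχ⟩ := h1
    rw [Finset.mem_filter] at hχ
    exact ⟨χ, (mem_members hG B he hχ.1).1, hχ.2.symm⟩
  obtain ⟨h9, h7⟩ := hA j c l T W hj hrow fun p hp => by
    obtain ⟨χ, -, e'⟩ := hmem p hp
    rw [e']
    exact ElevenResidue.degree_residue hG h23 χ
  by_cases h3 : 3 ∣ c
  · haveI := Fact.mk Nat.prime_three
    refine h9 fun p hp h => ?_
    obtain ⟨χ, hχ, e'⟩ := hmem p hp
    exact not_dvd_deg hG B he (q := 3) (n := 2) (by norm_num) (by norm_num) h3 hχ (e' ▸ h)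
  · haveI := Fact.mk (show Nat.Prime 7 by norm_num)
    have h7c : 7 ∣ c := by omega
    have h := h7 fun p hp h => by
      obtain ⟨χ, hχ, e'⟩ := hmem p hp
      exact not_dvd_deg hG B he (q := 7) (n := 1) (by norm_num) (by norm_num) h7c hχ
        (by rw [pow_one]; exact e' ▸ h)
    obtain ⟨d, hd, hd1⟩ : ∃ d ∈ ([23, 45] : List ℕ), cnt d l = 1 := by
      rcases h with h | h
      · exact ⟨23, by simp, h⟩
      · exact ⟨45, by simp, h⟩
    rw [hcnt, Finset.card_eq_one] at hd1
    obtain ⟨χ, hχ⟩ := hd1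
    have hχm := (filter_singleton hG B he hχ (ψ := χ)).1
    obtain ⟨hXY, hne, -, -⟩ := mem_members hG B he hχm.1
    refine no_seven hG B he h7c hXY hne ?_ ?_
    · rw [hχm.2]
      simp only [List.mem_cons, List.not_mem_nil, or_false] at hd ⊢
      omega
    · intro ψ hψ hdeg
      have hψne : ψ ≠ principal G := by
        intro h'
        rw [h', Tables.principal_degree (nonabelian hG), hχm.2] at hdeg
        simp only [List.mem_cons, List.not_mem_nil, or_false] at hd
        omega
      refine (filter_singleton hG B he hχ).2 ((members_iff hG B he ψ).2 ⟨hψne, ?_⟩) (hdeg.trans hχm.2)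
      rcases hψ with h' | h'
      · exact Or.inl h'
      · exact Or.inr ⟨rfl, h'⟩

end CfsgLib.M23Order.ElevenEven
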