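import Cfsg.Agent.Lib.M23Order.ElevenSection
import Cfsg.Agent.Lib.M23Order.ElevenDefs
import Cfsg.Agent.Lib.M22Order.Eleven

/-!
# Simple groups of order 10200960: orders and group theory at a Sylow subgroup of order eleven

The possible indices and orders of the centralizer, the Sylow count in the centralizer of an
involution, Burnside's transfer for index five, and the action on twenty-three Sylow subgroups.
-/

set_option autoImplicit false
set_option linter.style.haveILetI false
set_option linter.unusedSectionVars false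

open Cfsg CfsgLib.Small
open scoped Classical

namespace CfsgLib.M23Order.ElevenLocal

universe u

section Arith

set_option maxRecDepth 100000

theorem sylow_options : ∀ d ∈ Nat.divisors 40320, 927360 / d % 11 = 1 →
    d ∈ ([5, 16, 60, 126, 192, 280, 720, 896, 3360, 40320] : List ℕ) := by
  decide +kernel

end Arith

variable {G : Type u} [Group G] [Finite G]

/-- An element commuting with one of order eleven has no order twenty-three, and conversely. -/
theorem not_dvd_card {y : G} {p : ℕ} (h23 : LocalTwentyThree G) (hy : orderOf y = p)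
    (hp : ¬ p ∣ 23) : ¬ 23 ∣ Nat.card (cen y) := by
  haveI := Fact.mk (show Nat.Prime 23 by norm_num)
  intro h
  obtain ⟨⟨x, hx⟩, hxo⟩ := exists_prime_orderOf_dvd_card' (G := cen y) 23 h
  rw [Subgroup.orderOf_mk] at hxo
  have hyx : y ∈ cen x :=
    Subgroup.mem_centralizer_singleton_iff.2 (Subgroup.mem_centralizer_singleton_iff.1 hx).symm
  have := Subgroup.orderOf_dvd_natCard _ hyx
  rw [h23.cent x hxo, hy] at this
  exact hp this

variable [IsSimpleGroup G] (hG : Nat.card G = 10200960) (h23 : LocalTwentyThree G)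

include hG in
theorem nonab : ¬ IsMulCommutative G := not_isMulCommutative_of_card (by rw [hG]; norm_num)

include hG in
theorem card_sylow (P : Sylow 11 G) : Nat.card (P : Subgroup G) = 11 := by
  haveI := Fact.mk (show Nat.Prime 11 by norm_num)
  exact (card_sylow_eq (p := 11) 1 927360 (by rw [hG]; norm_num) (by norm_num) P).trans (pow_one 11)

include hG h23

/-- The index of the centralizer and the order of its complement. -/
theorem options (P : Sylow 11 G) : ∃ e c : ℕ, Nat.Coprime 11 c ∧
    Nat.card (Subgroup.centralizer ((P : Subgroup G) : Set G)) = 11 * c ∧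
    Nat.card (Subgroup.normalizer ((P : Subgroup G) : Set G)) = 11 * c * e ∧
    ((e = 2 ∧ c ∈ ([8, 30, 63, 96, 140, 360, 448, 1680, 20160] : List ℕ)) ∨
      (e = 5 ∧ c ∈ ([1, 12, 56, 144, 672, 8064] : List ℕ)) ∨
      (e = 10 ∧ c ∈ ([6, 28, 72, 336, 4032] : List ℕ))) := by
  haveI := Fact.mk (show Nat.Prime 11 by norm_num)
  have hP := card_sylow hG P
  obtain ⟨e, he1, hed, hce⟩ := exists_normalizer_centralizer (nonab hG) P hP
  obtain ⟨c, hc⟩ := dvd_card_centralizer P hP
  have hmul := card_normalizer_mul P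
  rw [← hce, hc, hG, mul_assoc, mul_assoc] at hmul
  set n := Nat.card (Sylow 11 G) with hndef
  have hmul' : c * e * n = 927360 := by rw [mul_assoc]; omega
  have hN : Nat.card (Subgroup.normalizer ((P : Subgroup G) : Set G)) = 11 * c * e := by rw [← hce, hc]
  have he : e = 2 ∨ e = 5 ∨ e = 10 := by
    have h := Nat.le_of_dvd (by norm_num) hed
    norm_num at hed h
    interval_cases e <;> omega
  -- no element of order twenty-three centralizes the subgroup
  have h23c : ¬ 23 ∣ c * e := by
    intro h
    have h23' : 23 ∣ c := (Nat.Coprime.dvd_of_dvd_mul_right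
      (by rcases he with rfl | rfl | rfl <;> norm_num) h)
    obtain ⟨y, hy, hy1⟩ := (Subgroup.bot_or_exists_ne_one (P : Subgroup G)).resolve_left fun h => by
      rw [h, Subgroup.card_bot] at hP; omega
    have hyo : orderOf y = 11 := orderOf_eq_prime
      (orderOf_dvd_iff_pow_eq_one.1 (hP ▸ Subgroup.orderOf_dvd_natCard _ hy)) hy1
    refine not_dvd_card h23 hyo (by norm_num) ?_
    refine dvd_trans ((h23'.mul_left 11).trans (dvd_of_eq hc.symm)) (Subgroup.card_dvd_of_le fun g hg => ?_)
    exact Subgroup.mem_centralizer_singleton_iff.2 (Subgroup.mem_centralizer_iff.1 hg y hy).symm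
  have hd : c * e ∣ 40320 := (Nat.Prime.coprime_iff_not_dvd (by norm_num)).2 h23c |>.symm
    |>.dvd_of_dvd_mul_left (show c * e ∣ 23 * 40320 from ⟨n, by rw [hmul']⟩)
  have hn : 927360 / (c * e) = n := by
    rw [← hmul', Nat.mul_div_cancel_left _ (Nat.pos_of_ne_zero fun h => by simp [h] at hmul')]
  have hmem := sylow_options _ (Nat.mem_divisors.2 ⟨hd, by norm_num⟩)
    (hn ▸ card_sylow_modEq_one 11 G)
  simp only [List.mem_cons, List.not_mem_nil, or_false] at hmem
  have hc11 : Nat.Coprime 11 c := (Nat.Prime.coprime_iff_not_dvd (by norm_num)).2 fun h => by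
    exact absurd ((h.mul_right e).trans hd) (by norm_num)
  refine ⟨e, c, hc11, hc, hN, ?_⟩
  simp only [List.mem_cons, List.not_mem_nil, or_false]
  rcases he with rfl | rfl | rfl
  · exact Or.inl ⟨rfl, by omega⟩
  · exact Or.inr (Or.inl ⟨rfl, by omega⟩)
  · exact Or.inr (Or.inr ⟨rfl, by omega⟩)

/-- The centralizer of an involution has order `22 j` with `j` a divisor of `20160`. -/
theorem cen_invol {P : Sylow 11 G} {t : G} (hto : orderOf t = 2)
    (htC : t ∈ Subgroup.centralizer ((P : Subgroup G) : Set G)) :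
    ∃ j : ℕ, Nat.card (cen t) = 22 * j ∧ j ∣ 20160 := by
  have h2 : 2 ∣ Nat.card (cen t) :=
    hto ▸ Subgroup.orderOf_dvd_natCard _ (Subgroup.mem_centralizer_singleton_iff.2 rfl : t ∈ cen t)
  have h11 : 11 ∣ Nat.card (cen t) := card_sylow hG P ▸ Subgroup.card_dvd_of_le fun x hx =>
    Subgroup.mem_centralizer_singleton_iff.2 (Subgroup.mem_centralizer_iff.1 htC x hx)
  have hd : Nat.card (cen t) ∣ 23 * 443520 := by
    have := Subgroup.card_subgroup_dvd_card (cen t); rwa [hG] at this
  have hd' : Nat.card (cen t) ∣ 443520 :=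
    ((Nat.Prime.coprime_iff_not_dvd (by norm_num)).2
      (not_dvd_card h23 hto (by norm_num))).symm.dvd_of_dvd_mul_left hd
  obtain ⟨j, hj⟩ := (by norm_num : Nat.Coprime 2 11).mul_dvd_of_dvd_of_dvd h2 h11
  refine ⟨j, hj, ?_⟩
  rw [hj] at hd'
  exact Nat.dvd_of_mul_dvd_mul_left (k := 22) (by norm_num) (by norm_num at hd' ⊢; exact hd')

omit h23 in
/-- The normalizer in the centralizer of an involution. -/
theorem exists_loc {P : Sylow 11 G} {e c : ℕ}
    (hN : Nat.card (Subgroup.normalizer ((P : Subgroup G) : Set G)) = 11 * c * e) {t : G}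
    (hto : orderOf t = 2) (htC : t ∈ Subgroup.centralizer ((P : Subgroup G) : Set G)) :
    ElevenDefs.Loc e (Nat.card (cen t)) c := by
  haveI := Fact.mk (show Nat.Prime 11 by norm_num)
  have hP := card_sylow hG P
  set C := cen t with hC
  set N := Subgroup.normalizer ((P : Subgroup G) : Set G) with hNdef
  have hPN : (P : Subgroup G) ≤ N := Subgroup.le_normalizer
  have hPC : (P : Subgroup G) ≤ C := fun y hy =>
    Subgroup.mem_centralizer_singleton_iff.2 (Subgroup.mem_centralizer_iff.1 htC y hy)
  set Q := P.subtype hPC with hQdef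
  have hQN : Subgroup.normalizer ((Q : Subgroup C) : Set C) = N.subgroupOf C := by
    rw [hQdef, Sylow.coe_subtype, hNdef, ← Subgroup.subgroupOf_normalizer_eq hPC]
  have hNC : Nat.card (Subgroup.normalizer ((Q : Subgroup C) : Set C)) = Nat.card (N ⊓ C : Subgroup G) := by
    rw [hQN, ← Subgroup.inf_subgroupOf_right N C,
      Nat.card_congr (Subgroup.subgroupOfEquivOfLe (inf_le_right : N ⊓ C ≤ C)).toEquiv]
  obtain ⟨a, ha⟩ : 11 ∣ Nat.card (N ⊓ C : Subgroup G) :=
    hP ▸ Subgroup.card_dvd_of_le (le_inf hPN hPC)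
  have ha0 : 0 < a := by
    rcases Nat.eq_zero_or_pos a with rfl | h
    · exact absurd ha (by simpa using (Nat.card_pos (α := (N ⊓ C : Subgroup G))).ne')
    · exact h
  have hn := card_normalizer_mul Q
  rw [hNC, ha, mul_assoc] at hn
  have hdiv : Nat.card C / 11 = a * Nat.card (Sylow 11 C) := by
    rw [← hn, Nat.mul_div_cancel_left _ (by norm_num)]
  refine ⟨a, ?_, ?_, ⟨_, hdiv⟩, ?_⟩
  · have h : t ∈ N ⊓ C := ⟨Subgroup.centralizer_le_normalizer _ htC, Subgroup.mem_centralizer_singleton_iff.2 rfl⟩
    have := Subgroup.orderOf_dvd_natCard _ h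
    rw [ha, hto] at this
    exact (by norm_num : Nat.Coprime 2 11).dvd_of_dvd_mul_left this
  · have h := Subgroup.card_dvd_of_le (inf_le_left : N ⊓ C ≤ N)
    rw [ha, hN, mul_assoc] at h
    exact Nat.dvd_of_mul_dvd_mul_left (by norm_num) h
  · rw [hdiv, Nat.mul_div_cancel_left _ ha0]
    exact card_sylow_modEq_one 11 C

omit h23 in
/-- With index five, an involution centralizer of order `2 ^ k * 77` makes the centralizer of the
Sylow subgroup divisible by sixty-four. -/
theorem false_five_transfer {P : Sylow 11 G} {c : ℕ} (hc : c ∈ ([12, 56, 144, 672] : List ℕ))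
    (hV : Nat.card (Subgroup.centralizer ((P : Subgroup G) : Set G)) = 11 * c)
    (hN : Nat.card (Subgroup.normalizer ((P : Subgroup G) : Set G)) = 11 * c * 5) {t : G}
    (htC : t ∈ Subgroup.centralizer ((P : Subgroup G) : Set G))
    (hcard : Nat.card (cen t) = 4928 ∨ Nat.card (cen t) = 9856) : False := by
  haveI := Fact.mk (show Nat.Prime 11 by norm_num)
  have hP := card_sylow hG P
  set C := cen t with hC
  set V := Subgroup.centralizer ((P : Subgroup G) : Set G) with hVdef
  set N := Subgroup.normalizer ((P : Subgroup G) : Set G) with hNdef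
  have hVN : V ≤ N := Subgroup.centralizer_le_normalizer _
  have hPC : (P : Subgroup G) ≤ C := fun y hy =>
    Subgroup.mem_centralizer_singleton_iff.2 (Subgroup.mem_centralizer_iff.1 htC y hy)
  set Q := P.subtype hPC with hQdef
  have hQc : Nat.card (Q : Subgroup C) = 11 := by
    rw [hQdef, Sylow.coe_subtype, Nat.card_congr (Subgroup.subgroupOfEquivOfLe hPC).toEquiv, hP]
  have hQN : Subgroup.normalizer ((Q : Subgroup C) : Set C) = N.subgroupOf C := by
    rw [hQdef, Sylow.coe_subtype, hNdef, ← Subgroup.subgroupOf_normalizer_eq hPC]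
  haveI : (V.subgroupOf N).Normal := by
    rw [hVdef, hNdef, ← Subgroup.normalizerMonoidHom_ker]
    exact MonoidHom.normal_ker _
  have hidx : Nat.card (N ⧸ V.subgroupOf N) = 5 := by
    have h := Subgroup.card_eq_card_quotient_mul_card_subgroup (V.subgroupOf N)
    rw [Nat.card_congr (Subgroup.subgroupOfEquivOfLe hVN).toEquiv, hN, hV] at h
    have hc0 : 0 < 11 * c := hV ▸ Nat.card_pos
    exact (Nat.eq_of_mul_eq_mul_right hc0 (by rw [← h]; ring)).symm
  have hle' : Subgroup.normalizer ((Q : Subgroup C) : Set C) ≤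
      Subgroup.centralizer ((Q : Subgroup C) : Set C) := by
    rw [hQN]
    intro x hx
    have h1 : orderOf (QuotientGroup.mk' (V.subgroupOf N) ⟨(x : G), hx⟩) ∣ 5 := hidx ▸ orderOf_dvd_natCard _
    have h2 : orderOf (QuotientGroup.mk' (V.subgroupOf N) ⟨(x : G), hx⟩) ∣ Nat.card C :=
      (orderOf_map_dvd _ _).trans (by rw [← Subgroup.orderOf_coe]; exact Subgroup.orderOf_dvd_natCard _ x.2)
    have h3 : QuotientGroup.mk' (V.subgroupOf N) ⟨(x : G), hx⟩ = 1 := orderOf_eq_one_iff.1
      (Nat.eq_one_of_dvd_coprimes (by rcases hcard with h | h <;> rw [h] <;> norm_num) h1 h2)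
    rw [QuotientGroup.mk'_apply, QuotientGroup.eq_one_iff, Subgroup.mem_subgroupOf] at h3
    refine Subgroup.mem_centralizer_iff.2 fun y hy => Subtype.ext ?_
    rw [hQdef, Sylow.coe_subtype] at hy
    exact Subgroup.mem_centralizer_iff.1 h3 y hy
  have h2k : 2 ^ 6 ∣ Nat.card (Subgroup.centralizer ((Q : Subgroup C) : Set C)) := by
    rcases hcard with h | h
    · exact M22Order.Eleven.two_power_dvd_centralizer Q hQc hle' (k := 6) (r := 7) (by norm_num)
        (by rw [h]; norm_num) (by norm_num) (by norm_num)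
    · exact (pow_dvd_pow 2 (by norm_num : 6 ≤ 7)).trans
        (M22Order.Eleven.two_power_dvd_centralizer Q hQc hle' (k := 7) (r := 7) (by norm_num)
          (by rw [h]; norm_num) (by norm_num) (by norm_num))
  have hmap : (Subgroup.centralizer ((Q : Subgroup C) : Set C)).map C.subtype ≤ V := by
    rintro _ ⟨x, hx, rfl⟩
    refine Subgroup.mem_centralizer_iff.2 fun y hy => ?_
    exact congrArg Subtype.val
      (Subgroup.mem_centralizer_iff.1 hx ⟨y, hPC hy⟩ (by rw [hQdef, Sylow.coe_subtype]; exact hy))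
  have h3 : 2 ^ 6 ∣ Nat.card V :=
    h2k.trans ((Subgroup.card_map_of_injective C.subtype_injective).symm ▸ Subgroup.card_dvd_of_le hmap)
  rw [hV] at h3
  simp only [List.mem_cons, List.not_mem_nil, or_false] at hc
  rcases hc with rfl | rfl | rfl | rfl <;> norm_num at h3

omit h23 in
/-- Twenty-three Sylow subgroups leave a centralizer of order at most `242`. -/
theorem false_of_twentyThree {P : Sylow 11 G} {e c : ℕ}
    (hV : Nat.card (Subgroup.centralizer ((P : Subgroup G) : Set G)) = 11 * c)
    (hN : Nat.card (Subgroup.normalizer ((P : Subgroup G) : Set G)) = 11 * c * e)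
    (hce : c * e = 40320) (he : e ≤ 10) : False := by
  haveI := Fact.mk (show Nat.Prime 11 by norm_num)
  have hP := card_sylow hG P
  letI := Fintype.ofFinite (Sylow 11 G)
  have hn : Fintype.card (Sylow 11 G) = 23 := by
    have h := card_normalizer_mul P
    rw [hN, mul_assoc 11 c e, hce, hG, Nat.card_eq_fintype_card] at h
    omega
  have hd11 : 11 ∣ Nat.card G := by rw [hG]; norm_num
  set f := MulAction.toPermHom G (Sylow 11 G) with hf
  have hinj := toPermHom_sylow_injective (nonab hG) hd11 (p := 11)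
  obtain ⟨x, hx, hx1⟩ := (Subgroup.bot_or_exists_ne_one (P : Subgroup G)).resolve_left fun h => by
    rw [h, Subgroup.card_bot] at hP; omega
  have hxo : orderOf x = 11 := orderOf_eq_prime
    (orderOf_dvd_iff_pow_eq_one.1 (hP ▸ Subgroup.orderOf_dvd_natCard _ hx)) hx1
  have hxz : Subgroup.zpowers x = (P : Subgroup G) :=
    Subgroup.eq_of_le_of_card_ge (Subgroup.zpowers_le.2 hx) (by rw [hP, Nat.card_zpowers, hxo])
  have hfix : ∀ Q : Sylow 11 G, f x Q = Q ↔ Q = P := by
    intro Q
    show x • Q = Q ↔ Q = P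
    rw [Sylow.smul_eq_iff_mem_normalizer]
    refine ⟨fun h => ?_, fun h => h ▸ Subgroup.le_normalizer hx⟩
    have hPp : IsPGroup 11 (P : Subgroup G) := P.2
    have hmem : x ∈ (P : Subgroup G) ⊓ (Q : Subgroup G) := by
      rw [← hPp.inf_normalizer_sylow Q]; exact ⟨hx, h⟩
    have hle : (P : Subgroup G) ≤ Q := hxz ▸ Subgroup.zpowers_le.2 hmem.2
    exact Sylow.ext (Subgroup.eq_of_le_of_card_ge hle (by rw [hP, card_sylow hG Q])).symm
  have hsupp : (f x).support.card = 22 := by
    have : (f x).support = Finset.univ.erase P := by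
      ext Q; simp [Equiv.Perm.mem_support, hfix]
    rw [this, Finset.card_erase_of_mem (Finset.mem_univ _), Finset.card_univ, hn]
  have hfo : orderOf (f x) = 11 := by rw [orderOf_injective f hinj, hxo]
  obtain ⟨k, hk⟩ := Equiv.Perm.cycleType_prime_order (σ := f x) (by rw [hfo]; norm_num)
  have hsum := (f x).sum_cycleType
  rw [hk, Multiset.sum_replicate, smul_eq_mul, hfo, hsupp] at hsum
  obtain rfl : k = 1 := by omega
  have hcen : Nat.card (Subgroup.centralizer ({f x} : Set (Equiv.Perm (Sylow 11 G)))) = 242 := by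
    rw [Equiv.Perm.nat_card_centralizer, hk, hfo, hn]
    simp
  have hle : (Subgroup.centralizer ((P : Subgroup G) : Set G)).map f ≤
      Subgroup.centralizer ({f x} : Set (Equiv.Perm (Sylow 11 G))) := by
    rintro _ ⟨g, hg, rfl⟩
    refine Subgroup.mem_centralizer_singleton_iff.2 ?_
    rw [← map_mul, ← map_mul]
    exact congrArg f (Subgroup.mem_centralizer_iff.1 hg x hx).symm
  have h := Subgroup.card_dvd_of_le hle
  rw [Subgroup.card_map_of_injective hinj, hV, hcen] at h
  have h' := Nat.le_of_dvd (by norm_num) h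
  have h4032 : 4032 ≤ c := by
    by_contra hlt
    have : c * e ≤ c * 10 := Nat.mul_le_mul_left _ he
    omega
  omega

end CfsgLib.M23Order.ElevenLocal
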