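import Cfsg.Agent.Lib.M23Order.ElevenEven
import Cfsg.Agent.Lib.M23Order.ElevenLocal

/-!
# Simple groups of order 10200960: the centralizer of an element of order eleven

The index two and ten cases, the transfer for index five, and twenty-three Sylow subgroups leave
a self-centralizing Sylow subgroup with normalizer of order fifty-five.
-/

set_option autoImplicit false
set_option linter.style.haveILetI false
set_option linter.unusedSectionVars false

open Cfsg CfsgLib.Small
open scoped Classical

namespace CfsgLib.M23Order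

universe u

/-- The Sylow subgroup is its own centralizer. -/
theorem sylow_eleven_of_arith {G : Type u} [Group G] [Finite G] [IsSimpleGroup G]
    (hG : Nat.card G = 10200960) (h23 : LocalTwentyThree G) (h5 : ElevenDefs.ArithFiveStmt)
    (h2 : ElevenDefs.ArithTwoStmt) (h10 : ElevenDefs.ArithTenStmt) (P : Sylow 11 G) :
    Subgroup.centralizer ((P : Subgroup G) : Set G) = (P : Subgroup G) ∧
      Nat.card (Subgroup.normalizer ((P : Subgroup G) : Set G)) = 55 := by
  haveI := Fintype.ofFinite G
  haveI := Fact.mk (show Nat.Prime 11 by norm_num)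
  have hP := ElevenLocal.card_sylow hG P
  obtain ⟨e, c, hc11, hV, hN, hcases⟩ := ElevenLocal.options hG h23 P
  obtain ⟨D⟩ := ElevenSection.exists_sec hP hV hc11 hN
  by_cases hbig : c * e = 40320
  · exact (ElevenLocal.false_of_twentyThree hG hV hN hbig
      (by rcases hcases with ⟨h, -⟩ | ⟨h, -⟩ | ⟨h, -⟩ <;> omega)).elim
  rcases hcases with ⟨rfl, hc⟩ | ⟨rfl, hc⟩ | ⟨rfl, hc⟩
  · exact (ElevenEven.false_two hG h23 h2 D hc).elim
  · simp only [List.mem_cons, List.not_mem_nil, or_false] at hc
    by_cases hc1 : c = 1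
    · subst hc1
      haveI := (isCyclic_of_prime_card hP).isMulCommutative
      exact ⟨(Subgroup.eq_of_le_of_card_ge (Subgroup.le_centralizer _) (by rw [hV, hP])).symm, hN⟩
    exfalso
    have he : (5 : ℕ) = 2 ∨ (5 : ℕ) = 5 ∨ (5 : ℕ) = 10 := Or.inr (Or.inl rfl)
    obtain ⟨B⟩ := ElevenSection.exists_block D he
    obtain ⟨t, htC, ht⟩ := ElevenEven.exists_involution hG B he (by omega)
    obtain ⟨j, hj, hjd⟩ := ElevenLocal.cen_invol hG h23 ht htC
    obtain ⟨l, T, W, hrow, -⟩ := ElevenRow.exists_row hG B he ht htC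
    rw [hj] at hrow
    refine ElevenLocal.false_five_transfer hG ?_ hV hN htC (hj ▸ h5 j c l T W hjd (by omega) hrow)
    simp only [List.mem_cons, List.not_mem_nil, or_false]
    omega
  · refine (ElevenEven.false_ten hG h23 h10 D ?_).elim
    simp only [List.mem_cons, List.not_mem_nil, or_false] at hc ⊢
    omega

/-- Piece B from the arithmetic statements. -/
theorem eleven_of_arith (h5 : ElevenDefs.ArithFiveStmt) (h2 : ElevenDefs.ArithTwoStmt)
    (h10 : ElevenDefs.ArithTenStmt) : ElevenStmt.{u} := by
  intro G _ _ hs hG h23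
  haveI := hs
  haveI := Fact.mk (show Nat.Prime 11 by norm_num)
  refine ⟨fun x hx => ?_, fun P => (sylow_eleven_of_arith hG h23 h5 h2 h10 P).2⟩
  obtain ⟨P, hle⟩ := (IsPGroup.of_card (p := 11) (n := 1)
    (show Nat.card (Subgroup.zpowers x) = 11 ^ 1 by
      rw [Nat.card_zpowers, hx, pow_one])).exists_le_sylow
  have hP := ElevenLocal.card_sylow hG P
  have hC := (sylow_eleven_of_arith hG h23 h5 h2 h10 P).1
  have hPz : Subgroup.zpowers x = (P : Subgroup G) :=
    Subgroup.eq_of_le_of_card_ge hle (by rw [hP, Nat.card_zpowers, hx])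
  have hCx : cen x = Subgroup.centralizer (Subgroup.zpowers x : Set G) := by
    rw [Subgroup.zpowers_eq_closure, Subgroup.centralizer_closure]
  rw [hCx, hPz, hC, hP]

end CfsgLib.M23Order
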