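import Cfsg.Agent.Lib.M23Order.Interface
import Cfsg.Agent.Lib.Small.Order7920
import Cfsg.Agent.Lib.Small.SmallOrder

/-!
# Simple groups of order 10200960: the principal blocks at twenty-three and eleven

For a self-centralizing Sylow subgroup of prime order `p` whose normalizer has order `p (n + 1)`
with `p - 1 = 2 (n + 1)`, the principal block gives a `Table` (piece C of
`tools/S1664_plan.md`).
-/

set_option autoImplicit false
set_option linter.style.haveILetI false
set_option linter.unusedSectionVars false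

open Cfsg CfsgLib.Chars CfsgLib.CharApps CfsgLib.Blocks CfsgLib.Small

namespace CfsgLib.M23Order

universe u

namespace Tables

variable {G : Type u} [Group G] [Finite G] [IsSimpleGroup G] (hna : ¬ IsMulCommutative G)

include hna

theorem principal_degree : charDegree (principal G : G → ℂ) = 1 :=
  (deg_eq_one_iff (principal G)).mp (principal_apply _)

theorem eq_principal {χ : IrrCharacter G} (h : charDegree (χ : G → ℂ) = 1) : χ = principal G :=
  eq_of_degree_one hna h (principal_degree hna)

omit hna in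
theorem apply_conj (χ : IrrCharacter G) (g c : G) :
    (χ : G → ℂ) (c * g * c⁻¹) = (χ : G → ℂ) g := by
  haveI := Fintype.ofFinite G
  exact isClassFunction_irr χ g c

/-- The table of the principal block. -/
theorem exists_table {p n m : ℕ} [Fact p.Prime] (hodd : p ≠ 2) (hcard : Nat.card G = p * m)
    (hm : ¬ p ∣ m) (hcent : ∀ x : G, orderOf x = p → Nat.card (cen x) = p)
    (hnorm : ∀ P : Sylow p G,
      Nat.card (Subgroup.normalizer ((P : Subgroup G) : Set G)) = p * (n + 1))
    (hexc : (p - 1) / (n + 1) = 2) (hlt : n + 1 < p) : Nonempty (Table G p n) := by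
  classical
  have hpp : p.Prime := Fact.out
  have hp3 : 3 ≤ p := by have := hpp.two_le; omega
  haveI := Fintype.ofFinite G
  haveI := irrFintype G
  obtain ⟨P⟩ := (inferInstance : Nonempty (Sylow p G))
  have hP : Nat.card (P : Subgroup G) = p := by
    simpa using card_sylow_eq (p := p) 1 m (by rw [hcard, pow_one]) hm P
  obtain ⟨z, hzP, hz1⟩ : ∃ z ∈ (P : Subgroup G), z ≠ 1 :=
    (Subgroup.bot_or_exists_ne_one (P : Subgroup G)).resolve_left fun h => by
      rw [h, Subgroup.card_bot] at hP
      omega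
  have hzo : orderOf z = p := by
    rcases (Nat.dvd_prime hpp).1 (hP ▸ Subgroup.orderOf_dvd_natCard _ hzP) with h | h
    · exact absurd (orderOf_eq_one_iff.1 h) hz1
    · exact h
  have hC : Subgroup.centralizer ((P : Subgroup G) : Set G) = (P : Subgroup G) := by
    refine (Subgroup.eq_of_le_of_card_ge ?_ ?_).symm
    · haveI := (isCyclic_of_prime_card hP).isMulCommutative
      exact Subgroup.le_centralizer (P : Subgroup G)
    · rw [hP]
      exact (Nat.le_of_dvd Nat.card_pos (Subgroup.card_dvd_of_le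
        (Subgroup.centralizer_le (Set.singleton_subset_iff.2 hzP)))).trans (hcent z hzo).le
  have hrel' : (Subgroup.centralizer ((P : Subgroup G) : Set G)).relIndex
      (Subgroup.normalizer ((P : Subgroup G) : Set G)) = n + 1 :=
    relIndex_of_card_mul P (by rw [hnorm P, hC, hP])
  obtain ⟨M, hM⟩ := CharApps.exists_pModular (p := p)
  haveI := hM.2.1.isPrime
  obtain ⟨X, Y, σ, ε, hB, hdisj, hX, hY, hXp, hε, hYd, hYeq, hrel⟩ :=
    Small.O7920.exists_block_data hodd hM P hP hrel'
  rw [hexc] at hY
  have h1one : ¬ p ∣ orderOf (1 : G) := by rw [orderOf_one]; exact hpp.not_dvd_one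
  have hprin : principal G ∈ X := by
    rcases (hB _).1 (CfsgLib.Blocks.principal_mem_principalBlock M) with h | h
    · exact h
    exfalso
    obtain ⟨a, ha, hane⟩ := Finset.exists_mem_ne (show 1 < Y.card by omega) (principal G)
    have h1 := hYeq a ha _ h 1 h1one
    rw [deg_eq, principal_apply, Nat.cast_eq_one] at h1
    exact hane (eq_principal hna h1)
  -- the non-exceptional characters, sorted by degree
  set X' := X.erase (principal G) with hX'
  have hX'c : X'.card = n := by rw [hX', Finset.card_erase_of_mem hprin, hX]; omega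
  let e₀ : Fin n ≃ X' := (X'.equivFinOfCardEq hX'c).symm
  let b : Fin n → IrrCharacter G := fun i => (e₀ i : IrrCharacter G)
  let s : Equiv.Perm (Fin n) := Tuple.sort fun i => charDegree (b i : G → ℂ)
  let a : Fin n → IrrCharacter G := fun i => b (s i)
  have hmono : Monotone fun i => charDegree (a i : G → ℂ) :=
    Tuple.monotone_sort fun i => charDegree (b i : G → ℂ)
  have ha : ∀ i, a i ∈ X ∧ a i ≠ principal G := fun i =>
    ⟨Finset.mem_of_mem_erase (e₀ (s i)).2, Finset.ne_of_mem_erase (e₀ (s i)).2⟩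
  have hainj : Function.Injective a := fun i j h => s.injective (e₀.injective (Subtype.ext h))
  have hasurj : ∀ χ ∈ X, χ ≠ principal G → ∃ i, χ = a i := by
    intro χ hχ hne
    obtain ⟨i, hi⟩ := e₀.surjective ⟨χ, Finset.mem_erase.2 ⟨hne, hχ⟩⟩
    obtain ⟨j, hj⟩ := s.surjective i
    exact ⟨j, by show χ = b (s j); rw [hj]; exact (congrArg Subtype.val hi).symm⟩
  obtain ⟨θ₀, θ₁, hθne, hYe⟩ := Finset.card_eq_two.1 hY
  let θ : Fin 2 → IrrCharacter G := ![θ₀, θ₁]
  have hθ : ∀ j, θ j ∈ Y := fun j => by rw [hYe]; fin_cases j <;> simp [θ]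
  have hθp : ∀ j, θ j ≠ principal G := fun j h =>
    Finset.disjoint_left.1 hdisj hprin (h ▸ hθ j)
  -- signs
  have hone : (1 : ℤ) % (p : ℤ) = 1 := Int.emod_eq_of_lt one_pos.le (by omega)
  have hσp : σ (principal G) = 1 := by
    have h := (hXp _ hprin).2.1
    rw [principal_degree hna, Nat.cast_one, mul_one] at h
    refine (hXp _ hprin).1.resolve_right fun h' => ?_
    rw [h', Int.modEq_iff_dvd] at h
    have := Int.le_of_dvd (by norm_num) h
    omega
  have hsgn : ∀ i, (σ (a i) = 1 ∨ σ (a i) = -1) ∧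
      σ (a i) * (charDegree (a i : G → ℂ) : ℤ) % (p : ℤ) = 1 := fun i => by
    obtain ⟨hs, hmod, -⟩ := hXp (a i) (ha i).1
    have h : σ (a i) * (charDegree (a i : G → ℂ) : ℤ) % (p : ℤ) = 1 % (p : ℤ) := hmod
    exact ⟨hs, h.trans hone⟩
  have hsumX : ∀ F : IrrCharacter G → ℂ, ∑ χ ∈ X, F χ = F (principal G) + ∑ i, F (a i) := by
    intro F
    rw [← Finset.add_sum_erase _ _ hprin, ← hX',
      ← Finset.sum_bij (fun i _ => a i) (fun i _ => Finset.mem_erase.2 ⟨(ha i).2, (ha i).1⟩)
        (fun i _ j _ h => hainj h)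
        (fun χ hχ => by
          rw [Finset.mem_erase] at hχ
          obtain ⟨i, hi⟩ := hasurj χ hχ.2 hχ.1
          exact ⟨i, Finset.mem_univ _, hi.symm⟩) (fun i _ => rfl)]
  have hrelA : ∀ j, ∀ g : G, ¬ p ∣ orderOf g →
      (ε : ℂ) * (θ j : G → ℂ) g = 1 + ∑ i, (σ (a i) : ℂ) * (a i : G → ℂ) g := by
    intro j g hg
    rw [hrel (θ j) (hθ j) g hg, hsumX, hσp, principal_apply]
    simp
  have hθdeg : ∀ j, charDegree (θ j : G → ℂ) = charDegree (θ₀ : G → ℂ) := by
    intro j
    have h := hYeq (θ j) (hθ j) θ₀ (hθ 0) 1 h1one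
    rw [deg_eq, deg_eq, Nat.cast_inj] at h
    exact h
  set de := charDegree (θ₀ : G → ℂ) with hde
  have hde0 : de ≠ 0 := (CfsgLib.Blocks.charDegree_pos θ₀).ne'
  -- characters outside the block
  have hcover : ∀ χ : IrrCharacter G, χ = principal G ∨ (∃ i, χ = Fin.append a θ i) ∨
      (p ∣ charDegree (χ : G → ℂ) ∧ ∀ x : G, orderOf x = p → (χ : G → ℂ) x = 0) := by
    intro χ
    by_cases h : p ∣ charDegree (χ : G → ℂ)
    · refine Or.inr (Or.inr ⟨h, fun x hx => ?_⟩)
      exact eq_zero_of_dvd_orderOf χ.2 (n := 1) (p := p) hpp (deg_eq χ)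
        (by
          rw [hcard, pow_succ, pow_one]
          exact fun hd => hm (Nat.dvd_of_mul_dvd_mul_left hpp.pos hd))
        (by rw [pow_one]; exact h) (by rw [hx])
    rcases (hB χ).1 (mem_principalBlock_of_selfCentral hM P hP hC χ h) with hx | hy
    · by_cases hp : χ = principal G
      · exact Or.inl hp
      · obtain ⟨i, hi⟩ := hasurj χ hx hp
        exact Or.inr (Or.inl ⟨Fin.castAdd 2 i, by rw [Fin.append_left, hi]⟩)
    · rw [hYe, Finset.mem_insert, Finset.mem_singleton] at hy
      rcases hy with rfl | rfl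
      · exact Or.inr (Or.inl ⟨Fin.natAdd n 0, by rw [Fin.append_right]; rfl⟩)
      · exact Or.inr (Or.inl ⟨Fin.natAdd n 1, by rw [Fin.append_right]; rfl⟩)
  have hinj : Function.Injective (Fin.append a θ) := by
    intro i j h
    induction i using Fin.addCases with
    | left i =>
      induction j using Fin.addCases with
      | left j => rw [Fin.append_left, Fin.append_left] at h; rw [hainj h]
      | right j =>
        rw [Fin.append_left, Fin.append_right] at h
        exact absurd (hθ j) (fun hy => Finset.disjoint_left.1 hdisj (ha i).1 (h ▸ hy))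
    | right i =>
      induction j using Fin.addCases with
      | left j =>
        rw [Fin.append_left, Fin.append_right] at h
        exact absurd (hθ i) (fun hy => Finset.disjoint_left.1 hdisj (ha j).1 (h ▸ hy))
      | right j =>
        rw [Fin.append_right, Fin.append_right] at h
        fin_cases i <;> fin_cases j <;> simp [θ, hθne, hθne.symm] at h ⊢
  have hnep : ∀ i, Fin.append a θ i ≠ principal G := fun i => by
    induction i using Fin.addCases with
    | left i => rw [Fin.append_left]; exact (ha i).2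
    | right i => rw [Fin.append_right]; exact hθp i
  have hsumall : ∀ F : IrrCharacter G → ℂ,
      (∀ χ : IrrCharacter G, (∀ x : G, orderOf x = p → (χ : G → ℂ) x = 0) → F χ = 0) →
      ∑ χ, F χ = F (principal G) + ((∑ i, F (a i)) + (F θ₀ + F θ₁)) := by
    intro F hF
    have hsub : ∑ χ ∈ insert (principal G) (Finset.univ.image (Fin.append a θ)), F χ = ∑ χ, F χ :=
      Finset.sum_subset (Finset.subset_univ _) fun χ _ hχ => by
        refine hF χ ?_
        rcases hcover χ with h | ⟨i, h⟩ | h
        · exact absurd (Finset.mem_insert.2 (Or.inl h)) hχ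
        · exact absurd (Finset.mem_insert_of_mem
            (Finset.mem_image.2 ⟨i, Finset.mem_univ _, h.symm⟩)) hχ
        · exact h.2
    rw [← hsub, Finset.sum_insert (fun h => by
      obtain ⟨i, -, hi⟩ := Finset.mem_image.1 h
      exact hnep i hi), Finset.sum_image fun i _ j _ h => hinj h, Fin.sum_univ_add]
    simp [θ]
  have hatA : ∀ i, ∀ x : G, orderOf x = p → (a i : G → ℂ) x = (σ (a i) : ℂ) := by
    intro i x hx
    obtain ⟨Q, hQ⟩ := (IsPGroup.of_card (p := p) (n := 1)
      (show Nat.card (Subgroup.zpowers x) = p ^ 1 by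
        rw [Nat.card_zpowers, hx, pow_one])).exists_le_sylow
    obtain ⟨c, hc⟩ := MulAction.exists_smul_eq G Q P
    have hmem : c * x * c⁻¹ ∈ (P : Subgroup G) := by
      rw [← hc, Sylow.smul_def]
      exact Subgroup.mem_map_of_mem (MulAut.conj c).toMonoidHom (hQ (Subgroup.mem_zpowers _))
    rw [← apply_conj (a i) x c]
    exact (hXp (a i) (ha i).1).2.2 _ hmem fun h => by
      rw [conj_eq_one_iff] at h
      rw [h, orderOf_one] at hx
      omega
  have hatθ : ∀ x : G, orderOf x = p → (θ 0 : G → ℂ) x + (θ 1 : G → ℂ) x = -(ε : ℂ) := by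
    intro x hx
    have hcol := sum_degree_mul (G := G) x
    rw [if_neg (fun h => by rw [h, orderOf_one] at hx; omega),
      hsumall (fun χ => (χ : G → ℂ) 1 * (χ : G → ℂ) x) fun χ h => by simp [h x hx]] at hcol
    have hrel1 := hrelA 0 1 h1one
    simp only [deg_eq, hθdeg 0] at hrel1
    have hd0 : (θ₀ : G → ℂ) 1 = (de : ℂ) := by rw [hde, deg_eq]
    have hd1 : (θ₁ : G → ℂ) 1 = (de : ℂ) := by
      rw [deg_eq, show θ₁ = θ 1 from rfl, hθdeg]
    have hs : ∑ i, (a i : G → ℂ) 1 * (a i : G → ℂ) x =
        ∑ i, (σ (a i) : ℂ) * (charDegree (a i : G → ℂ) : ℂ) :=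
      Finset.sum_congr rfl fun i _ => by rw [deg_eq, hatA i x hx, mul_comm]
    rw [principal_apply, principal_apply, hd0, hd1, hs] at hcol
    have hdne : (de : ℂ) ≠ 0 := Nat.cast_ne_zero.2 hde0
    have h3 : (de : ℂ) * ((ε : ℂ) + ((θ₀ : G → ℂ) x + (θ₁ : G → ℂ) x)) = 0 := by
      linear_combination hcol + hrel1
    show (θ₀ : G → ℂ) x + (θ₁ : G → ℂ) x = -(ε : ℂ)
    linear_combination (mul_eq_zero.1 h3).resolve_left hdne
  exact ⟨{
    a := a
    θ := θ
    sgn := fun i => σ (a i)
    ε := ε
    mono := hmono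
    deg_θ := (hθdeg 1).trans (hθdeg 0).symm
    inj := hinj
    ne_principal := hnep
    sgn_eq := hsgn
    ε_eq := ⟨hε, by
      have h : ε * (charDegree (θ 0 : G → ℂ) : ℤ) % (p : ℤ) = ((n + 1 : ℕ) : ℤ) % (p : ℤ) :=
        hYd (θ 0) (hθ 0)
      rw [h, Int.emod_eq_of_lt (by omega) (by omega)]⟩
    at_p := hatA
    at_p_θ := hatθ
    rel := hrelA
    cover := hcover }⟩

end Tables

/-- Piece C. -/
theorem table : TableStmt.{u} := by
  intro G _ _ hs hG L23 L11
  haveI := hs
  haveI := Fact.mk (show Nat.Prime 23 by norm_num)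
  haveI := Fact.mk (show Nat.Prime 11 by norm_num)
  have hna : ¬ IsMulCommutative G := not_isMulCommutative_of_card (by rw [hG]; norm_num)
  exact ⟨Tables.exists_table hna (m := 443520) (by norm_num) (by rw [hG]) (by norm_num) L23.cent
      (fun P => L23.norm P) (by norm_num) (by norm_num),
    Tables.exists_table hna (m := 927360) (by norm_num) (by rw [hG]) (by norm_num) L11.cent
      (fun P => L11.norm P) (by norm_num) (by norm_num)⟩

end CfsgLib.M23Order
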