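import Cfsg.Agent.Lib.M23Order.ElevenSectionCount
import Cfsg.Agent.Lib.M23Order.ElevenDefs
import Cfsg.Agent.Lib.M23Order.Tables
import Cfsg.Agent.Lib.M12Order.Tools

/-!
# Simple groups of order 10200960: the data at an involution centralizing a Sylow eleven subgroup
-/

set_option autoImplicit false
set_option linter.style.haveILetI false
set_option linter.unusedSectionVars false

open Cfsg CfsgLib.Chars CfsgLib.CharApps CfsgLib.Blocks CfsgLib.Small
open scoped ComplexConjugate Classical

namespace CfsgLib.M23Order.ElevenRow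

open CfsgLib.M23Order.ElevenSection CfsgLib.M23Order.ElevenDefs

universe u

variable {G : Type u} [Group G] [Finite G] [IsSimpleGroup G] {P : Sylow 11 G} {e c : ℕ}

/-- The signs extended to the exceptional characters. -/
noncomputable def sign' {D : Sec P e c} (B : Block D) (χ : IrrCharacter G) : ℤ :=
  if χ ∈ B.Y then -B.ε else B.σ χ

/-- The characters giving the signed pairs. -/
noncomputable def members {D : Sec P e c} (B : Block D) : Finset (IrrCharacter G) :=
  (if e = 10 then B.X ∪ B.Y else B.X).erase (principal G)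

variable (hG : Nat.card G = 10200960)
include hG

theorem nonabelian : ¬ IsMulCommutative G := not_isMulCommutative_of_card (by rw [hG]; norm_num)

theorem perfect : commutator G = ⊤ := commutator_eq_top (nonabelian hG)

theorem deg_facts (χ : IrrCharacter G) :
    charDegree (χ : G → ℂ) ∣ 10200960 ∧ 0 < charDegree (χ : G → ℂ) :=
  ⟨hG ▸ charDegree_dvd_card χ, CfsgLib.Blocks.charDegree_pos χ⟩

theorem two_le_deg {χ : IrrCharacter G} (h : χ ≠ principal G) : 2 ≤ charDegree (χ : G → ℂ) := by
  have := CfsgLib.Blocks.charDegree_pos χ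
  by_contra h'
  exact h (Tables.eq_principal (nonabelian hG) (by omega))

variable {D : Sec P e c} (B : Block D) (he : e = 2 ∨ e = 5 ∨ e = 10)
include he

theorem principal_X (h10 : e ≠ 10) : principal G ∈ B.X := by
  refine B.principal_mem.resolve_right fun h => ?_
  obtain ⟨a, ha, hane⟩ := Finset.exists_mem_ne
    (show 1 < B.Y.card by rw [B.cardY]; rcases he with rfl | rfl | rfl <;> first | exact absurd rfl h10 | norm_num)
    (principal G)
  have h1 := B.eqY a ha _ h 1 (by rw [orderOf_one]; norm_num)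
  rw [deg_eq, principal_apply, Nat.cast_eq_one] at h1
  exact hane (Tables.eq_principal (nonabelian hG) h1)

/-- The sign of the principal character is one. -/
theorem sign_principal : sign' B (principal G) = 1 := by
  have hd : charDegree (principal G : G → ℂ) = 1 := Tables.principal_degree (nonabelian hG)
  unfold sign'
  split_ifs with h
  · have h10 : e = 10 := by
      by_contra hne
      exact Finset.disjoint_left.1 B.disj (principal_X hG B he hne) h
    have h1 := B.degY _ h
    rw [hd] at h1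
    rcases B.ε_sign with h' | h' <;> rw [h'] at h1 ⊢ <;> omega
  · have h1 := B.sign _ (B.principal_mem.resolve_right h)
    rw [hd] at h1
    rcases h1.1 with h' | h' <;> rw [h'] at h1 ⊢ <;> omega

theorem principal_all : principal G ∈ (if e = 10 then B.X ∪ B.Y else B.X) := by
  split_ifs with h
  · exact Finset.mem_union.2 B.principal_mem
  · exact principal_X hG B he h

theorem mem_members {χ : IrrCharacter G} (h : χ ∈ members B) :
    (χ ∈ B.X ∨ χ ∈ B.Y) ∧ χ ≠ principal G ∧ (sign' B χ = 1 ∨ sign' B χ = -1) ∧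
      (sign' B χ * (charDegree (χ : G → ℂ) : ℤ)) % 11 = 1 := by
  unfold members at h
  rw [Finset.mem_erase] at h
  have hXY : χ ∈ B.X ∨ χ ∈ B.Y := by
    by_cases h10 : e = 10
    · rw [if_pos h10, Finset.mem_union] at h; exact h.2
    · rw [if_neg h10] at h; exact Or.inl h.2
  refine ⟨hXY, h.1, ?_⟩
  unfold sign'
  split_ifs with hY
  · have h10 : e = 10 := by
      by_contra hne
      rw [if_neg hne] at h
      exact Finset.disjoint_left.1 B.disj h.2 hY
    have h1 := B.degY _ hY
    rcases B.ε_sign with h' | h' <;> rw [h'] at h1 ⊢ <;> omega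
  · obtain ⟨h1, h2⟩ := B.sign _ (hXY.resolve_right hY)
    refine ⟨h1, ?_⟩
    rcases h1 with h' | h' <;> rw [h'] at h2 ⊢ <;> omega

/-- A sum over the members and the principal character. -/
theorem sum_all (F : IrrCharacter G → ℂ) :
    ∑ χ ∈ (if e = 10 then B.X ∪ B.Y else B.X), (sign' B χ : ℂ) * F χ =
      F (principal G) + ∑ χ ∈ members B, (sign' B χ : ℂ) * F χ := by
  rw [← Finset.add_sum_erase _ _ (principal_all hG B he), sign_principal hG B he]
  unfold members
  simp

theorem sum_X (F : IrrCharacter G → ℂ) :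
    ∑ χ ∈ B.X, (B.σ χ : ℂ) * F χ = ∑ χ ∈ B.X, (sign' B χ : ℂ) * F χ :=
  Finset.sum_congr rfl fun χ hχ => by
    rw [sign', if_neg (fun h => Finset.disjoint_left.1 B.disj hχ h)]

theorem rel_ten (h10 : e = 10) {g : G} (hg : ¬ 11 ∣ orderOf g) :
    1 + ∑ χ ∈ members B, (sign' B χ : ℂ) * (χ : G → ℂ) g = 0 := by
  have h := sum_all hG B he fun χ => (χ : G → ℂ) g
  rw [if_pos h10, Finset.sum_union B.disj, ← sum_X hG B he] at h
  obtain ⟨θ, hθ⟩ := Finset.card_eq_one.1 (show B.Y.card = 1 by rw [B.cardY, h10])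
  simp only [principal_apply] at h
  rw [← h, hθ, Finset.sum_singleton, ← B.rel θ (by rw [hθ]; exact Finset.mem_singleton_self θ) g hg,
    sign', if_pos (by rw [hθ]; exact Finset.mem_singleton_self θ)]
  push_cast
  ring

theorem rel_exc (h10 : e ≠ 10) {θ : IrrCharacter G} (hθ : θ ∈ B.Y) {g : G} (hg : ¬ 11 ∣ orderOf g) :
    (B.ε : ℂ) * (θ : G → ℂ) g = 1 + ∑ χ ∈ members B, (sign' B χ : ℂ) * (χ : G → ℂ) g := by
  have h := sum_all hG B he fun χ => (χ : G → ℂ) g
  rw [if_neg h10, ← sum_X hG B he, ← B.rel θ hθ g hg] at h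
  simpa [principal_apply] using h

theorem card_members : (members B).card = if e = 10 then 10 else e - 1 := by
  unfold members
  rw [Finset.card_erase_of_mem (principal_all hG B he)]
  split_ifs with h
  · rw [Finset.card_union_of_disjoint B.disj, B.cardX, B.cardY, h]
  · rw [B.cardX]

/-- The data at an involution of the centralizer. -/
theorem exists_row {t : G} (ht : orderOf t = 2)
    (htC : t ∈ Subgroup.centralizer ((P : Subgroup G) : Set G)) :
    ∃ (l : List (ℤ × ℤ)) (T W : ℤ), Row e (Nat.card (cen t)) c l T W ∧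
      ∀ d : ℕ, cnt d l = ((members B).filter fun χ : IrrCharacter G =>
        charDegree (χ : G → ℂ) = d).card := by
  haveI := Fintype.ofFinite G
  haveI := irrFintype G
  have ht2 : t * t = 1 := by rw [← sq, ← ht, pow_orderOf_eq_one]
  have ht1 : t ≠ 1 := fun h => by rw [h, orderOf_one] at ht; omega
  have h11t : ¬ 11 ∣ orderOf t := by rw [ht]; norm_num
  have h11one : ¬ 11 ∣ orderOf (1 : G) := by rw [orderOf_one]; norm_num
  choose v hv using fun χ : IrrCharacter G => exists_int_apply_involution ht2 χ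
  set C := Nat.card (cen t) with hC
  have hidx : (cen t).index = 10200960 / C := by
    rw [hC, ← hG, ← Subgroup.card_mul_index (cen t), Nat.mul_div_cancel_left _ Nat.card_pos]
  have hfacts : ∀ χ : IrrCharacter G, (χ ∈ B.X ∨ χ ∈ B.Y) → χ ≠ principal G →
      (4 : ℤ) ∣ (charDegree (χ : G → ℂ) : ℤ) - v χ ∧
      (11 : ℤ) ∣ v χ - (charDegree (χ : G → ℂ) : ℤ) ∧
      (v χ).natAbs < charDegree (χ : G → ℂ) ∧
      (charDegree (χ : G → ℂ) : ℤ) ∣ ((10200960 / C : ℕ) : ℤ) * v χ := by
    intro χ hmem hne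
    have h11 := B.congr χ hmem t htC (v χ) (hv χ)
    have h4 := four_dvd_degree_sub (perfect hG) χ ht2 (hv χ)
    have hK : ∀ K : Subgroup G, K.Normal → t ∈ K → K = ⊤ := fun K hK htK =>
      hK.eq_bot_or_eq_top.resolve_left fun h => ht1 (by rwa [h, Subgroup.mem_bot] at htK)
    have h1 := apply_ne_degree hK χ hne
    rw [← hv χ, deg_eq] at h1
    have h2 := char_norm_le (isCharacter_of_irr χ.2) t
    rw [← hv χ, deg_eq, Complex.norm_intCast, Complex.natCast_re] at h2
    have h3 : |v χ| ≤ (charDegree (χ : G → ℂ) : ℤ) := by exact_mod_cast h2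
    have h5 : v χ ≠ (charDegree (χ : G → ℂ) : ℤ) := fun h =>
      h1 (by exact_mod_cast congrArg (Int.cast : ℤ → ℂ) h)
    obtain ⟨h6, h7⟩ := abs_le.1 h3
    -- the value minus the degree is excluded by the congruence
    have h8 : ¬ (11 : ℤ) ∣ (charDegree (χ : G → ℂ) : ℤ) := by
      intro hd
      rcases hmem with hX | hY
      · obtain ⟨hs, h⟩ := B.sign χ hX
        rcases hs with h' | h' <;> rw [h'] at h <;> omega
      · have h := B.degY χ hY
        rcases B.ε_sign with h' | h' <;> rw [h'] at h <;> rcases he with rfl | rfl | rfl <;> omega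
    refine ⟨h4, h11, ?_, hidx ▸ M12Order.dvd_index_mul χ (hv χ)⟩
    have h9 : v χ ≠ -(charDegree (χ : G → ℂ) : ℤ) := fun h => h8 (by omega)
    omega
  set S := members B with hS
  set T : ℤ := 1 + ∑ χ ∈ S, sign' B χ * (charDegree (χ : G → ℂ) : ℤ) with hT
  set W : ℤ := 1 + ∑ χ ∈ S, sign' B χ * v χ with hW
  set l : List (ℤ × ℤ) := S.toList.map fun χ =>
    (sign' B χ * (charDegree (χ : G → ℂ) : ℤ), sign' B χ * v χ) with hl
  have hsum : ∀ φ : ℤ × ℤ → ℤ, (l.map φ).sum =
      ∑ χ ∈ S, φ (sign' B χ * (charDegree (χ : G → ℂ) : ℤ), sign' B χ * v χ) := fun φ => by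
    rw [hl, List.map_map]
    exact Finset.sum_map_toList S _
  have hs2 : ∀ χ ∈ S, sign' B χ * sign' B χ = 1 := fun χ hχ => by
    rcases (mem_members hG B he hχ).2.2.1 with h | h <;> rw [h] <;> norm_num
  have hcastT : (T : ℂ) = 1 + ∑ χ ∈ S, (sign' B χ : ℂ) * (χ : G → ℂ) 1 := by
    rw [hT]; push_cast; simp only [deg_eq]
  have hcastW : (W : ℂ) = 1 + ∑ χ ∈ S, (sign' B χ : ℂ) * (χ : G → ℂ) t := by
    rw [hW]; push_cast; simp only [hv]
  have hexc : e ≠ 10 → ∀ θ ∈ B.Y, T = B.ε * (charDegree (θ : G → ℂ) : ℤ) ∧ W = B.ε * v θ := by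
    intro h10 θ hθ
    have ha := rel_exc hG B he h10 hθ h11one
    have hb := rel_exc hG B he h10 hθ h11t
    rw [← hcastT, deg_eq] at ha
    rw [← hcastW, ← hv θ] at hb
    exact ⟨by exact_mod_cast ha.symm, by exact_mod_cast hb.symm⟩
  have hten : e = 10 → T = 0 ∧ W = 0 := by
    intro h10
    have ha := rel_ten hG B he h10 h11one
    have hb := rel_ten hG B he h10 h11t
    rw [← hcastT] at ha
    rw [← hcastW] at hb
    exact ⟨by exact_mod_cast ha, by exact_mod_cast hb⟩
  have hYne : e ≠ 10 → ∀ θ ∈ B.Y, θ ≠ principal G := fun h10 θ hθ h =>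
    Finset.disjoint_left.1 B.disj (principal_X hG B he h10) (h ▸ hθ)
  have hYpos : B.Y.Nonempty := Finset.card_pos.1 (by
    rw [B.cardY]; rcases he with rfl | rfl | rfl <;> norm_num)
  have hε2 : B.ε * B.ε = 1 := by rcases B.ε_sign with h | h <;> rw [h] <;> norm_num
  -- the squares over the block
  have hnotp : principal G ∉ S := by simp [hS, members]
  have hsq : ∀ w : IrrCharacter G → ℤ, w (principal G) = 1 →
      ∀ g : G, (∀ χ, (w χ : ℂ) = (χ : G → ℂ) g) → (e ≠ 10 → ∀ θ ∈ B.Y, ∀ φ ∈ B.Y, w θ = w φ) →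
      ∀ X0 : ℤ, (e = 10 → X0 = 0) → (e ≠ 10 → ∀ θ ∈ B.Y, X0 * X0 = w θ * w θ) →
      1 + ∑ χ ∈ S, w χ * w χ + ((10 / e : ℕ) : ℤ) * (X0 * X0) ≤ (Nat.card (cen g) : ℤ) := by
    intro w hw1 g hwg hwY X0 hX10 hXne
    by_cases h10 : e = 10
    · have h := M12Order.sum_sq_le_card_cen (g := g) (insert (principal G) S) w fun χ _ => hwg χ
      rw [Finset.sum_insert hnotp, hw1] at h
      rw [hX10 h10]
      simp only [sq] at h
      simpa using h
    · have hd : Disjoint (insert (principal G) S) B.Y := by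
        refine Finset.disjoint_left.2 fun χ h1 h2 => ?_
        rcases Finset.mem_insert.1 h1 with rfl | h1
        · exact Finset.disjoint_left.1 B.disj (principal_X hG B he h10) h2
        · simp only [hS, members, if_neg h10, Finset.mem_erase] at h1
          exact Finset.disjoint_left.1 B.disj h1.2 h2
      have h := M12Order.sum_sq_le_card_cen (g := g) ((insert (principal G) S) ∪ B.Y) w fun χ _ => hwg χ
      rw [Finset.sum_union hd, Finset.sum_insert hnotp, hw1,
        Finset.sum_congr rfl (s₁ := B.Y) (g := fun _ => X0 * X0) fun θ hθ => by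
          rw [sq, hXne h10 θ hθ], Finset.sum_const, B.cardY, nsmul_eq_mul] at h
      simp only [sq] at h
      exact le_trans (le_of_eq (by ring)) h
  have hv1 : v (principal G) = 1 := by
    have h := hv (principal G)
    rw [principal_apply] at h
    exact_mod_cast h
  refine ⟨l, T, W, ⟨?_, ?_, ?_, ?_, hten, ?_, ?_, ?_, ?_⟩, fun d => ?_⟩
  · rw [hl, List.length_map, Finset.length_toList, hS, card_members hG B he]
  · intro p hp
    rw [hl, List.mem_map] at hp
    obtain ⟨χ, hχ, rfl⟩ := hp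
    obtain ⟨hXY, hne, hs, hmod⟩ := mem_members hG B he (Finset.mem_toList.1 hχ)
    obtain ⟨h4, h11, hlt, hdvd⟩ := hfacts χ hXY hne
    have h44 : (44 : ℤ) ∣ (charDegree (χ : G → ℂ) : ℤ) - v χ :=
      Int.natCast_dvd.2 (Nat.Coprime.mul_dvd_of_dvd_of_dvd (show Nat.Coprime 4 11 by norm_num)
        (Int.natCast_dvd.1 h4) (Int.natCast_dvd.1 (dvd_sub_comm.1 h11)))
    have habs : (sign' B χ * (charDegree (χ : G → ℂ) : ℤ)).natAbs = charDegree (χ : G → ℂ) := by
      rcases hs with h | h <;> simp [h]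
    have hsvC : v χ * v χ < (C : ℤ) := by
      have h := M12Order.sum_sq_le_card_cen (g := t) {principal G, χ} v fun χ _ => hv χ
      rw [Finset.sum_pair hne.symm, hv1, sq, sq] at h
      linarith
    refine ⟨hmod, ?_, ?_, ?_, ?_, ?_, ?_⟩
    · rw [habs]; exact two_le_deg hG hne
    · rw [habs]; exact (deg_facts hG χ).1
    · rw [← mul_sub]; exact h44.mul_left _
    · rw [habs, Int.natAbs_mul]; rcases hs with h | h <;> simp [h, hlt]
    · rcases hs with h | h <;> simpa [h] using hsvC
    · rcases hs with h | h <;> simpa [h] using hdvd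
  · rw [hsum, hT]
  · rw [hsum, hW]
  · intro h10
    obtain ⟨θ, hθ⟩ := hYpos
    obtain ⟨e1, e2⟩ := hexc h10 θ hθ
    obtain ⟨h4, h11, hlt, hdvd⟩ := hfacts θ (Or.inr hθ) (hYne h10 θ hθ)
    have h44 : (44 : ℤ) ∣ (charDegree (θ : G → ℂ) : ℤ) - v θ :=
      Int.natCast_dvd.2 (Nat.Coprime.mul_dvd_of_dvd_of_dvd (show Nat.Coprime 4 11 by norm_num)
        (Int.natCast_dvd.1 h4) (Int.natCast_dvd.1 (dvd_sub_comm.1 h11)))
    have habs : T.natAbs = charDegree (θ : G → ℂ) := by
      rw [e1]; rcases B.ε_sign with h | h <;> simp [h]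
    refine ⟨?_, ?_, ?_, ?_, ?_⟩
    · rw [habs]; exact two_le_deg hG (hYne h10 θ hθ)
    · rw [habs]; exact (deg_facts hG θ).1
    · rw [e1, e2, ← mul_sub]; exact h44.mul_left _
    · rw [habs, e2, Int.natAbs_mul]; rcases B.ε_sign with h | h <;> simp [h, hlt]
    · rw [e1, e2]; rcases B.ε_sign with h | h <;> simpa [h] using hdvd
  · have h := hsq (fun χ => (charDegree (χ : G → ℂ) : ℤ))
      (by rw [Tables.principal_degree (nonabelian hG)]; norm_num) 1
      (fun χ => by rw [deg_eq]; simp) (fun _ θ hθ φ hφ => by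
        have h := B.eqY θ hθ φ hφ 1 h11one
        rw [deg_eq, deg_eq, Nat.cast_inj] at h
        exact_mod_cast h)
      T (fun h10 => (hten h10).1) (fun h10 θ hθ => by
        rw [(hexc h10 θ hθ).1, mul_mul_mul_comm, hε2, one_mul])
    have hle : (Nat.card (cen (1 : G)) : ℤ) ≤ 10200960 := by
      exact_mod_cast hG ▸ Subgroup.card_le_card_group _
    rw [hsum]
    refine le_trans (le_of_eq ?_) (h.trans hle)
    congr 2
    refine Finset.sum_congr rfl fun χ hχ => ?_
    show sign' B χ * (charDegree (χ : G → ℂ) : ℤ) * (sign' B χ * (charDegree (χ : G → ℂ) : ℤ)) = _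
    rw [mul_mul_mul_comm, hs2 χ hχ, one_mul]
  · have h := hsq v hv1 t hv (fun _ θ hθ φ hφ => by
        have h := B.eqY θ hθ φ hφ t h11t
        rw [← hv, ← hv] at h
        exact_mod_cast h)
      W (fun h10 => (hten h10).2) (fun h10 θ hθ => by
        rw [(hexc h10 θ hθ).2, mul_mul_mul_comm, hε2, one_mul])
    rw [hsum]
    refine le_trans (le_of_eq ?_) h
    congr 2
    refine Finset.sum_congr rfl fun χ hχ => ?_
    show sign' B χ * v χ * (sign' B χ * v χ) = _
    rw [mul_mul_mul_comm, hs2 χ hχ, one_mul]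
  · -- the pairs of conjugates with product in the section
    let F : IrrCharacter G → ℂ := fun χ => (χ : G → ℂ) t * (χ : G → ℂ) t / (χ : G → ℂ) 1
    have hFp : F (principal G) = 1 := by simp [F, principal_apply]
    have hA : 10 * (∑ χ ∈ B.X, (B.σ χ : ℂ) * F χ) - (e : ℂ) * (B.ε : ℂ) * ∑ θ ∈ B.Y, F θ =
        10 * (1 + (∑ χ ∈ S, (sign' B χ : ℂ) * F χ) - (W : ℂ) * (W : ℂ) / (T : ℂ)) := by
      have h := sum_all hG B he F
      rw [hFp, ← hS] at h
      rcases eq_or_ne e 10 with h10 | h10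
      · rw [if_pos h10] at h
        replace h : (∑ χ ∈ B.X, (sign' B χ : ℂ) * F χ) + ∑ χ ∈ B.Y, (sign' B χ : ℂ) * F χ =
            1 + ∑ χ ∈ S, (sign' B χ : ℂ) * F χ := by
          rw [← h]
          convert (Finset.sum_union B.disj).symm using 1
          all_goals congr!
        rw [← sum_X hG B he] at h
        obtain ⟨θ, hθ⟩ := Finset.card_eq_one.1 (show B.Y.card = 1 by rw [B.cardY, h10])
        rw [hθ, Finset.sum_singleton, sign', if_pos (by rw [hθ]; exact Finset.mem_singleton_self θ)] at h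
        rw [hθ, Finset.sum_singleton, (hten h10).2, ← h, show (e : ℂ) = 10 by exact_mod_cast h10]
        push_cast
        ring
      · rw [if_neg h10, ← sum_X hG B he] at h
        have hY : ∀ θ ∈ B.Y, (B.ε : ℂ) * F θ = (W : ℂ) * (W : ℂ) / (T : ℂ) := by
          intro θ hθ
          obtain ⟨e1, e2⟩ := hexc h10 θ hθ
          rw [e1, e2]
          simp only [F, ← hv θ, deg_eq]
          have hε0 : (B.ε : ℂ) ≠ 0 := Int.cast_ne_zero.2 (by rcases B.ε_sign with h | h <;> omega)
          push_cast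
          field_simp
        rw [h, mul_assoc, Finset.mul_sum (B.Y), Finset.sum_congr rfl hY, Finset.sum_const, B.cardY,
          nsmul_eq_mul]
        rcases he with rfl | rfl | rfl
        · norm_num; ring
        · norm_num; ring
        · exact absurd rfl h10
    have hcount := count_eq D B ht2 fun χ _ => ⟨v χ, hv χ⟩
    rw [hA] at hcount
    obtain ⟨k, hk, hk5⟩ : ∃ k : ℕ, 11 * (Finset.univ.filter fun ab : G × G =>
        (ab.1 * t * ab.1⁻¹) * (ab.2 * t * ab.2⁻¹) ∈ sect D).card = 10 * (C * k) ^ 2 ∧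
        (e = 5 → k = 0) := by
      by_cases h5 : e = 5
      · exact ⟨0, by rw [count_zero D h5 ht2]; ring, fun _ => rfl⟩
      · obtain ⟨k, hk⟩ := count_square D ht2
        exact ⟨k, hk, fun h => absurd h h5⟩
    refine ⟨k, hk5, ?_⟩
    rw [hsum]
    have hdiv : ∀ z : ℤ, z ∣ 10200960 → z ≠ 0 → ((10200960 / z : ℤ) : ℂ) = 10200960 / (z : ℂ) :=
      fun z hz hz0 => by
        rw [Int.cast_div hz (Int.cast_ne_zero.2 hz0)]
        norm_num
    have hterm : ∀ χ ∈ S, ((10200960 / (sign' B χ * (charDegree (χ : G → ℂ) : ℤ)) *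
        (sign' B χ * v χ * (sign' B χ * v χ)) : ℤ) : ℂ) = 10200960 * ((sign' B χ : ℂ) * F χ) := by
      intro χ hχ
      obtain ⟨hXY, hne, hs, hmod⟩ := mem_members hG B he hχ
      have hd0 := (deg_facts hG χ).2
      have hd : ((charDegree (χ : G → ℂ) : ℕ) : ℤ) ∣ 10200960 := by exact_mod_cast (deg_facts hG χ).1
      simp only [F, ← hv χ, deg_eq, Int.cast_mul]
      rcases hs with h | h <;> rw [h]
      · rw [one_mul, hdiv _ hd (by omega)]; push_cast; ring
      · rw [neg_one_mul, hdiv _ (neg_dvd.2 hd) (by omega)]; push_cast; ring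
    have hWT : ((10200960 / T * (W * W) : ℤ) : ℂ) = 10200960 * ((W : ℂ) * (W : ℂ) / (T : ℂ)) := by
      rcases eq_or_ne e 10 with h10 | h10
      · rw [(hten h10).2]; simp
      · obtain ⟨θ, hθ⟩ := hYpos
        obtain ⟨e1, -⟩ := hexc h10 θ hθ
        have hd : ((charDegree (θ : G → ℂ) : ℕ) : ℤ) ∣ 10200960 := by exact_mod_cast (deg_facts hG θ).1
        have hd0 := (deg_facts hG θ).2
        have hTd : T ∣ 10200960 ∧ T ≠ 0 := by
          rw [e1]
          rcases B.ε_sign with h | h <;> rw [h]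
          · rw [one_mul]; exact ⟨hd, by omega⟩
          · rw [neg_one_mul]; exact ⟨neg_dvd.2 hd, by omega⟩
        rw [Int.cast_mul, hdiv _ hTd.1 hTd.2]; push_cast; ring
    have hkc : (11 : ℂ) * ((Nat.card G : ℂ) * ((c : ℂ) * (10 * (1 + (∑ χ ∈ S, (sign' B χ : ℂ) * F χ) -
        (W : ℂ) * (W : ℂ) / (T : ℂ))))) = 10 * ((C : ℂ) * (k : ℂ)) ^ 2 := by
      rw [← hcount]
      exact_mod_cast hk
    apply Int.cast_injective (α := ℂ)
    simp only [Int.cast_mul, Int.cast_add, Int.cast_sub, Int.cast_sum, Int.cast_natCast, Int.cast_pow,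
      Int.cast_ofNat]
    simp only [Int.cast_mul] at hterm hWT
    rw [Finset.sum_congr rfl hterm, hWT, ← Finset.mul_sum]
    rw [hG] at hkc
    push_cast at hkc
    linear_combination (1 / 10 : ℂ) * hkc
  · unfold cnt
    rw [hl, List.countP_map, List.countP_eq_length_filter, ← Finset.length_toList]
    refine List.Perm.length_eq ((List.perm_ext_iff_of_nodup ((Finset.nodup_toList _).filter _)
      (Finset.nodup_toList _)).2 fun χ => ?_)
    simp only [List.mem_filter, Finset.mem_toList, Finset.mem_filter, Function.comp_apply, beq_iff_eq]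
    refine ⟨fun h => ⟨h.1, ?_⟩, fun h => ⟨h.1, ?_⟩⟩
    · rcases (mem_members hG B he h.1).2.2.1 with h' | h' <;> simpa [h'] using h.2
    · rcases (mem_members hG B he h.1).2.2.1 with h' | h' <;> simp [h', h.2]

end CfsgLib.M23Order.ElevenRow
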