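import Cfsg.Agent.Lib.M23Order.Interface
import Cfsg.Agent.Lib.M12Order.FiveEvenTools
import Cfsg.Agent.Lib.CharApps.Galois
import Cfsg.Agent.Lib.CharApps.ClassCount
import Cfsg.Agent.Lib.Small.Order7920
import Cfsg.Agent.Lib.Chars.Char

/-!
# Simple groups of order 10200960: the section of a Sylow subgroup of order eleven

For a Sylow subgroup `P` of order eleven with `C(P) = P × H`: the sums of the characters over
`C(P) - H` are supported on the principal block, and count pairs of conjugates of an involution.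
-/

set_option autoImplicit false
set_option linter.style.haveILetI false
set_option linter.unusedSectionVars false

open Cfsg CfsgLib.Chars CfsgLib.CharApps CfsgLib.Blocks CfsgLib.Small
open scoped ComplexConjugate Classical

namespace CfsgLib.M23Order.ElevenSection

universe u

variable {G : Type u} [Group G] [Finite G]

/-- The sum of a character over a subgroup is a multiple of the order. -/
theorem sum_subgroup (χ : IrrCharacter G) (M : Subgroup G) [Fintype M] :
    ∃ a : ℕ, ∑ m : M, (χ : G → ℂ) m = (Nat.card M : ℂ) * a := by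
  classical
  obtain ⟨a, ha⟩ := Chars.inner_char_nat
    (Chars.isCharacter_restrict M (isCharacter_of_irr χ.2)) (Chars.isCharacter_one (G := M))
  refine ⟨a, ?_⟩
  have h0 : (Nat.card M : ℂ) ≠ 0 := Nat.cast_ne_zero.2 Nat.card_pos.ne'
  rw [Chars.inner_def, inv_mul_eq_iff_eq_mul₀ h0] at ha
  simpa only [map_one, mul_one] using ha

/-- The complement of a Sylow subgroup of order eleven in its centralizer. -/
structure Sec (P : Sylow 11 G) (e c : ℕ) where
  H : Subgroup G
  cardP : Nat.card (P : Subgroup G) = 11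
  cenCard : Nat.card (Subgroup.centralizer ((P : Subgroup G) : Set G)) = 11 * c
  normCard : Nat.card (Subgroup.normalizer ((P : Subgroup G) : Set G)) = 11 * c * e
  card : Nat.card H = c
  le : H ≤ Subgroup.centralizer ((P : Subgroup G) : Set G)
  coprime : Nat.Coprime 11 c
  mem_iff : ∀ g : G, g ∈ H ↔ g ∈ Subgroup.centralizer ((P : Subgroup G) : Set G) ∧ g ^ c = 1

variable {P : Sylow 11 G} {e c : ℕ}

/-- The section exists. -/
theorem exists_sec [Fact (Nat.Prime 11)] (hP : Nat.card (P : Subgroup G) = 11)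
    (hC : Nat.card (Subgroup.centralizer ((P : Subgroup G) : Set G)) = 11 * c) (hc : Nat.Coprime 11 c)
    (hN : Nat.card (Subgroup.normalizer ((P : Subgroup G) : Set G)) = 11 * c * e) :
    Nonempty (Sec P e c) := by
  set C := Subgroup.centralizer ((P : Subgroup G) : Set G) with hCdef
  haveI := (isCyclic_of_prime_card hP).isMulCommutative
  have hPC : (P : Subgroup G) ≤ C := Subgroup.le_centralizer _
  set S := P.subtype hPC
  have hS : Subgroup.normalizer ((S : Subgroup C) : Set C) ≤
      Subgroup.centralizer ((S : Subgroup C) : Set C) := fun g _ =>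
    Subgroup.mem_centralizer_iff.2 fun s hs => Subtype.ext
      (Subgroup.mem_centralizer_iff.1 g.2 (s : G) hs)
  have hcompl := MonoidHom.ker_transferSylow_isComplement' S hS
  set K := (MonoidHom.transferSylow S hS).ker with hK
  have hScard : Nat.card (S : Subgroup C) = 11 := by
    rw [show Nat.card (S : Subgroup C) = Nat.card (P : Subgroup G) from
      Nat.card_congr (Subgroup.subgroupOfEquivOfLe hPC).toEquiv, hP]
  have hKcard : Nat.card K = c := by
    have h := hcompl.card_mul
    rw [hScard, hC] at h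
    omega
  have hidx : K.index = 11 := by rw [hcompl.symm.index_eq_card, hScard]
  have hpow : ∀ g : C, g ^ 11 ∈ K := fun g => hidx ▸ K.pow_index_mem g
  refine ⟨{ H := K.map C.subtype, cardP := hP, cenCard := hC, normCard := hN, card := ?_,
            le := Subgroup.map_subtype_le K, coprime := hc, mem_iff := ?_ }⟩
  · rw [← hKcard]
    exact (Nat.card_congr
      (K.equivMapOfInjective C.subtype C.subtype_injective).toEquiv).symm
  · intro g
    constructor
    · rintro ⟨k, hk, rfl⟩
      refine ⟨k.2, ?_⟩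
      have h : (⟨k, hk⟩ : K) ^ c = 1 := by rw [← hKcard, pow_card_eq_one']
      exact congrArg (fun x : K => ((x : C) : G)) h
    · rintro ⟨hgC, hgc⟩
      refine ⟨⟨g, hgC⟩, ?_, rfl⟩
      have h1 := hpow ⟨g, hgC⟩
      have h2 : (⟨g, hgC⟩ : C) ^ c = 1 := Subtype.ext hgc
      obtain ⟨i, hi⟩ := exists_pow_eq_self_of_coprime (x := (⟨g, hgC⟩ : C)) (n := 11)
        (Nat.Coprime.coprime_dvd_right (orderOf_dvd_of_pow_eq_one h2) hc)
      rw [← hi]
      exact K.pow_mem h1 i

/-- The pairs of a nontrivial element of `P` and an element of the complement. -/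
noncomputable def pairs [Fintype G] (D : Sec P e c) : Finset (G × G) :=
  Finset.univ.filter fun p => (p.1 ∈ (P : Subgroup G) ∧ p.1 ≠ 1) ∧ p.2 ∈ D.H

/-- The elements of the centralizer of order divisible by eleven. -/
noncomputable def sect [Fintype G] (_D : Sec P e c) : Finset G :=
  Finset.univ.filter fun g => g ∈ Subgroup.centralizer ((P : Subgroup G) : Set G) ∧ g ^ c ≠ 1

/-- The sum of a character over the section. -/
noncomputable def avg [Fintype G] (D : Sec P e c) (χ : IrrCharacter G) : ℂ := ∑ g ∈ sect D, (χ : G → ℂ) g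

variable (D : Sec P e c)
include D

theorem cpos : 0 < c := D.card ▸ Nat.card_pos

theorem pow_c {h : G} (hh : h ∈ D.H) : h ^ c = 1 := ((D.mem_iff h).1 hh).2

theorem pow_eleven {x : G} (hx : x ∈ (P : Subgroup G)) : x ^ 11 = 1 :=
  D.cardP ▸ congrArg Subtype.val (pow_card_eq_one' (x := (⟨x, hx⟩ : (P : Subgroup G))))

theorem P_le : (P : Subgroup G) ≤ Subgroup.centralizer ((P : Subgroup G) : Set G) := by
  haveI := Fact.mk (show Nat.Prime 11 by norm_num)
  haveI := (isCyclic_of_prime_card D.cardP).isMulCommutative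
  exact Subgroup.le_centralizer _

theorem comm {x h : G} (hx : x ∈ (P : Subgroup G)) (hh : h ∈ Subgroup.centralizer ((P : Subgroup G) : Set G)) :
    Commute x h := Subgroup.mem_centralizer_iff.1 hh x hx

theorem eq_one_of_pow {x : G} (hx : x ∈ (P : Subgroup G)) (h : x ^ c = 1) : x = 1 := by
  obtain ⟨i, hi⟩ := exists_pow_eq_self_of_coprime (x := x) (n := c)
    (Nat.Coprime.coprime_dvd_right (orderOf_dvd_of_pow_eq_one (pow_eleven D hx)) D.coprime.symm)
  rw [← hi, h, one_pow]

theorem pow_mem_P {g : G} (hg : g ∈ Subgroup.centralizer ((P : Subgroup G) : Set G)) :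
    g ^ c ∈ (P : Subgroup G) := by
  haveI := Fact.mk (show Nat.Prime 11 by norm_num)
  have h11 : (g ^ c) ^ 11 = 1 := by
    rw [← pow_mul, mul_comm, ← D.cenCard]
    exact congrArg Subtype.val (pow_card_eq_one'
      (x := (⟨g, hg⟩ : Subgroup.centralizer ((P : Subgroup G) : Set G))))
  have hpg : IsPGroup 11 (Subgroup.zpowers (g ^ c)) := by
    obtain ⟨i, -, hi⟩ := (Nat.dvd_prime_pow (show Nat.Prime 11 by norm_num)).1
      (show orderOf (g ^ c) ∣ 11 ^ 1 by rw [pow_one]; exact orderOf_dvd_of_pow_eq_one h11)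
    exact IsPGroup.of_card (n := i) (by rw [Nat.card_zpowers, hi])
  have hnorm : Subgroup.zpowers (g ^ c) ≤ Subgroup.normalizer ((P : Subgroup G) : Set G) := by
    rw [Subgroup.zpowers_le]
    exact Subgroup.centralizer_le_normalizer _ (Subgroup.pow_mem _ hg c)
  have h := P.3 (hpg.to_sup_of_normal_right' P.2 hnorm) le_sup_right
  rw [← h]
  exact Subgroup.mem_sup_left (Subgroup.mem_zpowers _)

theorem mul_pow_c {x h : G} (hx : x ∈ (P : Subgroup G)) (hh : h ∈ D.H) : (x * h) ^ c = x ^ c := by
  rw [(comm D hx (D.le hh)).mul_pow, pow_c D hh, mul_one]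

theorem mem_sect [Fintype G] {g : G} : g ∈ sect D ↔
    ∃ x ∈ (P : Subgroup G), x ≠ 1 ∧ ∃ h ∈ D.H, g = x * h := by
  simp only [sect, Finset.mem_filter, Finset.mem_univ, true_and]
  constructor
  · rintro ⟨hg, hgc⟩
    have hy := pow_mem_P D hg
    obtain ⟨i, hi⟩ := exists_pow_eq_self_of_coprime (x := g ^ c) (n := c)
      (Nat.Coprime.coprime_dvd_right (orderOf_dvd_of_pow_eq_one (pow_eleven D hy)) D.coprime.symm)
    set x := (g ^ c) ^ i with hx
    have hxP : x ∈ (P : Subgroup G) := Subgroup.pow_mem _ hy i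
    have hxc : x ^ c = g ^ c := by rw [hx, ← pow_mul, mul_comm, pow_mul, hi]
    have hx1 : x ≠ 1 := fun h => hgc (by rw [← hxc, h, one_pow])
    refine ⟨x, hxP, hx1, x⁻¹ * g, ?_, (mul_inv_cancel_left x g).symm⟩
    rw [D.mem_iff]
    refine ⟨Subgroup.mul_mem _ (Subgroup.inv_mem _ (P_le D hxP)) hg, ?_⟩
    rw [((comm D hxP hg).inv_left).mul_pow, inv_pow, hxc, inv_mul_cancel]
  · rintro ⟨x, hx, hx1, h, hh, rfl⟩
    refine ⟨Subgroup.mul_mem _ (P_le D hx) (D.le hh), fun h1 => hx1 ?_⟩
    rw [mul_pow_c D hx hh] at h1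
    exact eq_one_of_pow D hx h1

theorem pair_inj {x x' h h' : G} (hx : x ∈ (P : Subgroup G)) (hx' : x' ∈ (P : Subgroup G))
    (hh : h ∈ D.H) (hh' : h' ∈ D.H) (e : x * h = x' * h') : x = x' ∧ h = h' := by
  have h1 : x'⁻¹ * x = h' * h⁻¹ := by
    rw [eq_mul_inv_iff_mul_eq, mul_assoc, e, inv_mul_cancel_left]
  have h2 : x'⁻¹ * x = 1 := eq_one_of_pow D (Subgroup.mul_mem _ (Subgroup.inv_mem _ hx') hx)
    (h1 ▸ pow_c D (Subgroup.mul_mem _ hh' (Subgroup.inv_mem _ hh)))
  obtain rfl := inv_mul_eq_one.1 h2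
  exact ⟨rfl, mul_left_cancel e⟩

theorem sum_sect [Fintype G] {β : Type*} [AddCommMonoid β] (f : G → β) :
    ∑ g ∈ sect D, f g = ∑ p ∈ pairs D, f (p.1 * p.2) := by
  classical
  have hmem : ∀ p ∈ pairs D, p.1 ∈ (P : Subgroup G) ∧ p.1 ≠ 1 ∧ p.2 ∈ D.H := fun p hp => by
    simp only [pairs, Finset.mem_filter, Finset.mem_univ, true_and] at hp
    exact ⟨hp.1.1, hp.1.2, hp.2⟩
  symm
  refine Finset.sum_bij (fun p _ => p.1 * p.2) (fun p hp => ?_) (fun p hp q hq e => ?_) (fun g hg => ?_)
    (fun _ _ => rfl)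
  · exact (mem_sect D).2 ⟨p.1, (hmem p hp).1, (hmem p hp).2.1, p.2, (hmem p hp).2.2, rfl⟩
  · obtain ⟨e1, e2⟩ := pair_inj D (hmem p hp).1 (hmem q hq).1 (hmem p hp).2.2 (hmem q hq).2.2 e
    exact Prod.ext e1 e2
  · obtain ⟨x, hx, hx1, h, hh, rfl⟩ := (mem_sect D).1 hg
    exact ⟨(x, h), by simp [pairs, hx, hx1, hh], rfl⟩

theorem card_sect [Fintype G] : (sect D).card = 10 * c := by
  classical
  rw [Finset.card_eq_sum_ones, sum_sect D, ← Finset.card_eq_sum_ones]
  have : pairs D = ((Finset.univ.filter fun x : G => x ∈ (P : Subgroup G)).erase 1) ×ˢ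
      (Finset.univ.filter fun h : G => h ∈ D.H) := by
    ext p
    simp [pairs, and_comm]
  rw [this, Finset.card_product, Finset.card_erase_of_mem (by simp)]
  have e1 : (Finset.univ.filter fun x : G => x ∈ (P : Subgroup G)).card = 11 := by
    refine Eq.trans ?_ D.cardP
    rw [Nat.card_eq_fintype_card, Fintype.card_subtype]
  have e2 : (Finset.univ.filter fun x : G => x ∈ D.H).card = c := by
    refine Eq.trans ?_ D.card
    rw [Nat.card_eq_fintype_card, Fintype.card_subtype]
  rw [e1, e2]

/-- The sum over the section is `c` times an integer. -/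
theorem exists_mean [Fintype G] (χ : IrrCharacter G) :
    ∃ a b : ℕ, avg D χ = (c : ℂ) * (((11 * a : ℕ) : ℤ) - (b : ℤ) : ℤ) ∧
      ∑ h ∈ Finset.univ.filter (fun g : G => g ∈ D.H), (χ : G → ℂ) h = (c : ℂ) * b := by
  classical
  set C := Subgroup.centralizer ((P : Subgroup G) : Set G) with hC
  haveI : Fintype C := Fintype.ofFinite _
  haveI : Fintype D.H := Fintype.ofFinite _
  obtain ⟨a, ha⟩ := sum_subgroup χ C
  obtain ⟨b, hb⟩ := sum_subgroup χ D.H
  have hH : ∑ h ∈ Finset.univ.filter (fun g : G => g ∈ D.H), (χ : G → ℂ) h = (c : ℂ) * b := by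
    rw [Finset.sum_subtype _ (p := fun g : G => g ∈ D.H) (fun g => by simp), hb, D.card]
  refine ⟨a, b, ?_, hH⟩
  have hsplit : avg D χ + ∑ h ∈ Finset.univ.filter (fun g : G => g ∈ D.H), (χ : G → ℂ) h =
      ∑ g : C, (χ : G → ℂ) g := by
    rw [← Finset.sum_subtype (Finset.univ.filter fun g : G => g ∈ C) (p := fun g : G => g ∈ C)
      (fun g => by simp) (fun g => (χ : G → ℂ) g), ← Finset.sum_filter_add_sum_filter_not
        (Finset.univ.filter fun g : G => g ∈ C) (fun g => g ^ c ≠ 1) fun g => (χ : G → ℂ) g, avg]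
    congr 1
    · refine Finset.sum_congr ?_ fun _ _ => rfl
      ext g; simp [sect, hC]
    · refine Finset.sum_congr ?_ fun _ _ => rfl
      ext g; simp [D.mem_iff, hC]
  rw [ha, hH, D.cenCard] at hsplit
  push_cast at hsplit ⊢
  linear_combination hsplit

theorem mem_normalizer_of_conj [Fintype G] {a g : G} (hg : g ∈ sect D)
    (h : a * g * a⁻¹ ∈ sect D) : a ∈ Subgroup.normalizer ((P : Subgroup G) : Set G) := by
  simp only [sect, Finset.mem_filter, Finset.mem_univ, true_and] at hg h
  set y := g ^ c with hy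
  have hyP : y ∈ (P : Subgroup G) := pow_mem_P D hg.1
  have hz : Subgroup.zpowers y = (P : Subgroup G) := by
    refine Subgroup.eq_of_le_of_card_ge (Subgroup.zpowers_le.2 hyP) ?_
    rw [D.cardP, Nat.card_zpowers,
      orderOf_eq_prime (hp := Fact.mk (show Nat.Prime 11 by norm_num)) (pow_eleven D hyP) hg.2]
  have hay : a * y * a⁻¹ ∈ (P : Subgroup G) := by
    rw [hy, ← conj_pow]
    exact pow_mem_P D h.1
  have hmap : (P : Subgroup G).map (MulAut.conj a).toMonoidHom = (P : Subgroup G) := by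
    refine Subgroup.eq_of_le_of_card_ge ?_ (le_of_eq ?_)
    · rw [← hz, MonoidHom.map_zpowers, Subgroup.zpowers_le, hz]
      exact hay
    · rw [Subgroup.card_map_of_injective (MulAut.conj a).injective]
  rw [Subgroup.mem_normalizer_iff]
  intro x
  conv_rhs => rw [← hmap]
  constructor
  · intro hx; exact ⟨x, hx, rfl⟩
  · rintro ⟨z, hz', e'⟩
    exact (MulAut.conj a).injective e' ▸ hz'

theorem conj_mem_sect [Fintype G] {a g : G} (hg : g ∈ sect D)
    (ha : a ∈ Subgroup.normalizer ((P : Subgroup G) : Set G)) : a * g * a⁻¹ ∈ sect D := by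
  simp only [sect, Finset.mem_filter, Finset.mem_univ, true_and] at hg ⊢
  refine ⟨Subgroup.mem_centralizer_iff.2 fun x hx => ?_, fun h => hg.2 ?_⟩
  · have h1 : a⁻¹ * x * a ∈ (P : Subgroup G) := by
      have := (Subgroup.mem_normalizer_iff.1 (Subgroup.inv_mem _ ha) x).1 hx
      rwa [inv_inv] at this
    have h2 := Subgroup.mem_centralizer_iff.1 hg.1 _ h1
    calc x * (a * g * a⁻¹) = a * (a⁻¹ * x * a * g) * a⁻¹ := by group
      _ = a * (g * (a⁻¹ * x * a)) * a⁻¹ := by rw [h2]
      _ = a * g * a⁻¹ * x := by group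
  · rwa [conj_pow, conj_eq_one_iff] at h

theorem sum_avg_sq [Fintype G] [Fintype (IrrCharacter G)] :
    ∑ χ : IrrCharacter G, avg D χ * conj (avg D χ) = (110 * e * c ^ 2 : ℕ) := by
  set N := Subgroup.normalizer ((P : Subgroup G) : Set G) with hN
  have key : ∀ g ∈ sect D, ∑ χ : IrrCharacter G, ∑ g' ∈ sect D,
      (χ : G → ℂ) g * conj ((χ : G → ℂ) g') = ((11 * c * e : ℕ) : ℂ) := by
    intro g hg
    rw [Finset.sum_comm]
    simp only [second_orthogonality]
    rw [← Finset.sum_filter, Finset.sum_const, nsmul_eq_mul]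
    let f : N → G := fun a => (a : G) * g * (a : G)⁻¹
    have him : (Finset.univ : Finset N).image f = (sect D).filter fun g' => IsConj g' g := by
      ext z
      simp only [Finset.mem_image, Finset.mem_filter, Finset.mem_univ, true_and]
      constructor
      · rintro ⟨a, rfl⟩
        exact ⟨conj_mem_sect D hg a.2, isConj_iff.2 ⟨(a : G)⁻¹, by simp [f]; group⟩⟩
      · rintro ⟨hz, hconj⟩
        obtain ⟨a, ha⟩ := isConj_iff.1 hconj.symm
        exact ⟨⟨a, mem_normalizer_of_conj D hg (ha ▸ hz)⟩, ha⟩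
    have hcard := Finset.card_eq_sum_card_image f (Finset.univ : Finset N)
    have hfib : ∀ z ∈ (Finset.univ : Finset N).image f,
        ((Finset.univ : Finset N).filter fun a => f a = z).card = Nat.card (cen g) := by
      intro z hz
      obtain ⟨b, -, rfl⟩ := Finset.mem_image.1 hz
      rw [Nat.card_eq_fintype_card, Fintype.card_subtype]
      refine Finset.card_bij (fun a _ => ((b : G)⁻¹ * (a : G))) ?_ ?_ ?_
      · intro a ha
        simp only [Finset.mem_filter, Finset.mem_univ, true_and, f] at ha ⊢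
        rw [Subgroup.mem_centralizer_singleton_iff]
        calc (b : G)⁻¹ * a * g = (b : G)⁻¹ * ((a : G) * g * (a : G)⁻¹) * a := by group
          _ = (b : G)⁻¹ * ((b : G) * g * (b : G)⁻¹) * a := by rw [ha]
          _ = g * ((b : G)⁻¹ * a) := by group
      · exact fun a₁ _ a₂ _ e => Subtype.ext (mul_left_cancel e)
      · intro x hx
        simp only [Finset.mem_filter, Finset.mem_univ, true_and] at hx
        rw [Subgroup.mem_centralizer_singleton_iff] at hx
        have hxg : x * g * x⁻¹ = g := mul_inv_eq_iff_eq_mul.2 hx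
        refine ⟨⟨(b : G) * x, Subgroup.mul_mem _ b.2 (mem_normalizer_of_conj D hg (by rwa [hxg]))⟩,
          ?_, by simp⟩
        simp only [Finset.mem_filter, Finset.mem_univ, true_and, f]
        calc (b : G) * x * g * ((b : G) * x)⁻¹ = (b : G) * (x * g * x⁻¹) * (b : G)⁻¹ := by group
          _ = (b : G) * g * (b : G)⁻¹ := by rw [hxg]
    rw [Finset.sum_congr rfl hfib, Finset.sum_const, smul_eq_mul, him, Finset.card_univ,
      ← Nat.card_eq_fintype_card, D.normCard] at hcard
    rw [hcard, Nat.cast_mul]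
  calc ∑ χ : IrrCharacter G, avg D χ * conj (avg D χ)
      = ∑ g ∈ sect D, ∑ χ : IrrCharacter G, ∑ g' ∈ sect D,
          (χ : G → ℂ) g * conj ((χ : G → ℂ) g') := by
        simp only [avg, map_sum, Finset.sum_mul, Finset.mul_sum]
        rw [Finset.sum_comm (γ := G) (s := sect D)]
        exact Finset.sum_congr rfl fun χ _ => Finset.sum_comm
    _ = _ := by
        rw [Finset.sum_congr rfl key, Finset.sum_const, card_sect D, nsmul_eq_mul]
        push_cast
        ring

/-- The sums are orthogonal to the values at elements outside. -/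
theorem orth [Fintype G] [Fintype (IrrCharacter G)] {g : G} (hg : ¬ 11 ∣ orderOf g) :
    ∑ χ : IrrCharacter G, conj ((χ : G → ℂ) g) * avg D χ = 0 := by
  simp only [avg, Finset.mul_sum]
  rw [Finset.sum_comm]
  refine Finset.sum_eq_zero fun z hz => ?_
  have h2 := second_orthogonality (G := G) z g
  rw [if_neg fun hh => ?_] at h2
  · rw [← h2]
    exact Finset.sum_congr rfl fun χ _ => mul_comm _ _
  obtain ⟨a, ha⟩ := isConj_iff.1 hh
  have ho : orderOf g = orderOf z := by rw [← ha, ← MulAut.conj_apply, MulEquiv.orderOf_eq]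
  simp only [sect, Finset.mem_filter, Finset.mem_univ, true_and] at hz
  have := (orderOf_eq_prime (hp := Fact.mk (show Nat.Prime 11 by norm_num))
    (pow_eleven D (pow_mem_P D hz.1)) hz.2) ▸ orderOf_pow_dvd (x := z) c
  exact hg (ho ▸ this)

end CfsgLib.M23Order.ElevenSection
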