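import Cfsg.Agent.Lib.M23Order.ElevenSection
import Cfsg.Agent.S4441
import Cfsg.Agent.Lib.Small.Order7920Tools

/-!
# Simple groups of order 10200960: the sums over the section are those of the principal block
-/

set_option autoImplicit false
set_option linter.style.haveILetI false
set_option linter.unusedSectionVars false

open Cfsg CfsgLib.Chars CfsgLib.CharApps CfsgLib.Blocks CfsgLib.Small
open scoped ComplexConjugate Classical

namespace CfsgLib.M23Order.ElevenSection

universe u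

variable {G : Type u} [Group G] [Finite G] {P : Sylow 11 G} {e c : ℕ} (D : Sec P e c)
include D

/-- If the normalizer has index ten over the centralizer, the sums are multiples of ten. -/
theorem ten_dvd [Fintype G] (he : e = 10) (χ : IrrCharacter G) {m : ℤ}
    (hm : avg D χ = (c : ℂ) * (m : ℂ)) : (10 : ℤ) ∣ m := by
  haveI := Fact.mk (show Nat.Prime 11 by norm_num)
  set N := Subgroup.normalizer ((P : Subgroup G) : Set G) with hN
  obtain ⟨x₀, hx₀, hx₀1⟩ : ∃ x ∈ (P : Subgroup G), x ≠ 1 :=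
    (Subgroup.bot_or_exists_ne_one (P : Subgroup G)).resolve_left fun h => by
      have := D.cardP
      rw [h, Subgroup.card_bot] at this
      omega
  set P' := (Finset.univ.filter fun x : G => x ∈ (P : Subgroup G)).erase 1 with hP'
  have hP'c : P'.card = 10 := by
    have h11 : (Finset.univ.filter fun x : G => x ∈ (P : Subgroup G)).card = 11 := by
      refine Eq.trans ?_ D.cardP
      rw [Nat.card_eq_fintype_card, Fintype.card_subtype]
    rw [hP', Finset.card_erase_of_mem (by simp), h11]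
  let f : N → G := fun a => (a : G) * x₀ * (a : G)⁻¹
  have hsub : (Finset.univ : Finset N).image f ⊆ P' := by
    intro z hz
    obtain ⟨a, -, rfl⟩ := Finset.mem_image.1 hz
    simp only [hP', Finset.mem_erase, Finset.mem_filter, Finset.mem_univ, true_and, f, ne_eq,
      conj_eq_one_iff]
    exact ⟨hx₀1, (Subgroup.mem_normalizer_iff.1 a.2 x₀).1 hx₀⟩
  have hfib : ∀ z ∈ (Finset.univ : Finset N).image f,
      ((Finset.univ : Finset N).filter fun a => f a = z).card ≤ 11 * c := by
    intro z hz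
    obtain ⟨b, -, rfl⟩ := Finset.mem_image.1 hz
    rw [← D.cenCard, Nat.card_eq_fintype_card, Fintype.card_subtype]
    refine Finset.card_le_card_of_injOn (fun a => (b : G)⁻¹ * (a : G)) ?_ ?_
    · intro a ha
      rw [Finset.mem_coe, Finset.mem_filter] at ha
      simp only [Finset.coe_filter, Finset.mem_univ, true_and, Set.mem_setOf_eq]
      have hz : Subgroup.zpowers x₀ = (P : Subgroup G) :=
        Subgroup.eq_of_le_of_card_ge (Subgroup.zpowers_le.2 hx₀) (by
          rw [D.cardP, Nat.card_zpowers, orderOf_eq_prime (pow_eleven D hx₀) hx₀1])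
      rw [← hz, Subgroup.zpowers_eq_closure, Subgroup.centralizer_closure,
        Subgroup.mem_centralizer_singleton_iff]
      calc (b : G)⁻¹ * a * x₀ = (b : G)⁻¹ * ((a : G) * x₀ * (a : G)⁻¹) * a := by group
        _ = (b : G)⁻¹ * ((b : G) * x₀ * (b : G)⁻¹) * a := by
          rw [show (a : G) * x₀ * (a : G)⁻¹ = (b : G) * x₀ * (b : G)⁻¹ from ha.2]
        _ = x₀ * ((b : G)⁻¹ * a) := by group
    · exact fun a _ b _ h => Subtype.ext (mul_left_cancel h)
  have h10 : 10 ≤ ((Finset.univ : Finset N).image f).card := by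
    have h := Finset.card_le_mul_card_image (Finset.univ : Finset N) (11 * c) hfib
    rw [Finset.card_univ, ← Nat.card_eq_fintype_card, D.normCard, he] at h
    exact Nat.le_of_mul_le_mul_left h (Nat.mul_pos (by norm_num) (cpos D))
  have heq := Finset.eq_of_subset_of_card_le hsub (by rw [hP'c]; exact h10)
  let A : G → ℂ := fun x => ∑ h ∈ Finset.univ.filter (fun g : G => g ∈ D.H), (χ : G → ℂ) (x * h)
  have hA : ∀ x ∈ P', A x = A x₀ := by
    intro x hx
    rw [← heq] at hx
    obtain ⟨a, -, rfl⟩ := Finset.mem_image.1 hx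
    have hH : ∀ n : G, n ∈ N → ∀ h ∈ D.H, n * h * n⁻¹ ∈ D.H := by
      intro n hn h hh
      rw [D.mem_iff]
      refine ⟨Subgroup.mem_centralizer_iff.2 fun x hx => ?_, by
        rw [conj_pow, pow_c D hh, mul_one, mul_inv_cancel]⟩
      have h1 : n⁻¹ * x * n ∈ (P : Subgroup G) := by
        have := (Subgroup.mem_normalizer_iff.1 (Subgroup.inv_mem _ hn) x).1 hx
        rwa [inv_inv] at this
      have h2 := Subgroup.mem_centralizer_iff.1 (D.le hh) _ h1
      calc x * (n * h * n⁻¹) = n * (n⁻¹ * x * n * h) * n⁻¹ := by group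
        _ = n * (h * (n⁻¹ * x * n)) * n⁻¹ := by rw [h2]
        _ = n * h * n⁻¹ * x := by group
    symm
    refine Finset.sum_bij (fun h _ => (a : G) * h * (a : G)⁻¹) (fun h hh => ?_)
      (fun h _ h' _ e' => (MulAut.conj (a : G)).injective e') (fun h hh => ?_) (fun h _ => ?_)
    · simp only [Finset.mem_filter, Finset.mem_univ, true_and] at hh ⊢
      exact hH _ a.2 h hh
    · simp only [Finset.mem_filter, Finset.mem_univ, true_and] at hh
      refine ⟨(a : G)⁻¹ * h * (a : G), ?_, by group⟩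
      simp only [Finset.mem_filter, Finset.mem_univ, true_and]
      have := hH _ (Subgroup.inv_mem _ a.2) h hh
      rwa [inv_inv] at this
    · have h3 := isClassFunction_irr χ (x₀ * h) (a : G)
      rw [← h3]
      congr 1
      simp only [f]
      group
  have havg : avg D χ = 10 * A x₀ := by
    rw [avg, sum_sect D]
    have : pairs D = P' ×ˢ (Finset.univ.filter fun h : G => h ∈ D.H) := by
      ext p
      simp [pairs, hP', and_comm]
    rw [this, Finset.sum_product, Finset.sum_congr rfl hA, Finset.sum_const, hP'c, nsmul_eq_mul,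
      Nat.cast_ofNat]
  haveI : Fintype D.H := Fintype.ofFinite _
  have hint := M12Order.FiveEven.isIntegral_avg χ D.H (y := x₀) fun v hv => comm D hx₀ (D.le hv)
  have hA0 : A x₀ = ∑ v : D.H, (χ : G → ℂ) (x₀ * v) :=
    Finset.sum_subtype _ (p := fun g : G => g ∈ D.H) (fun g => by simp) _
  rw [← hA0, D.card] at hint
  have hc : (c : ℂ) ≠ 0 := Nat.cast_ne_zero.2 (cpos D).ne'
  have hq : A x₀ / (c : ℂ) = algebraMap ℚ ℂ ((m : ℚ) / 10) := by
    rw [havg] at hm
    simp only [map_div₀, map_intCast, map_ofNat]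
    field_simp
    linear_combination hm
  rw [hq, isIntegral_algebraMap_iff (algebraMap ℚ ℂ).injective] at hint
  obtain ⟨r, hr⟩ := IsIntegrallyClosed.isIntegral_iff.mp hint
  have hr' : (r : ℚ) = (m : ℚ) / 10 := by simpa using hr
  rw [eq_div_iff (by norm_num)] at hr'
  exact ⟨r, by rw [mul_comm]; exact_mod_cast hr'.symm⟩

/-- The principal block, with the sums over the section. -/
structure Block where
  X : Finset (IrrCharacter G)
  Y : Finset (IrrCharacter G)
  σ : IrrCharacter G → ℤ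
  ε : ℤ
  disj : Disjoint X Y
  cardX : X.card = e
  cardY : Y.card = 10 / e
  principal_mem : principal G ∈ X ∨ principal G ∈ Y
  sign : ∀ χ ∈ X, (σ χ = 1 ∨ σ χ = -1) ∧ (σ χ * (charDegree (χ : G → ℂ) : ℤ) - 1) % 11 = 0
  ε_sign : ε = 1 ∨ ε = -1
  degY : ∀ θ ∈ Y, (ε * (charDegree (θ : G → ℂ) : ℤ) - (e : ℤ)) % 11 = 0
  eqY : ∀ θ ∈ Y, ∀ θ' ∈ Y, ∀ g : G, ¬ 11 ∣ orderOf g → (θ : G → ℂ) g = (θ' : G → ℂ) g
  rel : ∀ θ ∈ Y, ∀ g : G, ¬ 11 ∣ orderOf g →
    (ε : ℂ) * (θ : G → ℂ) g = ∑ χ ∈ X, (σ χ : ℂ) * (χ : G → ℂ) g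
  congr : ∀ χ, χ ∈ X ∨ χ ∈ Y → ∀ g ∈ Subgroup.centralizer ((P : Subgroup G) : Set G), ∀ v : ℤ,
    (v : ℂ) = (χ : G → ℂ) g → (11 : ℤ) ∣ v - charDegree (χ : G → ℂ)
  avgX : ∀ [Fintype G], ∀ χ ∈ X, avg D χ = (10 * c : ℕ) * (σ χ : ℂ)
  avgY : ∀ [Fintype G], ∀ θ ∈ Y, avg D θ = -((e * c : ℕ) : ℂ) * (ε : ℂ)
  avg_zero : ∀ [Fintype G], ∀ χ, χ ∉ X → χ ∉ Y → avg D χ = 0

/-- The block exists. -/
theorem exists_block [Fintype G] (he : e = 2 ∨ e = 5 ∨ e = 10) : Nonempty (Block D) := by
  haveI := Fact.mk (show Nat.Prime 11 by norm_num)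
  haveI := irrFintype G
  set C := Subgroup.centralizer ((P : Subgroup G) : Set G) with hC
  have hrel' : C.relIndex (Subgroup.normalizer ((P : Subgroup G) : Set G)) = e := by
    have hle : C ≤ Subgroup.normalizer ((P : Subgroup G) : Set G) :=
      Subgroup.centralizer_le_normalizer _
    have h := Subgroup.relIndex_mul_relIndex _ _ _ bot_le hle
    rw [Subgroup.relIndex_bot_left, Subgroup.relIndex_bot_left, hC, D.cenCard, D.normCard] at h
    exact Nat.eq_of_mul_eq_mul_left (Nat.mul_pos (by norm_num) (cpos D)) h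
  obtain ⟨M, hM⟩ := CharApps.exists_pModular (p := 11)
  haveI := hM.2.1.isPrime
  obtain ⟨X, Y, hB, hdisj, hX, hY, εX, ε, hXp, hε, hYd, hYeq, hrel⟩ :=
    Cfsg.Agent.S4441.result 11 M hM (by norm_num) P D.cardP e hrel'
  set X' := (Set.toFinite X).toFinset with hX'
  set Y' := (Set.toFinite Y).toFinset with hY'
  have hmX : ∀ χ, χ ∈ X' ↔ χ ∈ X := fun χ => (Set.toFinite X).mem_toFinset
  have hmY : ∀ χ, χ ∈ Y' ↔ χ ∈ Y := fun χ => (Set.toFinite Y).mem_toFinset
  have hX'c : X'.card = e := by rw [hX', ← Nat.card_eq_card_finite_toFinset, hX]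
  have hY'c : Y'.card = 10 / e := by rw [hY', ← Nat.card_eq_card_finite_toFinset, hY]
  have hd' : Disjoint X' Y' := Finset.disjoint_left.2 fun χ h1 h2 =>
    hdisj.ne_of_mem ((hmX χ).1 h1) ((hmY χ).1 h2) rfl
  choose am bm hmean hsumH using exists_mean D
  let m : IrrCharacter G → ℤ := fun χ => ((11 * am χ : ℕ) : ℤ) - (bm χ : ℤ)
  have hm : ∀ χ, avg D χ = (c : ℂ) * (m χ : ℂ) := hmean
  have hc0 : (c : ℂ) ≠ 0 := Nat.cast_ne_zero.2 (cpos D).ne'
  have hreg : ∀ h ∈ D.H, ¬ 11 ∣ orderOf h := by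
    intro h hh h11
    have := h11.trans (orderOf_dvd_of_pow_eq_one (pow_c D hh))
    have := Nat.eq_one_of_dvd_coprimes D.coprime (dvd_refl 11) this
    omega
  have havgX : ∀ χ ∈ X', avg D χ = (10 * c : ℕ) * (εX χ : ℂ) := by
    intro χ hχ
    rw [avg, sum_sect D, Finset.sum_congr rfl (g := fun _ => (εX χ : ℂ)) fun p hp => by
      simp only [pairs, Finset.mem_filter, Finset.mem_univ, true_and] at hp
      exact (hXp χ ((hmX χ).1 hχ)).2.2 _ hp.1.1 hp.1.2 _ (D.le hp.2) (hreg _ hp.2),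
      Finset.sum_const, nsmul_eq_mul]
    congr 2
    have h := card_sect D
    rw [Finset.card_eq_sum_ones, sum_sect D, ← Finset.card_eq_sum_ones] at h
    exact_mod_cast h
  have hmX' : ∀ χ ∈ X', m χ = 10 * εX χ := by
    intro χ hχ
    have h := havgX χ hχ
    rw [hm] at h
    have h2 : (c : ℂ) * (m χ : ℂ) = (c : ℂ) * ((10 * εX χ : ℤ) : ℂ) := by
      rw [h]; push_cast; ring
    exact_mod_cast mul_left_cancel₀ hc0 h2
  have hbY : ∀ θ ∈ Y', ε * (bm θ : ℤ) = ∑ χ ∈ X', εX χ * (bm χ : ℤ) := by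
    intro θ hθ
    have h : (c : ℂ) * ((ε : ℂ) * (bm θ : ℂ)) = (c : ℂ) * ∑ χ ∈ X', (εX χ : ℂ) * (bm χ : ℂ) := by
      calc (c : ℂ) * ((ε : ℂ) * (bm θ : ℂ))
          = (ε : ℂ) * ∑ h ∈ Finset.univ.filter (fun g : G => g ∈ D.H), (θ : G → ℂ) h := by
            rw [hsumH]; ring
        _ = ∑ h ∈ Finset.univ.filter (fun g : G => g ∈ D.H),
              ∑ χ ∈ X', (εX χ : ℂ) * (χ : G → ℂ) h := by
            rw [Finset.mul_sum]
            refine Finset.sum_congr rfl fun h hh => ?_
            rw [hrel θ ((hmY θ).1 hθ) h (hreg h (by simpa using hh)),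
              finsum_mem_eq_finite_toFinset_sum _ (Set.toFinite X)]
        _ = _ := by
            rw [Finset.sum_comm, Finset.mul_sum]
            refine Finset.sum_congr rfl fun χ _ => ?_
            rw [← Finset.mul_sum, hsumH]
            ring
    exact_mod_cast mul_left_cancel₀ hc0 h
  have hsign : ∀ χ ∈ X', (εX χ = 1 ∨ εX χ = -1) ∧ (εX χ * (bm χ : ℤ) - 1) % 11 = 0 := by
    intro χ hχ
    have h1 := (hXp χ ((hmX χ).1 hχ)).1
    have h2 := hmX' χ hχ
    simp only [m] at h2
    refine ⟨h1, ?_⟩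
    rcases h1 with h | h <;> rw [h] at h2 ⊢ <;> omega
  have hcongr : ∀ θ ∈ Y', (m θ + ε * (e : ℤ)) % 11 = 0 := by
    intro θ hθ
    have h := hbY θ hθ
    have h2 : (11 : ℤ) ∣ ∑ χ ∈ X', (εX χ * (bm χ : ℤ) - 1) :=
      Finset.dvd_sum fun χ hχ => Int.dvd_of_emod_eq_zero (hsign χ hχ).2
    rw [Finset.sum_sub_distrib, ← h, Finset.sum_const, hX'c, nsmul_eq_mul, mul_one] at h2
    simp only [m]
    rcases hε with h' | h' <;> rw [h'] at h2 ⊢ <;> omega
  have hY2 : ∀ θ ∈ Y', (e : ℤ) * e ≤ m θ * m θ ∧ (m θ * m θ = (e : ℤ) * e → m θ = -(ε * e)) := by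
    intro θ hθ
    have h11 := hcongr θ hθ
    have h10 : e = 10 → (10 : ℤ) ∣ m θ := fun he' => ten_dvd D he' θ (hm θ)
    have hne : (e : ℤ) ≤ |m θ| := by
      rcases le_or_gt 0 (m θ) with hp | hp
      · rw [abs_of_nonneg hp]
        rcases he with rfl | rfl | rfl
        all_goals rcases hε with h' | h' <;> rw [h'] at h11 <;> first | omega | (have := h10 rfl; omega)
      · rw [abs_of_neg hp]
        rcases he with rfl | rfl | rfl
        all_goals rcases hε with h' | h' <;> rw [h'] at h11 <;> first | omega | (have := h10 rfl; omega)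
    refine ⟨?_, fun h => ?_⟩
    · rw [← abs_mul_abs_self (m θ)]
      exact mul_le_mul hne hne (by positivity) (abs_nonneg _)
    · rcases mul_self_eq_mul_self_iff.1 h with h' | h' <;>
        rcases hε with h'' | h'' <;> rw [h''] at h11 ⊢ <;> rcases he with rfl | rfl | rfl <;> omega
  have hsq : ∑ χ : IrrCharacter G, m χ * m χ = 110 * (e : ℤ) := by
    have h := sum_avg_sq D
    simp only [hm, map_mul, map_intCast, map_natCast] at h
    have h2 : (c : ℂ) ^ 2 * ∑ χ : IrrCharacter G, ((m χ * m χ : ℤ) : ℂ) = (c : ℂ) ^ 2 * ((110 * e : ℕ) : ℂ) := by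
      rw [Finset.mul_sum]
      push_cast at h ⊢
      rw [show (c : ℂ) ^ 2 * (110 * (e : ℂ)) = 110 * (e : ℂ) * (c : ℂ) ^ 2 by ring, ← h]
      exact Finset.sum_congr rfl fun χ _ => by ring
    have h3 := mul_left_cancel₀ (pow_ne_zero 2 hc0) h2
    exact_mod_cast h3
  have hXsq : ∑ χ ∈ X', m χ * m χ = 100 * (e : ℤ) := by
    rw [Finset.sum_congr rfl (g := fun _ => (100 : ℤ)) fun χ hχ => by
      rw [hmX' χ hχ]; rcases (hsign χ hχ).1 with h | h <;> rw [h] <;> norm_num,
      Finset.sum_const, hX'c]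
    simp [mul_comm]
  have hYge : (Y'.card : ℤ) * ((e : ℤ) * e) ≤ ∑ θ ∈ Y', m θ * m θ := by
    have := Finset.card_nsmul_le_sum Y' (fun θ => m θ * m θ) _ fun θ hθ => (hY2 θ hθ).1
    simpa [nsmul_eq_mul] using this
  have hYcard : (Y'.card : ℤ) * ((e : ℤ) * e) = 10 * e := by
    rcases he with rfl | rfl | rfl <;> rw [hY'c] <;> norm_num
  have hrest : ∀ χ, χ ∉ X' → χ ∉ Y' → m χ = 0 := by
    intro χ h1 h2
    by_contra h0
    have h := Finset.sum_le_sum_of_subset_of_nonneg (s := insert χ (X' ∪ Y'))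
      (f := fun χ => m χ * m χ) (Finset.subset_univ _) fun _ _ _ => mul_self_nonneg _
    rw [Finset.sum_insert (by simp [h1, h2]), Finset.sum_union hd', hsq, hXsq] at h
    have : 0 < m χ * m χ := mul_self_pos.2 h0
    linarith
  have hYexact : ∀ θ ∈ Y', m θ = -(ε * e) := by
    intro θ hθ
    refine (hY2 θ hθ).2 (le_antisymm ?_ (hY2 θ hθ).1)
    by_contra hlt
    have h := Finset.sum_le_sum_of_subset_of_nonneg (s := X' ∪ Y')
      (f := fun χ => m χ * m χ) (Finset.subset_univ _) fun _ _ _ => mul_self_nonneg _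
    rw [Finset.sum_union hd', hsq, hXsq] at h
    have h' := Finset.sum_lt_sum (s := Y') (f := fun _ => (e : ℤ) * e) (g := fun θ => m θ * m θ)
      (fun i hi => (hY2 i hi).1) ⟨θ, hθ, not_le.1 hlt⟩
    rw [Finset.sum_const, nsmul_eq_mul] at h'
    linarith
  exact ⟨{
    X := X'
    Y := Y'
    σ := εX
    ε := ε
    disj := hd'
    cardX := hX'c
    cardY := hY'c
    principal_mem := by
      have := CfsgLib.Blocks.principal_mem_principalBlock (G := G) M
      rw [hB] at this
      rcases this with h | h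
      · exact Or.inl ((hmX _).2 h)
      · exact Or.inr ((hmY _).2 h)
    sign := fun χ hχ => ⟨(hsign χ hχ).1, by
      have h := (hXp χ ((hmX χ).1 hχ)).2.1
      rw [Int.modEq_iff_dvd] at h
      rcases (hsign χ hχ).1 with h' | h' <;> rw [h'] at h ⊢ <;> omega⟩
    ε_sign := hε
    degY := fun θ hθ => by
      have h := hYd θ ((hmY θ).1 hθ)
      rw [Int.modEq_iff_dvd] at h
      rcases hε with h' | h' <;> rw [h'] at h ⊢ <;> omega
    eqY := fun θ hθ θ' hθ' => hYeq θ ((hmY θ).1 hθ) θ' ((hmY θ').1 hθ')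
    rel := fun θ hθ g hg => by
      rw [hrel θ ((hmY θ).1 hθ) g hg, finsum_mem_eq_finite_toFinset_sum _ (Set.toFinite X)]
    congr := fun χ hχ g hg v hv => by
      have hB' : χ ∈ principalBlock M G := by
        rw [hB]
        rcases hχ with h | h
        · exact Or.inl ((hmX χ).1 h)
        · exact Or.inr ((hmY χ).1 h)
      have hsq : ¬ 11 ^ 2 ∣ Nat.card G := by
        rw [Nat.Prime.pow_dvd_iff_le_factorization (by norm_num) Nat.card_pos.ne']
        have h := P.card_eq_multiplicity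
        rw [D.cardP] at h
        have := Nat.pow_right_injective (show 2 ≤ 11 by norm_num) (show 11 ^ 1 = _ by rw [pow_one]; exact h)
        omega
      refine Small.int_congr_of_principalBlock hM hsq hB' (dvd_trans (dvd_of_eq D.cardP.symm)
        (Subgroup.card_dvd_of_le fun x hx => Subgroup.mem_centralizer_singleton_iff.2
          (Subgroup.mem_centralizer_iff.1 hg x hx))) hv
    avgX := @fun inst χ hχ => by
      convert havgX χ hχ using 2
    avgY := @fun inst θ hθ => by
      have h := hm θ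
      rw [hYexact θ hθ] at h
      push_cast at h ⊢
      convert h using 1
      · congr!
      · ring
    avg_zero := @fun inst χ h1 h2 => by
      have h := hm χ
      rw [hrest χ h1 h2, Int.cast_zero, mul_zero] at h
      convert h using 2 }⟩

end CfsgLib.M23Order.ElevenSection
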