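import Cfsg.Agent.Lib.M23Order.ElevenSectionBlock

/-!
# Simple groups of order 10200960: pairs of conjugates of an involution over the section
-/

set_option autoImplicit false
set_option linter.style.haveILetI false
set_option linter.unusedSectionVars false

open Cfsg CfsgLib.Chars CfsgLib.CharApps CfsgLib.Blocks CfsgLib.Small
open scoped ComplexConjugate Classical

namespace CfsgLib.M23Order.ElevenSection

universe u

variable {G : Type u} [Group G] [Finite G] {P : Sylow 11 G} {e c : ℕ} (D : Sec P e c)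
include D

omit [Finite G] D in
theorem flip_left {u v : G} (hu : u * u = 1) (hv : v * v = 1) :
    u * (u * v) * u⁻¹ = (u * v)⁻¹ := by
  rw [mul_inv_rev, inv_eq_of_mul_eq_one_left hu, inv_eq_of_mul_eq_one_left hv, ← mul_assoc, hu,
    one_mul]

omit [Finite G] D in
theorem flip_right {u v : G} (hu : u * u = 1) (hv : v * v = 1) :
    v * (u * v) * v⁻¹ = (u * v)⁻¹ := by
  rw [mul_inv_rev, inv_eq_of_mul_eq_one_left hu, inv_eq_of_mul_eq_one_left hv, mul_assoc, mul_assoc,
    hv, mul_one]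

/-- The sum of a function against the sums over the section. -/
theorem weighted [Fintype G] [Fintype (IrrCharacter G)] (B : Block D) (F : IrrCharacter G → ℂ) :
    ∑ χ : IrrCharacter G, F χ * avg D χ =
      (c : ℂ) * (10 * (∑ χ ∈ B.X, (B.σ χ : ℂ) * F χ) - (e : ℂ) * (B.ε : ℂ) * ∑ θ ∈ B.Y, F θ) := by
  rw [← Finset.sum_subset (Finset.subset_univ (B.X ∪ B.Y)) fun χ _ hχ => by
    rw [Finset.mem_union, not_or] at hχ
    rw [B.avg_zero χ hχ.1 hχ.2, mul_zero],
    Finset.sum_union B.disj]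
  have h1 : ∑ χ ∈ B.X, F χ * avg D χ = ((10 * c : ℕ) : ℂ) * ∑ χ ∈ B.X, (B.σ χ : ℂ) * F χ := by
    rw [Finset.mul_sum]
    exact Finset.sum_congr rfl fun χ hχ => by rw [B.avgX χ hχ]; ring
  have h2 : ∑ θ ∈ B.Y, F θ * avg D θ = -((e * c : ℕ) : ℂ) * (B.ε : ℂ) * ∑ θ ∈ B.Y, F θ := by
    rw [Finset.mul_sum]
    exact Finset.sum_congr rfl fun θ hθ => by rw [B.avgY θ hθ]; ring
  rw [h1, h2]
  push_cast
  ring

/-- An element of the section generates `P` with its power. -/
theorem inverts_P [Fintype G] {a g : G} (hg : g ∈ sect D) (h : a * g * a⁻¹ = g⁻¹) {x : G}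
    (hx : x ∈ (P : Subgroup G)) : a * x * a⁻¹ = x⁻¹ := by
  simp only [sect, Finset.mem_filter, Finset.mem_univ, true_and] at hg
  have hyP : g ^ c ∈ (P : Subgroup G) := pow_mem_P D hg.1
  have hz : Subgroup.zpowers (g ^ c) = (P : Subgroup G) := by
    refine Subgroup.eq_of_le_of_card_ge (Subgroup.zpowers_le.2 hyP) ?_
    rw [D.cardP, Nat.card_zpowers,
      orderOf_eq_prime (hp := Fact.mk (show Nat.Prime 11 by norm_num)) (pow_eleven D hyP) hg.2]
  have hy : a * g ^ c * a⁻¹ = (g ^ c)⁻¹ := by rw [← conj_pow, h, inv_pow]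
  rw [← hz, Subgroup.mem_zpowers_iff] at hx
  obtain ⟨i, rfl⟩ := hx
  rw [← conj_zpow, hy, inv_zpow]

/-- The number of pairs of conjugates of an involution with product in the section. -/
theorem count_eq [Fintype G] [Fintype (IrrCharacter G)] (B : Block D) {t : G} (ht : t * t = 1)
    (hreal : ∀ χ ∈ B.X ∪ B.Y, ∃ v : ℤ, (v : ℂ) = (χ : G → ℂ) t) :
    ((Finset.univ.filter fun ab : G × G =>
        (ab.1 * t * ab.1⁻¹) * (ab.2 * t * ab.2⁻¹) ∈ sect D).card : ℂ) =
      (Nat.card G : ℂ) * ((c : ℂ) *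
        (10 * (∑ χ ∈ B.X, (B.σ χ : ℂ) * ((χ : G → ℂ) t * (χ : G → ℂ) t / (χ : G → ℂ) 1)) -
          (e : ℂ) * (B.ε : ℂ) * ∑ θ ∈ B.Y, (θ : G → ℂ) t * (θ : G → ℂ) t / (θ : G → ℂ) 1)) := by
  rw [← weighted D B fun χ => (χ : G → ℂ) t * (χ : G → ℂ) t / (χ : G → ℂ) 1]
  have hmaps : ∀ ab ∈ (Finset.univ.filter fun ab : G × G =>
      (ab.1 * t * ab.1⁻¹) * (ab.2 * t * ab.2⁻¹) ∈ sect D),
      (ab.1 * t * ab.1⁻¹) * (ab.2 * t * ab.2⁻¹) ∈ sect D := fun ab h => (Finset.mem_filter.1 h).2
  rw [Finset.card_eq_sum_card_fiberwise hmaps, Nat.cast_sum]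
  have hinv : ∀ g ∈ sect D, g⁻¹ ∈ sect D := fun g hg => by
    simp only [sect, Finset.mem_filter, Finset.mem_univ, true_and, inv_pow, ne_eq, inv_eq_one] at hg ⊢
    exact ⟨Subgroup.inv_mem _ hg.1, hg.2⟩
  have hz : ∀ g ∈ sect D,
      (((Finset.univ.filter fun ab : G × G =>
        (ab.1 * t * ab.1⁻¹) * (ab.2 * t * ab.2⁻¹) ∈ sect D).filter fun ab : G × G =>
          (ab.1 * t * ab.1⁻¹) * (ab.2 * t * ab.2⁻¹) = g).card : ℂ) =
        (Nat.card G : ℂ) * ∑ χ : IrrCharacter G,
          (χ : G → ℂ) t * (χ : G → ℂ) t * (χ : G → ℂ) g⁻¹ / (χ : G → ℂ) 1 := by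
    intro g hg
    rw [← card_conj_mul_conj, Nat.card_eq_fintype_card, Fintype.card_subtype]
    congr 2
    ext ab
    simp only [Finset.mem_filter, Finset.mem_univ, true_and]
    exact ⟨fun h => h.2, fun h => ⟨h ▸ hg, h⟩⟩
  rw [Finset.sum_congr rfl hz, ← Finset.mul_sum, Finset.sum_comm]
  congr 1
  refine Finset.sum_congr rfl fun χ _ => ?_
  rw [avg, Finset.mul_sum]
  refine Finset.sum_bij (fun g _ => g⁻¹) (fun g hg => hinv g hg) (fun a _ b _ h => inv_injective h)
    (fun g hg => ⟨g⁻¹, hinv g hg, inv_inv g⟩) fun g _ => ?_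
  ring

/-- Nothing inverts `P` if the index is five. -/
theorem count_zero [Fintype G] (he : e = 5) {t : G} (ht : t * t = 1) :
    (Finset.univ.filter fun ab : G × G =>
        (ab.1 * t * ab.1⁻¹) * (ab.2 * t * ab.2⁻¹) ∈ sect D).card = 0 := by
  rw [Finset.card_eq_zero, Finset.filter_eq_empty_iff]
  rintro ⟨a, b⟩ - hab
  set u := a * t * a⁻¹ with hu
  set v := b * t * b⁻¹ with hv
  have hu2 : u * u = 1 := by rw [hu, ← sq, conj_pow, sq, ht, mul_one, mul_inv_cancel]
  have hv2 : v * v = 1 := by rw [hv, ← sq, conj_pow, sq, ht, mul_one, mul_inv_cancel]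
  have hflip : u * (u * v) * u⁻¹ = (u * v)⁻¹ := flip_left hu2 hv2
  have hinvP := fun x hx => inverts_P D hab hflip (x := x) hx
  haveI := Fact.mk (show Nat.Prime 11 by norm_num)
  set C := Subgroup.centralizer ((P : Subgroup G) : Set G) with hC
  set N := Subgroup.normalizer ((P : Subgroup G) : Set G) with hN
  have huN : u ∈ N := mem_normalizer_of_conj D hab (by
    rw [hflip]
    simp only [sect, Finset.mem_filter, Finset.mem_univ, true_and, inv_pow, ne_eq, inv_eq_one] at hab ⊢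
    exact ⟨Subgroup.inv_mem _ hab.1, hab.2⟩)
  have hle : C ≤ N := Subgroup.centralizer_le_normalizer _
  haveI : (C.subgroupOf N).Normal := by
    rw [hC, hN, ← Subgroup.normalizerMonoidHom_ker]
    exact MonoidHom.normal_ker _
  have hidx : Nat.card (N ⧸ C.subgroupOf N) = 5 := by
    have h := Subgroup.card_eq_card_quotient_mul_card_subgroup (C.subgroupOf N)
    rw [Nat.card_congr (Subgroup.subgroupOfEquivOfLe hle).toEquiv, hN, D.normCard, hC, D.cenCard,
      he] at h
    rw [hN, hC]; refine (Nat.eq_of_mul_eq_mul_right (m := 11 * c) (Nat.mul_pos (by norm_num) (cpos D)) ?_).symm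
    rw [← h]; ring
  have h1 : orderOf (QuotientGroup.mk' (C.subgroupOf N) ⟨u, huN⟩) ∣ 5 := hidx ▸ orderOf_dvd_natCard _
  have h2 : orderOf (QuotientGroup.mk' (C.subgroupOf N) ⟨u, huN⟩) ∣ 2 :=
    (orderOf_map_dvd _ _).trans (orderOf_dvd_of_pow_eq_one (Subtype.ext (show u ^ 2 = 1 by rw [sq, hu2])))
  have h3 : QuotientGroup.mk' (C.subgroupOf N) ⟨u, huN⟩ = 1 :=
    orderOf_eq_one_iff.1 (Nat.eq_one_of_dvd_coprimes (by norm_num) h1 h2)
  rw [QuotientGroup.mk'_apply, QuotientGroup.eq_one_iff, Subgroup.mem_subgroupOf] at h3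
  obtain ⟨x, hx, hx1⟩ : ∃ x ∈ (P : Subgroup G), x ≠ 1 :=
    (Subgroup.bot_or_exists_ne_one (P : Subgroup G)).resolve_left fun h => by
      have := D.cardP
      rw [h, Subgroup.card_bot] at this
      omega
  have h4 := hinvP x hx
  rw [mul_inv_eq_iff_eq_mul.2 (Subgroup.mem_centralizer_iff.1 h3 x hx).symm] at h4
  have h5 : x ^ 2 = 1 := by rw [sq]; exact eq_inv_iff_mul_eq_one.1 h4
  exact hx1 (orderOf_eq_one_iff.1 (Nat.eq_one_of_dvd_coprimes (by norm_num)
    (orderOf_dvd_of_pow_eq_one h5) (orderOf_dvd_of_pow_eq_one (pow_eleven D hx))))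

/-- Otherwise the count is ten elevenths of a square of a multiple of the centralizer. -/
theorem count_square [Fintype G] {t : G} (ht : t * t = 1) :
    ∃ k : ℕ, 11 * (Finset.univ.filter fun ab : G × G =>
        (ab.1 * t * ab.1⁻¹) * (ab.2 * t * ab.2⁻¹) ∈ sect D).card =
      10 * (Nat.card (cen t) * k) ^ 2 := by
  haveI := Fact.mk (show Nat.Prime 11 by norm_num)
  set conjt : G → G := fun a => a * t * a⁻¹ with hconjt
  set Inv : Finset G := Finset.univ.filter fun a => ∀ x ∈ (P : Subgroup G),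
    conjt a * x * (conjt a)⁻¹ = x⁻¹ with hInv
  set All := Finset.univ.filter fun ab : G × G =>
    conjt ab.1 * conjt ab.2 ∈ Subgroup.centralizer ((P : Subgroup G) : Set G) ∧
      ab.1 ∈ Inv ∧ ab.2 ∈ Inv with hAll
  have hinv : ∀ a, conjt a * conjt a = 1 := fun a => by
    rw [hconjt]
    show a * t * a⁻¹ * (a * t * a⁻¹) = 1
    rw [← sq, conj_pow, sq, ht, mul_one, mul_inv_cancel]
  have hmemI : ∀ a, a ∈ Inv ↔ ∀ x ∈ (P : Subgroup G), conjt a * x * (conjt a)⁻¹ = x⁻¹ := fun a => by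
    simp [hInv]
  -- every pair of inverting conjugates has its product in the centralizer
  have hAllc : All = Inv ×ˢ Inv := by
    ext ⟨a, b⟩
    simp only [hAll, Finset.mem_filter, Finset.mem_univ, true_and, Finset.mem_product]
    refine ⟨fun h => h.2, fun h => ⟨Subgroup.mem_centralizer_iff.2 fun x hx => ?_, h⟩⟩
    have ha := (hmemI a).1 h.1 _ (Subgroup.inv_mem _ hx)
    have hb := (hmemI b).1 h.2 x hx
    rw [inv_inv, mul_inv_eq_iff_eq_mul] at ha
    rw [mul_inv_eq_iff_eq_mul] at hb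
    calc x * (conjt a * conjt b) = (x * conjt a) * conjt b := (mul_assoc _ _ _).symm
      _ = conjt a * x⁻¹ * conjt b := by rw [← ha]
      _ = conjt a * (x⁻¹ * conjt b) := mul_assoc _ _ _
      _ = conjt a * (conjt b * x) := by rw [← hb]
      _ = conjt a * conjt b * x := (mul_assoc _ _ _).symm
  -- the pairs with product in the section
  have hU : (Finset.univ.filter fun ab : G × G =>
      (ab.1 * t * ab.1⁻¹) * (ab.2 * t * ab.2⁻¹) ∈ sect D) =
      All.filter fun ab => (conjt ab.1 * conjt ab.2) ^ c ≠ 1 := by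
    ext ⟨a, b⟩
    simp only [hAll, Finset.mem_filter, Finset.mem_univ, true_and]
    constructor
    · intro h
      have hC : conjt a * conjt b ∈ Subgroup.centralizer ((P : Subgroup G) : Set G) ∧
          (conjt a * conjt b) ^ c ≠ 1 := by
        simpa [sect, hconjt] using h
      refine ⟨⟨hC.1, ?_, ?_⟩, hC.2⟩
      · exact (hmemI a).2 fun x hx => inverts_P D h (flip_left (hinv a) (hinv b)) hx
      · exact (hmemI b).2 fun x hx => inverts_P D h (flip_right (hinv a) (hinv b)) hx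
    · rintro ⟨⟨h1, -⟩, h2⟩
      simpa [sect, hconjt] using And.intro h1 h2
  -- exactly one translate of a pair has product in the complement
  set Zero := All.filter fun ab => ¬ (conjt ab.1 * conjt ab.2) ^ c ≠ 1 with hZero
  have hshift : ∀ a ∈ Inv, ∀ x ∈ (P : Subgroup G), conjt (x * a) = x * x * conjt a ∧ x * a ∈ Inv := by
    intro a ha x hx
    have h1 : conjt a * x⁻¹ = x * conjt a := by
      have := (hmemI a).1 ha _ (Subgroup.inv_mem _ hx)
      rwa [inv_inv, mul_inv_eq_iff_eq_mul] at this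
    have he' : conjt (x * a) = x * x * conjt a := by
      calc conjt (x * a) = x * (conjt a * x⁻¹) := by simp only [hconjt]; group
        _ = x * x * conjt a := by rw [h1, mul_assoc]
    refine ⟨he', (hmemI _).2 fun y hy => ?_⟩
    have hcy : Commute (x * x) y⁻¹ := by
      have := comm D (Subgroup.mul_mem _ hx hx) (P_le D (Subgroup.inv_mem _ hy))
      exact this
    calc conjt (x * a) * y * (conjt (x * a))⁻¹
        = x * x * (conjt a * y * (conjt a)⁻¹) * (x * x)⁻¹ := by rw [he']; group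
      _ = y⁻¹ := by rw [(hmemI a).1 ha y hy]; exact mul_inv_eq_iff_eq_mul.2 hcy.eq
  have hpowinj : ∀ x ∈ (P : Subgroup G), ∀ y ∈ (P : Subgroup G),
      (x * x) ^ c = (y * y) ^ c → x = y := by
    intro x hx y hy h
    have hcxy : Commute x y := comm D hx (P_le D hy)
    have h1 : ((x⁻¹ * y) * (x⁻¹ * y)) ^ c = 1 := by
      rw [show (x⁻¹ * y) * (x⁻¹ * y) = (x * x)⁻¹ * (y * y) by
        rw [mul_inv_rev, mul_assoc, ← mul_assoc y, hcxy.inv_left.symm.eq]
        group,
        ((hcxy.mul_left hcxy).mul_right (hcxy.mul_left hcxy)).inv_left.mul_pow, inv_pow, h,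
        inv_mul_cancel]
    have hzP : x⁻¹ * y ∈ (P : Subgroup G) := Subgroup.mul_mem _ (Subgroup.inv_mem _ hx) hy
    have h2 := eq_one_of_pow D (Subgroup.mul_mem _ hzP hzP) h1
    have h3 : x⁻¹ * y = 1 := orderOf_eq_one_iff.1 (Nat.eq_one_of_dvd_coprimes (by norm_num)
      (orderOf_dvd_of_pow_eq_one (by rw [sq]; exact h2 : (x⁻¹ * y) ^ 2 = 1))
      (orderOf_dvd_of_pow_eq_one (pow_eleven D hzP)))
    exact inv_mul_eq_one.1 h3
  have h11 : 11 * Zero.card = All.card := by
    have hPc : (Finset.univ.filter fun x : G => x ∈ (P : Subgroup G)).card = 11 := by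
      refine Eq.trans ?_ D.cardP
      rw [Nat.card_eq_fintype_card, Fintype.card_subtype]
    rw [← hPc, ← Finset.card_product]
    refine Finset.card_bij (fun q _ => (q.1 * q.2.1, q.2.2)) ?_ ?_ ?_
    · rintro ⟨x, a, b⟩ h
      simp only [hZero, hAllc, Finset.mem_filter, Finset.mem_univ, true_and, Finset.mem_product] at h ⊢
      exact ⟨(hshift a h.2.1.1 x h.1).2, h.2.1.2⟩
    · rintro ⟨x, a, b⟩ h ⟨x', a', b'⟩ h' he'
      simp only [hZero, hAllc, Finset.mem_filter, Finset.mem_univ, true_and, Finset.mem_product,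
        not_not] at h h'
      simp only [Prod.mk.injEq] at he'
      obtain ⟨e1, rfl⟩ := he'
      have hm : ∀ (x a : G), x ∈ (P : Subgroup G) → a ∈ Inv → b ∈ Inv →
          (conjt a * conjt b) ^ c = 1 → (conjt (x * a) * conjt b) ^ c = (x * x) ^ c := by
        intro x a hx ha hb hc'
        have hmem : (a, b) ∈ All := by rw [hAllc]; simp [ha, hb]
        rw [(hshift a ha x hx).1, mul_assoc,
          (comm D (Subgroup.mul_mem _ hx hx) (Finset.mem_filter.1 hmem).2.1).mul_pow, hc', mul_one]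
      have e2 := (hm x a h.1 h.2.1.1 h.2.1.2 h.2.2).symm.trans
        (e1 ▸ hm x' a' h'.1 h'.2.1.1 h.2.1.2 h'.2.2)
      obtain rfl := hpowinj x h.1 x' h'.1 e2
      rw [mul_right_inj] at e1
      simp [e1]
    · rintro ⟨a, b⟩ hab
      have hab' := hab
      simp only [hAllc, Finset.mem_product] at hab'
      have hg : conjt a * conjt b ∈ Subgroup.centralizer ((P : Subgroup G) : Set G) :=
        (Finset.mem_filter.1 hab).2.1
      set y := (conjt a * conjt b) ^ c with hy
      have hyP := pow_mem_P D hg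
      obtain ⟨i, hi⟩ := exists_pow_eq_self_of_coprime (x := y) (n := 2 * c)
        (Nat.Coprime.coprime_dvd_right (orderOf_dvd_of_pow_eq_one (pow_eleven D hyP))
          (Nat.Coprime.mul (by norm_num) D.coprime.symm))
      set x := y ^ i with hx
      have hxP : x ∈ (P : Subgroup G) := Subgroup.pow_mem _ hyP i
      have hxc : (x * x) ^ c = y := by
        rw [← sq, ← pow_mul, hx, ← pow_mul, mul_comm, pow_mul, hi]
      obtain ⟨e', hI⟩ := hshift a hab'.1 x⁻¹ (Subgroup.inv_mem _ hxP)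
      refine ⟨(x, x⁻¹ * a, b), ?_, by simp⟩
      simp only [hZero, hAllc, Finset.mem_filter, Finset.mem_univ, true_and, Finset.mem_product, not_not]
      refine ⟨hxP, ⟨hI, hab'.2⟩, ?_⟩
      rw [e', mul_assoc, (comm D (Subgroup.mul_mem _ (Subgroup.inv_mem _ hxP) (Subgroup.inv_mem _ hxP))
        hg).mul_pow, ← hy, ← mul_inv_rev, inv_pow, hxc, inv_mul_cancel]
  -- the inverting elements come in classes of the order of the centralizer
  have hdvd : Nat.card (cen t) ∣ Inv.card := by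
    rw [Finset.card_eq_sum_card_image conjt Inv]
    refine Finset.dvd_sum fun z hz => ?_
    obtain ⟨b, hb, rfl⟩ := Finset.mem_image.1 hz
    refine dvd_of_eq ?_
    rw [Nat.card_eq_fintype_card, Fintype.card_subtype]
    refine Finset.card_bij (fun d _ => b * d) ?_ (fun d _ d' _ h => mul_left_cancel h) ?_
    · intro d hd
      simp only [Finset.mem_filter, Finset.mem_univ, true_and, Subgroup.mem_centralizer_singleton_iff] at hd
      have he' : conjt (b * d) = conjt b := by
        simp only [hconjt]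
        calc b * d * t * (b * d)⁻¹ = b * (d * t) * d⁻¹ * b⁻¹ := by group
          _ = b * (t * d) * d⁻¹ * b⁻¹ := by rw [hd]
          _ = b * t * b⁻¹ := by group
      simp only [Finset.mem_filter]
      exact ⟨(hmemI _).2 (by rw [he']; exact (hmemI b).1 hb), he'⟩
    · intro a ha
      simp only [Finset.mem_filter] at ha
      refine ⟨b⁻¹ * a, ?_, by group⟩
      simp only [Finset.mem_filter, Finset.mem_univ, true_and, Subgroup.mem_centralizer_singleton_iff]
      have h2 : a * t * a⁻¹ = b * t * b⁻¹ := ha.2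
      calc b⁻¹ * a * t = b⁻¹ * (a * t * a⁻¹) * a := by group
        _ = b⁻¹ * (b * t * b⁻¹) * a := by rw [h2]
        _ = t * (b⁻¹ * a) := by group
  obtain ⟨k, hk⟩ := hdvd
  refine ⟨k, ?_⟩
  have hsum := Finset.card_filter_add_card_filter_not (s := All)
    (fun ab => (conjt ab.1 * conjt ab.2) ^ c ≠ 1)
  rw [← hZero, ← hU] at hsum
  have hA2 : All.card = (Nat.card (cen t) * k) ^ 2 := by
    rw [hAllc, Finset.card_product, hk, sq]
  omega

end CfsgLib.M23Order.ElevenSection
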