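import Cfsg.Agent.Lib.M23Order.Interface
import Cfsg.Agent.Lib.Chars.Irr

/-!
# The classes of involutions and of elements of order three

One class of involutions and one of elements of order three follow from the counts; the
centraliser of an element of order three has order 180 and fifteen involutions.
-/

set_option autoImplicit false
set_option linter.unusedSectionVars false
set_option linter.style.haveILetI false

namespace CfsgLib.M23Order.FactsOf

open Subgroup
open CfsgLib.M23Nse (cnt)

universe u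

variable {G : Type u} [Group G] [Finite G]

theorem comm_of_mem {g : G} {a : G} (h : a ∈ centralizer ({g} : Set G)) : Commute a g :=
  mem_centralizer_singleton_iff.1 h

theorem orderOf_mul_coprime {a b : G} (h : Commute a b) {i j : ℕ} (ha : orderOf a = i)
    (hb : orderOf b = j) (hij : Nat.Coprime i j) : orderOf (a * b) = i * j := by
  rw [h.orderOf_mul_eq_mul_orderOf_of_coprime (by rwa [ha, hb]), ha, hb]

theorem card_zp {g : G} {n : ℕ} (h : orderOf g = n) : Nat.card (zpowers g) = n := by
  rw [Nat.card_zpowers, h]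

theorem cent_zpowers (g : G) :
    centralizer (zpowers g : Set G) = centralizer ({g} : Set G) := by
  rw [zpowers_eq_closure, centralizer_closure]

theorem exists_order (p : ℕ) [Fact p.Prime] {H : Subgroup G} (h : p ∣ Nat.card H) :
    ∃ g ∈ H, orderOf g = p := by
  obtain ⟨g, hg⟩ := exists_prime_orderOf_dvd_card' (G := H) p h
  exact ⟨g, g.2, by rw [orderOf_coe, hg]⟩

theorem dvd_cent {g : G} : orderOf g ∣ Nat.card (centralizer ({g} : Set G)) :=
  orderOf_dvd_natCard _ (mem_centralizer_singleton_iff.2 rfl)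

theorem class_mul (g : G) :
    Nat.card {y : G // IsConj g y} * Nat.card (centralizer ({g} : Set G)) = Nat.card G :=
  CfsgLib.Chars.card_isConj_mul_card_centralizer g

theorem orderOf_eq_of_isConj {a b : G} (h : IsConj a b) : orderOf b = orderOf a := by
  obtain ⟨c, rfl⟩ := isConj_iff.1 h
  rw [← MulAut.conj_apply, MulEquiv.orderOf_eq]

/-- A class of elements of one order has at most as many elements as this order has. -/
theorem class_le {g : G} {n : ℕ} (hg : orderOf g = n) :
    Nat.card {y : G // IsConj g y} ≤ cnt G n :=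
  Nat.card_le_card_of_injective (fun y => ⟨y.1, (orderOf_eq_of_isConj y.2).trans hg⟩)
    fun a b e => Subtype.ext (congrArg (fun t : {g : G // orderOf g = n} => t.1) e)

/-- A class with all the elements of an order is the only one. -/
theorem isConj_of_full {g : G} {n : ℕ} (hg : orderOf g = n)
    (h : Nat.card {y : G // IsConj g y} = cnt G n) {v : G} (hv : orderOf v = n) : IsConj g v := by
  let f : {y : G // IsConj g y} → {g : G // orderOf g = n} :=
    fun y => ⟨y.1, (orderOf_eq_of_isConj y.2).trans hg⟩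
  obtain ⟨y, hy⟩ := ((Nat.bijective_iff_injective_and_card f).2
    ⟨fun a b e => Subtype.ext (congrArg (fun t : {g : G // orderOf g = n} => t.1) e), h⟩).2 ⟨v, hv⟩
  have e : y.1 = v := congrArg Subtype.val hy
  exact e ▸ y.2

theorem card_cent_conj (c g : G) :
    Nat.card (centralizer ({c * g * c⁻¹} : Set G)) = Nat.card (centralizer ({g} : Set G)) := by
  have h1 := class_mul g
  have h2 := class_mul (c * g * c⁻¹)
  rw [show Nat.card {y : G // IsConj (c * g * c⁻¹) y} = Nat.card {y : G // IsConj g y} from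
    Nat.card_congr (Equiv.subtypeEquivRight fun y =>
      ⟨fun h => (isConj_iff.2 ⟨c, rfl⟩).trans h, fun h => (isConj_iff.2 ⟨c, rfl⟩).symm.trans h⟩),
    ← h1] at h2
  have hne : 0 < Nat.card {y : G // IsConj g y} := by
    haveI : Nonempty {y : G // IsConj g y} := ⟨⟨g, IsConj.refl g⟩⟩
    exact Nat.card_pos
  exact Nat.eq_of_mul_eq_mul_left hne h2

variable (hc : Counts G)

include hc

theorem card_G : Nat.card G = 10200960 := hc.card

theorem not_sq {q : ℕ} (h : ¬ q ∣ 10200960) (H : Subgroup G) : ¬ q ∣ Nat.card H := fun hd =>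
  h (card_G hc ▸ hd.trans (card_subgroup_dvd_card H))

/-- A subgroup of order seven as a Sylow subgroup. -/
theorem norm_seven {u : G} (hu : orderOf u = 7) :
    Nat.card (normalizer (zpowers u : Set G)) = 42 := by
  haveI : Fact (Nat.Prime 7) := ⟨by norm_num⟩
  let P : Sylow 7 G := Sylow.ofCard (zpowers u) (by
    rw [card_zp hu, card_G hc, show (10200960 : ℕ) = 7 ^ 1 * 1457280 by norm_num,
      Nat.factorization_mul (by norm_num) (by norm_num), Finsupp.add_apply,
      Nat.Prime.factorization_pow (by norm_num), Finsupp.single_eq_same,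
      Nat.factorization_eq_zero_of_not_dvd (by norm_num : ¬ 7 ∣ 1457280)]
    norm_num)
  exact hc.norm7 P

theorem norm_five {u : G} (hu : orderOf u = 5) :
    Nat.card (normalizer (zpowers u : Set G)) = 60 := by
  haveI : Fact (Nat.Prime 5) := ⟨by norm_num⟩
  let P : Sylow 5 G := Sylow.ofCard (zpowers u) (by
    rw [card_zp hu, card_G hc, show (10200960 : ℕ) = 5 ^ 1 * 2040192 by norm_num,
      Nat.factorization_mul (by norm_num) (by norm_num), Finsupp.add_apply,
      Nat.Prime.factorization_pow (by norm_num), Finsupp.single_eq_same,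
      Nat.factorization_eq_zero_of_not_dvd (by norm_num : ¬ 5 ∣ 2040192)]
    norm_num)
  exact hc.norm5 P

/-- An order that is excluded. -/
theorem no_order {n : ℕ} (hn : n ∉ [1, 2, 3, 4, 5, 6, 7, 8, 11, 14, 15, 23]) (g : G) :
    orderOf g ≠ n := fun h => hn (h ▸ hc.orders g)

theorem cent_two {z : G} (hz : orderOf z = 2) :
    Nat.card (centralizer ({z} : Set G)) = 2688 := by
  set C := centralizer ({z} : Set G) with hC
  have hno : ∀ p ∈ [5, 11, 23], ¬ p ∣ Nat.card C := by
    intro p hp hd
    have hpp : p.Prime := by fin_cases hp <;> norm_num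
    haveI := Fact.mk hpp
    obtain ⟨g, hgC, hg⟩ := exists_order p hd
    have h2 : Nat.Coprime 2 p := by fin_cases hp <;> norm_num
    refine no_order hc (n := 2 * p) ?_ (z * g)
      (orderOf_mul_coprime (comm_of_mem hgC).symm hz hg h2)
    fin_cases hp <;> decide
  have h8064 : Nat.card C ∣ 8064 := by
    have h1 : Nat.card C ∣ 8064 * (5 * 11 * 23) := by
      rw [show 8064 * (5 * 11 * 23) = 10200960 by norm_num, ← card_G hc]
      exact card_subgroup_dvd_card C
    refine Nat.Coprime.dvd_of_dvd_mul_right (Nat.Coprime.mul_right (Nat.Coprime.mul_right ?_ ?_) ?_) h1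
    all_goals exact ((Nat.Prime.coprime_iff_not_dvd (by norm_num)).2 (hno _ (by simp))).symm
  have h1 := class_mul z
  rw [card_G hc] at h1
  have hlow : 2688 ≤ Nat.card C := by
    have := Nat.mul_le_mul_right (Nat.card C) ((class_le hz).trans_eq hc.cnt2)
    rw [h1] at this
    omega
  obtain ⟨k, hk⟩ := h8064
  have hk3 : k ≤ 3 := by
    by_contra hh
    have := Nat.mul_le_mul hlow (show 4 ≤ k by omega)
    omega
  have hkC : Nat.card C = 8064 ∨ Nat.card C = 4032 ∨ Nat.card C = 2688 := by
    interval_cases k <;> omega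
  -- the normalizer of a subgroup of order seven fixes the involution of its centralizer
  haveI : Fact (Nat.Prime 7) := ⟨by norm_num⟩
  obtain ⟨u, huC, hu⟩ := exists_order 7 (H := C) (by rcases hkC with e | e | e <;> rw [e] <;> norm_num)
  have hle : normalizer (zpowers u : Set G) ≤ C := by
    intro n hn
    have hnz : n * z * n⁻¹ ∈ centralizer ({u} : Set G) := by
      rw [← cent_zpowers]
      refine mem_centralizer_iff.2 fun w hw => ?_
      have hw' : n⁻¹ * w * n ∈ zpowers u := by
        have := (mem_normalizer_iff.1 (inv_mem hn) w).1 hw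
        rwa [inv_inv] at this
      have hzw : Commute z (n⁻¹ * w * n) := by
        obtain ⟨i, hi⟩ := mem_zpowers_iff.1 hw'
        rw [← hi]
        exact (comm_of_mem huC).symm.zpow_right i
      calc w * (n * z * n⁻¹) = n * ((n⁻¹ * w * n) * z) * n⁻¹ := by group
        _ = n * (z * (n⁻¹ * w * n)) * n⁻¹ := by rw [hzw.eq]
        _ = _ := by group
    have hzu : z ∈ centralizer ({u} : Set G) :=
      mem_centralizer_singleton_iff.2 (comm_of_mem huC).symm.eq
    -- one involution in a group of order fourteen with a central element of order seven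
    set C7 := centralizer ({u} : Set G)
    have h14 : Nat.card C7 = 14 := hc.cent7 u hu
    set i := n * z * n⁻¹
    have hi2 : orderOf i = 2 := by
      show orderOf (MulAut.conj n z) = 2
      rw [MulEquiv.orderOf_eq, hz]
    by_cases hiz : i = z
    · exact mem_centralizer_singleton_iff.2 (mul_inv_eq_iff_eq_mul.1 hiz)
    exfalso
    haveI : Fact (Nat.Prime 2) := ⟨Nat.prime_two⟩
    obtain ⟨k, hk, hki⟩ : ∃ k ∈ C7, k * z * k⁻¹ = i := by
      let S : Sylow 2 C7 := Sylow.ofCard ((zpowers z).subgroupOf C7) (by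
        rw [Nat.card_congr (subgroupOfEquivOfLe (zpowers_le.2 hzu)).toEquiv, card_zp hz, h14,
          show (14 : ℕ) = 2 ^ 1 * 7 by norm_num,
          Nat.factorization_mul (by norm_num) (by norm_num), Finsupp.add_apply,
          Nat.Prime.factorization_pow (by norm_num), Finsupp.single_eq_same,
          Nat.factorization_eq_zero_of_not_dvd (by norm_num : ¬ 2 ∣ 7)]
        norm_num)
      let T : Sylow 2 C7 := Sylow.ofCard ((zpowers i).subgroupOf C7) (by
        rw [Nat.card_congr (subgroupOfEquivOfLe (zpowers_le.2 hnz)).toEquiv, card_zp hi2, h14,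
          show (14 : ℕ) = 2 ^ 1 * 7 by norm_num,
          Nat.factorization_mul (by norm_num) (by norm_num), Finsupp.add_apply,
          Nat.Prime.factorization_pow (by norm_num), Finsupp.single_eq_same,
          Nat.factorization_eq_zero_of_not_dvd (by norm_num : ¬ 2 ∣ 7)]
        norm_num)
      obtain ⟨k, hk⟩ := MulAction.exists_smul_eq C7 S T
      have hm : MulAut.conj k ⟨z, hzu⟩ ∈ ((k • S : Sylow 2 C7) : Subgroup C7) :=
        ⟨⟨z, hzu⟩, mem_zpowers z, rfl⟩
      rw [hk] at hm
      refine ⟨k, k.2, ?_⟩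
      obtain ⟨j, hj⟩ := mem_zpowers_iff.1 (show (k : G) * z * (k : G)⁻¹ ∈ zpowers i from hm)
      rcases Int.even_or_odd' j with ⟨m, rfl | rfl⟩
      · rw [zpow_mul, show i ^ (2 : ℤ) = 1 by rw [zpow_two, ← sq, ← hi2, pow_orderOf_eq_one],
          one_zpow] at hj
        have : z = 1 := conj_eq_one_iff.1 hj.symm
        rw [this, orderOf_one] at hz
        omega
      · rw [zpow_add, zpow_mul, show i ^ (2 : ℤ) = 1 by
          rw [zpow_two, ← sq, ← hi2, pow_orderOf_eq_one], one_zpow, one_mul, zpow_one] at hj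
        exact hj.symm
    -- `C(u)` is abelian
    have hcomm : Commute k z := by
      have hzk : ∀ a ∈ zpowers u ⊔ zpowers z, Commute a z := by
        have : zpowers u ⊔ zpowers z ≤ centralizer ({z} : Set G) :=
          sup_le (zpowers_le.2 huC) (zpowers_le.2 (mem_centralizer_singleton_iff.2 rfl))
        exact fun a ha => comm_of_mem (this ha)
      have hfull : zpowers u ⊔ zpowers z = C7 := by
        refine eq_of_le_of_card_ge (sup_le (zpowers_le.2 (mem_centralizer_singleton_iff.2 rfl))
          (zpowers_le.2 hzu)) ?_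
        rw [h14]
        refine Nat.le_of_dvd Nat.card_pos
          (Nat.Coprime.mul_dvd_of_dvd_of_dvd (show Nat.Coprime 7 2 by norm_num)
            (card_zp hu ▸ card_dvd_of_le le_sup_left) (card_zp hz ▸ card_dvd_of_le le_sup_right))
      exact hzk k (hfull.symm ▸ hk)
    exact hiz (by rw [← hki, hcomm.eq, mul_inv_cancel_right])
  set W := normalizer (zpowers u : Set G) with hW
  have hWc := norm_seven hc hu
  let P : Sylow 7 C := Sylow.ofCard ((zpowers u).subgroupOf C) (by
    rw [Nat.card_congr (subgroupOfEquivOfLe (zpowers_le.2 huC)).toEquiv, card_zp hu]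
    rcases hkC with e | e | e <;> rw [e]
    · rw [show (8064 : ℕ) = 7 ^ 1 * 1152 by norm_num,
        Nat.factorization_mul (by norm_num) (by norm_num), Finsupp.add_apply,
        Nat.Prime.factorization_pow (by norm_num), Finsupp.single_eq_same,
        Nat.factorization_eq_zero_of_not_dvd (by norm_num : ¬ 7 ∣ 1152)]
      norm_num
    · rw [show (4032 : ℕ) = 7 ^ 1 * 576 by norm_num,
        Nat.factorization_mul (by norm_num) (by norm_num), Finsupp.add_apply,
        Nat.Prime.factorization_pow (by norm_num), Finsupp.single_eq_same,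
        Nat.factorization_eq_zero_of_not_dvd (by norm_num : ¬ 7 ∣ 576)]
      norm_num
    · rw [show (2688 : ℕ) = 7 ^ 1 * 384 by norm_num,
        Nat.factorization_mul (by norm_num) (by norm_num), Finsupp.add_apply,
        Nat.Prime.factorization_pow (by norm_num), Finsupp.single_eq_same,
        Nat.factorization_eq_zero_of_not_dvd (by norm_num : ¬ 7 ∣ 384)]
      norm_num)
  have hN : normalizer (P : Set C) = W.subgroupOf C :=
    (subgroupOf_normalizer_eq (zpowers_le.2 huC)).symm
  have hm := card_sylow_modEq_one 7 C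
  rw [P.card_eq_index_normalizer, hN] at hm
  have h2 := (W.subgroupOf C).card_mul_index
  rw [Nat.card_congr (subgroupOfEquivOfLe hle).toEquiv, hWc] at h2
  have hm' : (W.subgroupOf C).index % 7 = 1 := hm
  omega

theorem conj_two {u v : G} (hu : orderOf u = 2) (hv : orderOf v = 2) : IsConj u v := by
  refine isConj_of_full hu ?_ hv
  have h := class_mul u
  rw [cent_two hc hu, card_G hc] at h
  rw [hc.cnt2]
  omega

/-- Commuting elements of orders three and two. -/
theorem card_pairs :
    Nat.card (Σ x : {g : G // orderOf g = 3}, {v : G // Commute x.1 v ∧ orderOf v = 2}) = cnt G 6 := by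
  let f : (Σ x : {g : G // orderOf g = 3}, {v : G // Commute x.1 v ∧ orderOf v = 2}) →
      {g : G // orderOf g = 6} := fun s =>
    ⟨s.1.1 * s.2.1, orderOf_mul_coprime s.2.2.1 s.1.2 s.2.2.2 (by norm_num)⟩
  refine Nat.card_eq_of_bijective f ⟨?_, ?_⟩
  · rintro ⟨⟨x, hx⟩, ⟨v, hxv, hv⟩⟩ ⟨⟨x', hx'⟩, ⟨v', hxv', hv'⟩⟩ e
    have e' : x * v = x' * v' := congrArg Subtype.val e
    have key : ∀ x v : G, orderOf x = 3 → orderOf v = 2 → Commute x v → (x * v) ^ 4 = x := by
      intro x v hx hv hxv
      have hv2 : v ^ 4 = 1 := orderOf_dvd_iff_pow_eq_one.1 (by rw [hv]; norm_num)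
      have hx3 : x ^ 3 = 1 := orderOf_dvd_iff_pow_eq_one.1 (by rw [hx])
      rw [hxv.mul_pow, hv2, mul_one, pow_succ, hx3, one_mul]
    obtain rfl : x = x' := by rw [← key x v hx hv hxv, e', key x' v' hx' hv' hxv']
    obtain rfl := mul_left_cancel e'
    rfl
  · rintro ⟨g, hg⟩
    refine ⟨⟨⟨g ^ 4, ?_⟩, ⟨g ^ 3, (Commute.refl g).pow_pow 4 3, ?_⟩⟩, Subtype.ext ?_⟩
    · rw [orderOf_pow, hg]; norm_num
    · rw [orderOf_pow, hg]; norm_num
    · show g ^ 4 * g ^ 3 = g
      rw [← pow_add, show 4 + 3 = 6 + 1 from rfl, pow_succ, ← hg, pow_orderOf_eq_one, one_mul]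

theorem card_three_in_cent {z : G} (hz : orderOf z = 2) :
    Nat.card {x : G // Commute x z ∧ orderOf x = 3} = 224 := by
  classical
  haveI := Fintype.ofFinite G
  have h1 := card_pairs hc
  have e : (Σ x : {g : G // orderOf g = 3}, {v : G // Commute x.1 v ∧ orderOf v = 2}) ≃
      Σ v : {g : G // orderOf g = 2}, {x : G // Commute x v.1 ∧ orderOf x = 3} :=
    { toFun := fun s => ⟨⟨s.2.1, s.2.2.2⟩, ⟨s.1.1, s.2.2.1, s.1.2⟩⟩
      invFun := fun s => ⟨⟨s.2.1, s.2.2.2⟩, ⟨s.1.1, s.2.2.1, s.1.2⟩⟩
      left_inv := fun _ => rfl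
      right_inv := fun _ => rfl }
  rw [Nat.card_congr e, Nat.card_sigma] at h1
  have hall : ∀ v : {g : G // orderOf g = 2},
      Nat.card {x : G // Commute x v.1 ∧ orderOf x = 3} =
        Nat.card {x : G // Commute x z ∧ orderOf x = 3} := by
    intro v
    obtain ⟨c, hcv⟩ := isConj_iff.1 (conj_two hc hz v.2)
    refine (Nat.card_congr (Equiv.subtypeEquiv (MulAut.conj c).toEquiv fun x => ?_)).symm
    rw [← hcv]
    show Commute x z ∧ orderOf x = 3 ↔
      Commute (MulAut.conj c x) (MulAut.conj c z) ∧ orderOf (MulAut.conj c x) = 3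
    rw [MulEquiv.orderOf_eq]
    exact and_congr_left fun _ => ⟨fun h => h.map _, fun h => by
      simpa [mul_assoc] using h.map (MulAut.conj c).symm⟩
  rw [Finset.sum_congr rfl fun v _ => hall v, Finset.sum_const, Finset.card_univ,
    ← Nat.card_eq_fintype_card, smul_eq_mul] at h1
  have h2 : Nat.card {g : G // orderOf g = 2} = 3795 := hc.cnt2
  rw [h2, hc.cnt6] at h1
  omega

/-- A commuting pair has centralizer of order at most `24`. -/
theorem inf_le_24 {x z : G} (hx : orderOf x = 3) (hz : orderOf z = 2) (hxz : Commute x z) :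
    Nat.card (centralizer ({x} : Set G) ⊓ centralizer ({z} : Set G) : Subgroup G) ≤ 24 := by
  classical
  set C := centralizer ({z} : Set G) with hC
  haveI : Fact (Nat.Prime 3) := ⟨Nat.prime_three⟩
  have hxC : x ∈ C := mem_centralizer_singleton_iff.2 hxz.eq
  have hCc := cent_two hc hz
  set H := (centralizer ({x} : Set G)).subgroupOf C with hH
  let f : Bool × (C ⧸ H) → {y : G // Commute y z ∧ orderOf y = 3} := fun p =>
    ⟨(p.2.out : G) * (if p.1 then x else x⁻¹) * (p.2.out : G)⁻¹,
      comm_of_mem (mul_mem (mul_mem p.2.out.2 (show (if p.1 then x else x⁻¹) ∈ C by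
        split_ifs <;> first | exact hxC | exact inv_mem hxC)) (inv_mem p.2.out.2)), by
      rw [← MulAut.conj_apply, MulEquiv.orderOf_eq]
      split_ifs <;> simp [hx]⟩
  have hsur : Function.Surjective f := by
    rintro ⟨y, hyz, hy⟩
    have hyC : y ∈ C := mem_centralizer_singleton_iff.2 hyz.eq
    let S : Sylow 3 C := Sylow.ofCard ((zpowers x).subgroupOf C) (by
      rw [Nat.card_congr (subgroupOfEquivOfLe (zpowers_le.2 hxC)).toEquiv, card_zp hx, hCc,
        show (2688 : ℕ) = 3 ^ 1 * 896 by norm_num,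
        Nat.factorization_mul (by norm_num) (by norm_num), Finsupp.add_apply,
        Nat.Prime.factorization_pow (by norm_num), Finsupp.single_eq_same,
        Nat.factorization_eq_zero_of_not_dvd (by norm_num : ¬ 3 ∣ 896)]
      norm_num)
    let T : Sylow 3 C := Sylow.ofCard ((zpowers y).subgroupOf C) (by
      rw [Nat.card_congr (subgroupOfEquivOfLe (zpowers_le.2 hyC)).toEquiv, card_zp hy, hCc,
        show (2688 : ℕ) = 3 ^ 1 * 896 by norm_num,
        Nat.factorization_mul (by norm_num) (by norm_num), Finsupp.add_apply,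
        Nat.Prime.factorization_pow (by norm_num), Finsupp.single_eq_same,
        Nat.factorization_eq_zero_of_not_dvd (by norm_num : ¬ 3 ∣ 896)]
      norm_num)
    obtain ⟨k, hk⟩ := MulAction.exists_smul_eq C S T
    have hm : (⟨y, hyC⟩ : C) ∈ ((k • S : Sylow 3 C) : Subgroup C) := hk.symm ▸ mem_zpowers y
    obtain ⟨⟨w, hwC⟩, hw, hwe⟩ := hm
    have hwy : (k : G) * w * (k : G)⁻¹ = y := congrArg Subtype.val hwe
    have hwx : w = x ∨ w = x⁻¹ := by
      obtain ⟨j, hj⟩ := mem_zpowers_iff.1 (show w ∈ zpowers x from hw)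
      have hx3 : x ^ (3 : ℤ) = 1 := by
        rw [show (3 : ℤ) = ((3 : ℕ) : ℤ) from rfl, zpow_natCast, ← hx, pow_orderOf_eq_one]
      obtain ⟨q, r, hr, rfl⟩ : ∃ q r : ℤ, (r = 0 ∨ r = 1 ∨ r = -1) ∧ j = 3 * q + r :=
        ⟨(j + 1) / 3, (j + 1) % 3 - 1, by omega, by omega⟩
      rw [zpow_add, zpow_mul, hx3, one_zpow, one_mul] at hj
      rcases hr with rfl | rfl | rfl
      · rw [zpow_zero] at hj
        rw [← hj, mul_one, mul_inv_cancel] at hwy
        rw [← hwy, orderOf_one] at hy
        omega
      · exact Or.inl (by rw [← hj, zpow_one])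
      · exact Or.inr (by rw [← hj, zpow_neg_one])
    obtain ⟨d, hd⟩ := QuotientGroup.mk_out_eq_mul H k
    have hdx : Commute ((d : C) : G) x := comm_of_mem d.2
    have hkey : ∀ a : G, Commute ((d : C) : G) a →
        (k : G) * ((d : C) : G) * a * ((k : G) * ((d : C) : G))⁻¹ = (k : G) * a * (k : G)⁻¹ := by
      intro a ha
      calc (k : G) * ((d : C) : G) * a * ((k : G) * ((d : C) : G))⁻¹
          = (k : G) * (((d : C) : G) * a * ((d : C) : G)⁻¹) * (k : G)⁻¹ := by group
        _ = _ := by rw [ha.eq, mul_inv_cancel_right]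
    rcases hwx with rfl | rfl
    · refine ⟨(true, (k : C ⧸ H)), Subtype.ext ?_⟩
      show ((_ : C) : G) * w * ((_ : C) : G)⁻¹ = y
      rw [hd]
      exact (hkey _ hdx).trans hwy
    · refine ⟨(false, (k : C ⧸ H)), Subtype.ext ?_⟩
      show ((_ : C) : G) * x⁻¹ * ((_ : C) : G)⁻¹ = y
      rw [hd]
      exact (hkey _ hdx.inv_right).trans hwy
  have h1 := Nat.card_le_card_of_surjective f hsur
  rw [card_three_in_cent hc hz, Nat.card_prod, ← index_eq_card] at h1
  have h2 := H.card_mul_index
  rw [hCc, Nat.card_congr (show H ≃ (centralizer ({x} : Set G) ⊓ C : Subgroup G) from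
    { toFun := fun q => ⟨((q : C) : G), q.2, q.1.2⟩
      invFun := fun q => ⟨⟨(q : G), q.2.2⟩, q.2.1⟩
      left_inv := fun _ => rfl
      right_inv := fun _ => rfl })] at h2
  rw [Nat.card_eq_fintype_card (α := Bool), Fintype.card_bool] at h1
  nlinarith

theorem cent_three {x : G} (hx : orderOf x = 3) :
    Nat.card (centralizer ({x} : Set G)) = 180 := by
  classical
  set C := centralizer ({x} : Set G) with hC
  haveI : Fact (Nat.Prime 2) := ⟨Nat.prime_two⟩
  haveI : Fact (Nat.Prime 5) := ⟨by norm_num⟩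
  have hno : ∀ p ∈ [7, 11, 23], ¬ p ∣ Nat.card C := by
    intro p hp hd
    have hpp : p.Prime := by fin_cases hp <;> norm_num
    haveI := Fact.mk hpp
    obtain ⟨g, hgC, hg⟩ := exists_order p hd
    have h2 : Nat.Coprime 3 p := by fin_cases hp <;> norm_num
    refine no_order hc (n := 3 * p) ?_ (x * g)
      (orderOf_mul_coprime (comm_of_mem hgC).symm hx hg h2)
    fin_cases hp <;> decide
  have h5760 : Nat.card C ∣ 5760 := by
    have h1 : Nat.card C ∣ 5760 * (7 * 11 * 23) := by
      rw [show 5760 * (7 * 11 * 23) = 10200960 by norm_num, ← card_G hc]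
      exact card_subgroup_dvd_card C
    refine Nat.Coprime.dvd_of_dvd_mul_right (Nat.Coprime.mul_right (Nat.Coprime.mul_right ?_ ?_) ?_) h1
    all_goals exact ((Nat.Prime.coprime_iff_not_dvd (by norm_num)).2 (hno _ (by simp))).symm
  -- a Sylow 2-subgroup has order at most eight
  have h16 : ¬ 16 ∣ Nat.card C := by
    intro hd
    obtain ⟨T, hT⟩ := Sylow.exists_subgroup_card_pow_prime 2 (G := C) (n := 4) hd
    set T' := T.map C.subtype with hT'
    have hTc : Nat.card T' = 16 := by
      rw [hT', card_map_of_injective C.subtype_injective, hT]; norm_num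
    have hsq : ∀ a ∈ T', a * a = 1 := by
      intro a ha
      obtain ⟨k, hk, he⟩ := (Nat.dvd_prime_pow Nat.prime_two).1
        (show orderOf a ∣ 2 ^ 4 by norm_num; exact hTc ▸ orderOf_dvd_natCard _ ha)
      have hax : Commute x a := (comm_of_mem (map_subtype_le T ha)).symm
      rcases Nat.lt_or_ge k 2 with h | h
      · rw [← sq]
        exact orderOf_dvd_iff_pow_eq_one.1 (he ▸ (by
          calc 2 ^ k ∣ 2 ^ 1 := pow_dvd_pow 2 (by omega)
            _ = 2 := pow_one 2))
      · exfalso
        have ho := orderOf_mul_coprime hax hx he (Nat.Coprime.pow_right k (by norm_num))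
        interval_cases k <;> exact no_order hc (by decide) _ ho
    obtain ⟨a, haT, ha⟩ := exists_order 2 (H := T') (by rw [hTc]; norm_num)
    have hax : Commute x a := (comm_of_mem (map_subtype_le T haT)).symm
    have hle : T' ≤ centralizer ({x} : Set G) ⊓ centralizer ({a} : Set G) := by
      refine le_inf (map_subtype_le T) fun b hb => mem_centralizer_singleton_iff.2 ?_
      have hab := hsq _ (mul_mem hb haT)
      rw [show b * a = (b * a)⁻¹ from (inv_eq_of_mul_eq_one_right hab).symm, mul_inv_rev,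
        inv_eq_of_mul_eq_one_right (hsq b hb), inv_eq_of_mul_eq_one_right (hsq a haT)]
    have h3 : zpowers x ≤ centralizer ({x} : Set G) ⊓ centralizer ({a} : Set G) :=
      zpowers_le.2 ⟨mem_centralizer_singleton_iff.2 rfl, mem_centralizer_singleton_iff.2 hax.eq⟩
    have h48 := Nat.le_of_dvd Nat.card_pos
      (Nat.Coprime.mul_dvd_of_dvd_of_dvd (show Nat.Coprime 16 3 by norm_num)
        (hTc ▸ card_dvd_of_le hle) (card_zp hx ▸ card_dvd_of_le h3))
    have := inf_le_24 hc hx ha hax
    omega
  have h1 := class_mul x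
  rw [card_G hc] at h1
  have hcl : Nat.card {y : G // IsConj x y} ≤ 56672 := (class_le hx).trans_eq hc.cnt3
  have hlow : 180 ≤ Nat.card C := by
    have := Nat.mul_le_mul_right (Nat.card C) hcl
    rw [h1] at this
    omega
  have hmem : Nat.card C ∈ Nat.divisors 5760 := Nat.mem_divisors.2 ⟨h5760, by norm_num⟩
  have h360 : Nat.card C = 180 ∨ Nat.card C = 360 := by
    have : ∀ d ∈ Nat.divisors 5760, 180 ≤ d → ¬ 16 ∣ d → d = 180 ∨ d = 360 := by decide +kernel
    exact this _ hmem hlow h16
  refine h360.resolve_right fun e => ?_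
  -- otherwise twelve subgroups of order five
  obtain ⟨u, huC, hu⟩ := exists_order 5 (H := C) (by rw [e]; norm_num)
  set W := normalizer (zpowers u : Set G) with hW
  have hWc := norm_five hc hu
  let P : Sylow 5 C := Sylow.ofCard ((zpowers u).subgroupOf C) (by
    rw [Nat.card_congr (subgroupOfEquivOfLe (zpowers_le.2 huC)).toEquiv, card_zp hu, e,
      show (360 : ℕ) = 5 ^ 1 * 72 by norm_num,
      Nat.factorization_mul (by norm_num) (by norm_num), Finsupp.add_apply,
      Nat.Prime.factorization_pow (by norm_num), Finsupp.single_eq_same,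
      Nat.factorization_eq_zero_of_not_dvd (by norm_num : ¬ 5 ∣ 72)]
    norm_num)
  have hN : normalizer (P : Set C) = W.subgroupOf C :=
    (subgroupOf_normalizer_eq (zpowers_le.2 huC)).symm
  have hm := card_sylow_modEq_one 5 C
  rw [P.card_eq_index_normalizer, hN] at hm
  have h2 := (W.subgroupOf C).card_mul_index
  have hK : Nat.card (W.subgroupOf C) = Nat.card (W ⊓ C : Subgroup G) := Nat.card_congr
    { toFun := fun q => ⟨((q : C) : G), q.2, q.1.2⟩
      invFun := fun q => ⟨⟨(q : G), q.2.2⟩, q.2.1⟩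
      left_inv := fun _ => rfl
      right_inv := fun _ => rfl }
  rw [hK, e] at h2
  have h60 : Nat.card (W ⊓ C : Subgroup G) ∣ 60 := hWc ▸ card_dvd_of_le inf_le_left
  have hcW : centralizer ({u} : Set G) ≤ W ⊓ C := by
    have h15 := hc.cent5 u hu
    have hxu : x ∈ centralizer ({u} : Set G) :=
      mem_centralizer_singleton_iff.2 (comm_of_mem huC).symm.eq
    have hfull : zpowers x ⊔ zpowers u = centralizer ({u} : Set G) := by
      refine eq_of_le_of_card_ge (sup_le (zpowers_le.2 hxu)
        (zpowers_le.2 (mem_centralizer_singleton_iff.2 rfl))) ?_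
      rw [h15]
      exact Nat.le_of_dvd Nat.card_pos
        (Nat.Coprime.mul_dvd_of_dvd_of_dvd (show Nat.Coprime 3 5 by norm_num)
          (card_zp hx ▸ card_dvd_of_le le_sup_left) (card_zp hu ▸ card_dvd_of_le le_sup_right))
    refine le_inf ?_ (hfull ▸ sup_le (zpowers_le.2 (mem_centralizer_singleton_iff.2 rfl))
      (zpowers_le.2 huC))
    rw [← cent_zpowers]
    exact centralizer_le_normalizer _
  have h15' : 15 ∣ Nat.card (W ⊓ C : Subgroup G) := hc.cent5 u hu ▸ card_dvd_of_le hcW
  obtain ⟨t, ht⟩ := h15'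
  have ht4 : t ∣ 4 := by
    rw [ht, show (60 : ℕ) = 15 * 4 by norm_num] at h60
    exact Nat.dvd_of_mul_dvd_mul_left (by norm_num) h60
  have hm' : (W.subgroupOf C).index % 5 = 1 := hm
  rw [ht] at h2
  have : t ≤ 4 := Nat.le_of_dvd (by norm_num) ht4
  by_cases ht' : t = 4
  swap
  · interval_cases t <;> omega
  -- the whole normalizer centralises `x`: its four group would act faithfully on `⟨u⟩`
  rw [ht', show 15 * 4 = 2 ^ 2 * 15 by norm_num] at ht
  obtain ⟨T, hT⟩ := Sylow.exists_subgroup_card_pow_prime 2 (G := (W ⊓ C : Subgroup G)) (n := 2)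
    (ht ▸ Dvd.intro 15 rfl)
  set T' := T.map (W ⊓ C : Subgroup G).subtype with hT'
  have hTc : Nat.card T' = 4 := by
    rw [hT', card_map_of_injective (W ⊓ C : Subgroup G).subtype_injective, hT]; norm_num
  have hTW : T' ≤ W ⊓ C := map_subtype_le T
  have hinv : ∀ a ∈ T', a ≠ 1 → a * u * a⁻¹ = u⁻¹ := by
    intro a ha ha1
    obtain ⟨k, hk, he⟩ := (Nat.dvd_prime_pow Nat.prime_two).1
      (show orderOf a ∣ 2 ^ 2 by norm_num; exact hTc ▸ orderOf_dvd_natCard _ ha)
    have hax : Commute x a := (comm_of_mem (hTW ha).2).symm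
    interval_cases k
    · exact absurd (orderOf_eq_one_iff.1 he) ha1
    · have hm := (mem_normalizer_iff.1 (hTW ha).1 u).1 (mem_zpowers u)
      obtain ⟨i, hi⟩ := mem_zpowers_iff.1 hm
      have ha2 : a * a = 1 := by
        rw [← sq]
        exact orderOf_dvd_iff_pow_eq_one.1 (by rw [he]; norm_num)
      have h2 : u ^ (i * i) = u := by
        calc u ^ (i * i) = (a * u * a⁻¹) ^ i := by rw [zpow_mul, hi]
          _ = a * u ^ i * a⁻¹ := conj_zpow
          _ = a * a * u * (a * a)⁻¹ := by rw [hi]; group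
          _ = u := by rw [ha2, one_mul, inv_one, mul_one]
      have hu5 : u ^ (5 : ℤ) = 1 := by
        rw [show (5 : ℤ) = ((5 : ℕ) : ℤ) from rfl, zpow_natCast, ← hu, pow_orderOf_eq_one]
      have hne : a * u * a⁻¹ ≠ u := fun h => by
        have hac : a ∈ centralizer ({u} : Set G) :=
          mem_centralizer_singleton_iff.2 (mul_inv_eq_iff_eq_mul.1 h)
        have h15 := orderOf_dvd_natCard _ hac
        rw [hc.cent5 u hu, he] at h15
        norm_num at h15
      rw [← hi] at hne ⊢
      obtain ⟨q, r, hr, rfl⟩ : ∃ q r : ℤ, (r = 0 ∨ r = 1 ∨ r = 2 ∨ r = -2 ∨ r = -1) ∧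
          i = 5 * q + r := ⟨(i + 2) / 5, (i + 2) % 5 - 2, by omega, by omega⟩
      have key : ∀ r : ℤ, u ^ (5 * q + r) = u ^ r := fun r => by
        rw [zpow_add, zpow_mul, hu5, one_zpow, one_mul]
      have hsq : u ^ (r * r) = u := by
        refine Eq.trans ?_ h2
        rw [show (5 * q + r) * (5 * q + r) = 5 * (5 * q * q + 2 * q * r) + r * r by ring,
          zpow_add, zpow_mul u 5, hu5, one_zpow, one_mul]
      have hnot : ∀ n : ℤ, ¬ (5 : ℤ) ∣ n → u ^ n ≠ 1 := fun n hn e => by
        refine hn ?_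
        have := orderOf_dvd_iff_zpow_eq_one.2 e
        rwa [hu] at this
      rw [key] at hne ⊢
      rcases hr with rfl | rfl | rfl | rfl | rfl
      · refine absurd ?_ (hnot 1 (by norm_num))
        rw [zpow_one, ← hsq]; norm_num
      · exact absurd (zpow_one u) hne
      · refine absurd ?_ (hnot 3 (by norm_num))
        rw [show (3 : ℤ) = 2 * 2 + -1 by norm_num, zpow_add, hsq, zpow_neg_one, mul_inv_cancel]
      · refine absurd ?_ (hnot 3 (by norm_num))
        rw [show (3 : ℤ) = -2 * -2 + -1 by norm_num, zpow_add, hsq, zpow_neg_one, mul_inv_cancel]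
      · exact zpow_neg_one u
    · exact absurd (orderOf_mul_coprime hax hx he (by norm_num)) (no_order hc (by decide) _)
  obtain ⟨a, haT, ha⟩ := exists_order 2 (H := T') (by rw [hTc]; norm_num)
  have ha1 : a ≠ 1 := fun h => by rw [h, orderOf_one] at ha; omega
  obtain ⟨b, hbT, hba⟩ : ∃ b ∈ T', b ∉ zpowers a := by
    by_contra hno
    push Not at hno
    have := card_le_of_le (show T' ≤ zpowers a from hno)
    rw [hTc, card_zp ha] at this
    omega
  have hb1 : b ≠ 1 := fun h => hba (h ▸ one_mem _)
  have hab1 : a * b ≠ 1 := fun h =>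
    hba (by rw [eq_inv_of_mul_eq_one_right h]; exact inv_mem (mem_zpowers a))
  have e1 := hinv _ (mul_mem haT hbT) hab1
  have e2 : a * b * u * (a * b)⁻¹ = u := by
    calc a * b * u * (a * b)⁻¹ = a * (b * u * b⁻¹) * a⁻¹ := by group
      _ = (a * u * a⁻¹)⁻¹ := by rw [hinv b hbT hb1]; group
      _ = u := by rw [hinv a haT ha1, inv_inv]
  rw [e2] at e1
  have h2 : orderOf u ∣ 2 := orderOf_dvd_iff_pow_eq_one.2 (by
    rw [sq]; nth_rewrite 1 [e1]; exact inv_mul_cancel u)
  rw [hu] at h2
  norm_num at h2

theorem conj_three {u v : G} (hu : orderOf u = 3) (hv : orderOf v = 3) : IsConj u v := by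
  refine isConj_of_full hu ?_ hv
  have h := class_mul u
  rw [cent_three hc hu, card_G hc] at h
  rw [hc.cnt3]
  omega

theorem invol_three {u : G} (hu : orderOf u = 3) :
    Nat.card {v : G // Commute u v ∧ orderOf v = 2} = 15 := by
  classical
  haveI := Fintype.ofFinite G
  have h1 := card_pairs hc
  rw [Nat.card_sigma] at h1
  have hall : ∀ x : {g : G // orderOf g = 3},
      Nat.card {v : G // Commute x.1 v ∧ orderOf v = 2} =
        Nat.card {v : G // Commute u v ∧ orderOf v = 2} := by
    intro x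
    obtain ⟨c, hcx⟩ := isConj_iff.1 (conj_three hc hu x.2)
    refine (Nat.card_congr (Equiv.subtypeEquiv (MulAut.conj c).toEquiv fun v => ?_)).symm
    rw [← hcx]
    show Commute u v ∧ orderOf v = 2 ↔
      Commute (MulAut.conj c u) (MulAut.conj c v) ∧ orderOf (MulAut.conj c v) = 2
    rw [MulEquiv.orderOf_eq]
    exact and_congr_left fun _ => ⟨fun h => h.map _, fun h => by
      simpa [mul_assoc] using h.map (MulAut.conj c).symm⟩
  rw [Finset.sum_congr rfl fun v _ => hall v, Finset.sum_const, Finset.card_univ,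
    ← Nat.card_eq_fintype_card, smul_eq_mul] at h1
  have h2 : Nat.card {g : G // orderOf g = 3} = 56672 := hc.cnt3
  rw [h2, hc.cnt6] at h1
  omega

end CfsgLib.M23Order.FactsOf
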