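import Cfsg.Agent.Lib.M23Order.Assembly
import Cfsg.Agent.Lib.M23Nse.Wiring
import Cfsg.Agent.Lib.M23Nse.Target
import Cfsg.Agent.Lib.M23Nse.Counts
import Cfsg.Agent.Lib.M23Nse.Local
import Cfsg.Agent.Lib.M23Nse.HeptadProof
import Cfsg.Agent.Lib.M23Nse.NearProof
import Cfsg.Agent.Lib.M23Nse.FarProof
import Cfsg.Agent.Lib.M23Nse.SteinerProof
import Cfsg.Prelude.Def_Spor_Mathieu

/-!
# Simple groups of order 10200960 are the Mathieu group of degree 23, from the facts
-/

set_option autoImplicit false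

open CfsgLib.SteinerUnique

namespace CfsgLib.M23Order

universe u

/-- A group with the facts is the automorphism group of a Steiner system. -/
theorem exists_steiner_of_facts (G : Type u) [Group G] [Finite G] (F : M23Nse.Facts G) :
    ∃ (V : Type u) (_ : Fintype V) (_ : DecidableEq V) (B : Set (Finset V)),
      Fintype.card V = 23 ∧ Cfsg.IsSteinerSystem 4 7 B ∧
        Nonempty (G ≃* Cfsg.setSystemAut B) := by
  obtain ⟨h⟩ := M23Nse.heptad G F
  obtain ⟨n⟩ := M23Nse.NearProof.near G F h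
  obtain ⟨V, _, _, B, φ, hV, hB, hφ⟩ := M23Nse.steiner G F h n (M23Nse.FarProof.far G F h n)
  refine ⟨V, _, _, B, hV, hB, ⟨MulEquiv.ofBijective φ ?_⟩⟩
  exact (Nat.bijective_iff_injective_and_card φ).2
    ⟨hφ, F.card.trans (aut23 hV hB).1.2.symm⟩

/-- The isomorphism, from the facts. -/
theorem iso_of_facts (G : Type u) [Group G] [Finite G] (hG : M23Nse.Facts G) :
    Cfsg.Spor.IsoM23 G := by
  have FM := M23Nse.facts _ (M23Nse.counts _ M23Nse.hyp_M23)
  obtain ⟨V, _, _, B, hV, hB, ⟨e⟩⟩ := exists_steiner_of_facts G hG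
  obtain ⟨W, _, _, C, hW, hC, ⟨f⟩⟩ := exists_steiner_of_facts _ FM
  exact M23Nse.nonempty_mulEquiv hV hB e hW hC f

/-- The isomorphism, from the pieces. -/
theorem iso_of (hA : TwentyThreeStmt.{u}) (hB : ElevenStmt.{u}) (hC : TableStmt.{u})
    (hF0 : FiveBlockStmt.{u}) (hD : JointStmt.{u}) (hE : CentralStmt.{u}) (hF : DegreesStmt.{u}) (hG' : InvolStmt.{u})
    (hH : SevenStmt.{u}) (hI : FiveStmt.{u}) (hJ : ThreeStmt.{u}) (hK : OrdersStmt.{u})
    (G : Type u) [Group G] [Finite G] (hs : IsSimpleGroup G) (hG : Nat.card G = 10200960) :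
    Cfsg.Spor.IsoM23 G :=
  iso_of_facts G (facts_of hA hB hC hF0 hD hE hF hG' hH hI hJ hK G hs hG)

end CfsgLib.M23Order
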