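import Cfsg.Agent.Lib.M12Order.FiveEvenTools
import Cfsg.Agent.Lib.Small.Order7920
import Cfsg.Agent.Lib.CharApps.PrimeClassBound

/-!
# Simple groups of order 10200960: the structure at five from the degrees

From the degrees alone the principal block at five is `1, 231, 896, 896, 2024`; a character of
degree 896 with value a sign at an element of order five makes `|C(w)| / 5` a divisor of 9, and
the number of Sylow subgroups then makes it 3 (piece Five of `tools/S1664/gap2_helper7.md`).
-/

set_option autoImplicit false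
set_option linter.style.haveILetI false
set_option linter.unusedSectionVars false

open Cfsg CfsgLib.Chars CfsgLib.CharApps CfsgLib.Blocks CfsgLib.Small

namespace CfsgLib.M23Order.FiveCase

universe u

/-- The degrees of the nonprincipal characters. -/
def degs : List ℕ := [22, 45, 230, 231, 253, 770, 896, 990, 1035, 2024]

/-- There is no block with two ordinary and two exceptional characters. -/
theorem two_false : ∀ d ∈ degs, ∀ D ∈ degs, ∀ s ∈ ([1, -1] : List ℤ), ∀ ε ∈ ([1, -1] : List ℤ),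
    s * (d : ℤ) % 5 = 1 → ε * (D : ℤ) % 5 = 2 → ε * (D : ℤ) ≠ 1 + s * (d : ℤ) := by
  decide +kernel

/-- The signed degree. -/
def sv (d : ℕ) : ℤ := if d % 5 = 1 then (d : ℤ) else -(d : ℤ)

theorem sv_eq {d : ℕ} {s : ℤ} (hs : s = 1 ∨ s = -1) (hm : s * (d : ℤ) % 5 = 1) :
    (d % 5 = 1 ∨ d % 5 = 4) ∧ s * (d : ℤ) = sv d := by
  refine ⟨?_, ?_⟩
  · rcases hs with rfl | rfl <;> omega
  · unfold sv
    rcases hs with rfl | rfl <;> split_ifs <;> omega

/-- Three of the four signed degrees include 896. -/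
theorem four_table : ∀ a ∈ degs, ∀ b ∈ degs, ∀ c ∈ degs, ∀ d ∈ degs,
    (a % 5 = 1 ∨ a % 5 = 4) → (b % 5 = 1 ∨ b % 5 = 4) → (c % 5 = 1 ∨ c % 5 = 4) →
    (d % 5 = 1 ∨ d % 5 = 4) → 1 + (sv a + sv b + sv c + sv d) = 0 →
      a = 896 ∨ b = 896 ∨ c = 896 := by
  decide +kernel

/-- Four signed degrees adding up to minus one include 896. -/
theorem four_all : ∀ p ∈ degs, ∀ q ∈ degs, ∀ r ∈ degs, ∀ s ∈ degs,
    (p % 5 = 1 ∨ p % 5 = 4) → (q % 5 = 1 ∨ q % 5 = 4) → (r % 5 = 1 ∨ r % 5 = 4) →
    (s % 5 = 1 ∨ s % 5 = 4) → sv p + (sv q + (sv r + sv s)) = -1 →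
      p = 896 ∨ q = 896 ∨ r = 896 ∨ s = 896 := by
  decide +kernel

/-- The possible orders. -/
theorem five_orders {c n : ℕ} (hn : n % 5 = 1) (hc : c ∣ 9) (h : c * 4 * n = 2040192) : c = 3 := by
  have hc' : c ∈ Nat.divisors 9 := Nat.mem_divisors.2 ⟨hc, by norm_num⟩
  have : c = 1 ∨ c = 3 ∨ c = 9 := by
    have hd : Nat.divisors 9 = {1, 3, 9} := by decide +kernel
    rw [hd] at hc'
    simpa using hc'
  rcases this with rfl | rfl | rfl <;> omega

variable {G : Type u} [Group G] [Finite G]

/-- The facts used: the degrees and the centralizers at eleven and twenty-three. -/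
structure Input : Prop where
  card : Nat.card G = 10200960
  deg : ∀ χ : IrrCharacter G, χ ≠ principal G → charDegree (χ : G → ℂ) ∈ degs
  cent11 : ∀ x : G, orderOf x = 11 → Nat.card (Subgroup.centralizer ({x} : Set G)) = 11
  cent23 : ∀ x : G, orderOf x = 23 → Nat.card (Subgroup.centralizer ({x} : Set G)) = 23

variable [IsSimpleGroup G] (I : Input (G := G))

include I

theorem nonabelian : ¬ IsMulCommutative G := not_isMulCommutative_of_card (by rw [I.card]; norm_num)

theorem principal_degree : charDegree (principal G : G → ℂ) = 1 :=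
  (deg_eq_one_iff (principal G)).mp (principal_apply _)

theorem eq_principal {χ : IrrCharacter G} (h : charDegree (χ : G → ℂ) = 1) : χ = principal G :=
  eq_of_degree_one (nonabelian I) h (principal_degree I)

/-- The principal block: the normalizer induces all four automorphisms, and a character of
degree 896 takes a sign as value at the elements of order five. -/
theorem block [Fact (Nat.Prime 5)] (P : Sylow 5 G) (hP : Nat.card (P : Subgroup G) = 5) {e : ℕ}
    (he : (Subgroup.centralizer ((P : Subgroup G) : Set G)).relIndex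
      (Subgroup.normalizer ((P : Subgroup G) : Set G)) = e) (he1 : 1 < e) (hed : e ∣ 4) :
    e = 4 ∧ ∀ w ∈ (P : Subgroup G), w ≠ 1 → ∃ χ : IrrCharacter G, charDegree (χ : G → ℂ) = 896 ∧
      ∃ m : ℤ, (m = 1 ∨ m = -1) ∧ (m : ℂ) = (χ : G → ℂ) w := by
  classical
  haveI := Fintype.ofFinite G
  obtain ⟨M, hM⟩ := CharApps.exists_pModular (p := 5)
  haveI := hM.2.1.isPrime
  obtain ⟨X, Y, σ, ε, hB, hdisj, hX, hY, hXp, hε, hYd, hYeq, hrel⟩ :=
    Small.O7920.exists_block_data (by norm_num) hM P hP he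
  have h5one : ¬ 5 ∣ orderOf (1 : G) := by rw [orderOf_one]; norm_num
  have he' : e = 2 ∨ e = 4 := by
    have := Nat.le_of_dvd (by norm_num) hed
    interval_cases e <;> omega
  have hYpos : 0 < Y.card := by
    rw [hY]
    rcases he' with rfl | rfl <;> norm_num
  obtain ⟨θ, hθ⟩ := Finset.card_pos.1 hYpos
  by_cases hprin : principal G ∈ X
  swap
  · have h := ((hB _).1 (CfsgLib.Blocks.principal_mem_principalBlock M)).resolve_left hprin
    have h2 := hYd _ h
    rw [principal_degree I, Int.modEq_iff_dvd] at h2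
    rcases he' with rfl | rfl
    · exfalso
      rcases hε with h' | h' <;> rw [h'] at h2 <;> norm_num at h2
    -- then the four other members are all non-exceptional
    rcases hε with h' | h'
    · exfalso
      rw [h'] at h2; norm_num at h2
    subst h'
    refine ⟨rfl, fun w hw hw1 => ?_⟩
    have h3 := hrel _ h 1 h5one
    simp only [principal_apply, deg_eq] at h3
    have h3' : (-1 : ℤ) = ∑ χ ∈ X, σ χ * (charDegree (χ : G → ℂ) : ℤ) := by
      apply Int.cast_injective (α := ℂ)
      push_cast at h3 ⊢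
      simpa using h3
    obtain ⟨a, b, c, d, hab, hac, had, hbc, hbd, hcd, rfl⟩ := Finset.card_eq_four.1 hX
    have hsum : ∀ χ ∈ ({a, b, c, d} : Finset (IrrCharacter G)),
        charDegree (χ : G → ℂ) ∈ degs ∧
          (charDegree (χ : G → ℂ) % 5 = 1 ∨ charDegree (χ : G → ℂ) % 5 = 4) ∧
          σ χ * (charDegree (χ : G → ℂ) : ℤ) = sv (charDegree (χ : G → ℂ)) := fun χ hχ =>
      ⟨I.deg χ fun e => Finset.disjoint_left.1 hdisj hχ (e ▸ h),
        sv_eq (hXp χ hχ).1 (hXp χ hχ).2.1⟩
    rw [Finset.sum_insert (by simp [hab, hac, had]), Finset.sum_insert (by simp [hbc, hbd]),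
      Finset.sum_pair hcd] at h3'
    obtain ⟨m1, n1, s1⟩ := hsum a (by simp)
    obtain ⟨m2, n2, s2⟩ := hsum b (by simp)
    obtain ⟨m3, n3, s3⟩ := hsum c (by simp)
    obtain ⟨m4, n4, s4⟩ := hsum d (by simp)
    rw [s1, s2, s3, s4] at h3'
    obtain ⟨χ, hχ, hdeg⟩ : ∃ χ ∈ ({a, b, c, d} : Finset (IrrCharacter G)),
        charDegree (χ : G → ℂ) = 896 := by
      rcases four_all _ m1 _ m2 _ m3 _ m4 n1 n2 n3 n4 h3'.symm with h | h | h | h
      · exact ⟨a, by simp, h⟩
      · exact ⟨b, by simp, h⟩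
      · exact ⟨c, by simp, h⟩
      · exact ⟨d, by simp, h⟩
    exact ⟨χ, hdeg, σ χ, (hXp χ hχ).1, ((hXp χ hχ).2.2 w hw hw1).symm⟩
  have hσp : σ (principal G) = 1 := by
    have h := (hXp _ hprin).2.1
    rw [principal_degree I, Int.modEq_iff_dvd] at h
    rcases (hXp _ hprin).1 with h' | h' <;> rw [h'] at h ⊢ <;> omega
  have hθp : θ ≠ principal G := fun h => Finset.disjoint_left.1 hdisj hprin (h ▸ hθ)
  have hθm := hYd θ hθ
  rw [Int.ModEq] at hθm
  have hT := hrel θ hθ 1 h5one
  rw [← Finset.add_sum_erase _ _ hprin, hσp, principal_apply, deg_eq, Int.cast_one, one_mul] at hT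
  rcases he' with rfl | rfl
  · exfalso
    obtain ⟨χ, hχe⟩ := Finset.card_eq_one.1 (show (X.erase (principal G)).card = 1 by
      rw [Finset.card_erase_of_mem hprin, hX])
    have hχX : χ ∈ X ∧ χ ≠ principal G := by
      have h : χ ∈ X.erase (principal G) := by simp [hχe]
      rw [Finset.mem_erase] at h
      exact ⟨h.2, h.1⟩
    rw [hχe, Finset.sum_singleton, deg_eq] at hT
    have hT' : ε * (charDegree (θ : G → ℂ) : ℤ) = 1 + σ χ * (charDegree (χ : G → ℂ) : ℤ) := by
      exact_mod_cast hT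
    have h1 := (hXp χ hχX.1).2.1
    rw [Int.ModEq] at h1
    norm_num at h1 hθm
    refine two_false _ (I.deg χ hχX.2) _ (I.deg θ hθp) (σ χ) ?_ ε ?_ h1 hθm hT'
    · rcases (hXp χ hχX.1).1 with h | h <;> simp [h]
    · rcases hε with h | h <;> simp [h]
  refine ⟨rfl, fun w hw hw1 => ?_⟩
  obtain ⟨a, b, c, hab, hac, hbc, hXe⟩ := Finset.card_eq_three.1 (show (X.erase (principal G)).card = 3 by
    rw [Finset.card_erase_of_mem hprin, hX])
  have hmem : ∀ χ ∈ ({a, b, c} : Finset (IrrCharacter G)), χ ∈ X ∧ χ ≠ principal G := fun χ hχ => by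
    rw [← hXe, Finset.mem_erase] at hχ
    exact ⟨hχ.2, hχ.1⟩
  have hfac : ∀ χ ∈ ({a, b, c} : Finset (IrrCharacter G)), charDegree (χ : G → ℂ) ∈ degs ∧
      (charDegree (χ : G → ℂ) % 5 = 1 ∨ charDegree (χ : G → ℂ) % 5 = 4) ∧
      σ χ * (charDegree (χ : G → ℂ) : ℤ) = sv (charDegree (χ : G → ℂ)) := fun χ hχ => by
    obtain ⟨h1, h2⟩ := hmem χ hχ
    exact ⟨I.deg χ h2, sv_eq (hXp χ h1).1 (hXp χ h1).2.1⟩
  have hd : (-ε) * (charDegree (θ : G → ℂ) : ℤ) % 5 = 1 := by
    rcases hε with h' | h' <;> rw [h'] at hθm ⊢ <;> norm_num at hθm ⊢ <;> omega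
  obtain ⟨hd5, hds⟩ := sv_eq (s := -ε) (by rcases hε with h' | h' <;> simp [h']) hd
  rw [hXe, Finset.sum_insert (by simp [hab, hac]), Finset.sum_pair hbc, deg_eq, deg_eq, deg_eq] at hT
  have hT' : ε * (charDegree (θ : G → ℂ) : ℤ) = 1 + (σ a * (charDegree (a : G → ℂ) : ℤ) +
      (σ b * (charDegree (b : G → ℂ) : ℤ) + σ c * (charDegree (c : G → ℂ) : ℤ))) := by
    exact_mod_cast hT
  obtain ⟨a1, a2, a3⟩ := hfac a (by simp)
  obtain ⟨b1, b2, b3⟩ := hfac b (by simp)
  obtain ⟨c1, c2, c3⟩ := hfac c (by simp)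
  have h896 := four_table _ a1 _ b1 _ c1 _ (I.deg θ hθp) a2 b2 c2 hd5 (by
    rw [← a3, ← b3, ← c3, ← hds]; linarith)
  obtain ⟨χ, hχ, hdeg⟩ : ∃ χ ∈ ({a, b, c} : Finset (IrrCharacter G)),
      charDegree (χ : G → ℂ) = 896 := by
    rcases h896 with h | h | h
    · exact ⟨a, by simp, h⟩
    · exact ⟨b, by simp, h⟩
    · exact ⟨c, by simp, h⟩
  exact ⟨χ, hdeg, σ χ, (hXp χ (hmem χ hχ).1).1, ((hXp χ (hmem χ hχ).1).2.2 w hw hw1).symm⟩

/-- The elements of order five. -/
theorem local_five :
    (∀ w : G, orderOf w = 5 → Nat.card (Subgroup.centralizer ({w} : Set G)) = 15) ∧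
      ∀ P : Sylow 5 G, Nat.card (Subgroup.normalizer ((P : Subgroup G) : Set G)) = 60 := by
  haveI := Fact.mk (show Nat.Prime 5 by norm_num)
  have key : ∀ P : Sylow 5 G, Nat.card (Subgroup.centralizer ((P : Subgroup G) : Set G)) = 15 ∧
      Nat.card (Subgroup.normalizer ((P : Subgroup G) : Set G)) = 60 := by
    intro P
    have hP : Nat.card (P : Subgroup G) = 5 := by
      simpa using card_sylow_eq (p := 5) 1 2040192 (by rw [I.card]; rfl) (by norm_num) P
    obtain ⟨⟨w, hwP⟩, hw⟩ := exists_prime_orderOf_dvd_card' (G := (P : Subgroup G)) 5 (by rw [hP])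
    rw [Subgroup.orderOf_mk] at hw
    have hPw : (P : Subgroup G) = Subgroup.zpowers w :=
      (Subgroup.eq_of_le_of_card_ge (Subgroup.zpowers_le.2 hwP)
        (by rw [Nat.card_zpowers, hw, hP])).symm
    have hCw : Subgroup.centralizer ((P : Subgroup G) : Set G) = Subgroup.centralizer ({w} : Set G) := by
      rw [hPw, Subgroup.zpowers_eq_closure, Subgroup.centralizer_closure]
    obtain ⟨e, he1, hed, hce⟩ := exists_normalizer_centralizer (nonabelian I) P hP
    obtain ⟨c, hc⟩ := dvd_card_centralizer P hP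
    have hmul := card_normalizer_mul P
    rw [← hce, hc, I.card] at hmul
    have hnm : Nat.card (Sylow 5 G) % 5 = 1 := card_sylow_modEq_one 5 G
    generalize Nat.card (Sylow 5 G) = n at hmul hnm
    have hrel' : (Subgroup.centralizer ((P : Subgroup G) : Set G)).relIndex
        (Subgroup.normalizer ((P : Subgroup G) : Set G)) = e := by
      have hle : Subgroup.centralizer ((P : Subgroup G) : Set G) ≤
          Subgroup.normalizer ((P : Subgroup G) : Set G) := Subgroup.centralizer_le_normalizer _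
      have h := Subgroup.relIndex_mul_relIndex _ _ _ bot_le hle
      rw [Subgroup.relIndex_bot_left, Subgroup.relIndex_bot_left, ← hce] at h
      exact Nat.eq_of_mul_eq_mul_left Nat.card_pos h
    obtain ⟨rfl, h896⟩ := block I P hP hrel' he1 (by simpa using hed)
    obtain ⟨χ, hχd, m, hm, hmw⟩ := h896 w hwP (fun h => by rw [h, orderOf_one] at hw; norm_num at hw)
    have hidx : (Subgroup.centralizer ({w} : Set G)).index * (5 * c) = 10200960 := by
      rw [← hc, hCw, mul_comm, Subgroup.card_mul_index, I.card]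
    have hdvd : 896 ∣ (Subgroup.centralizer ({w} : Set G)).index := by
      haveI := Fintype.ofFinite G
      have h := degree_dvd_index_mul χ hmw
      rw [hχd] at h
      rcases hm with rfl | rfl
      · rw [mul_one] at h; exact_mod_cast h
      · rw [mul_neg_one, dvd_neg] at h; exact_mod_cast h
    have hc9 : c ∣ 9 := by
      have hc0 : 0 < c := Nat.pos_of_ne_zero (by rintro rfl; simp at hidx)
      obtain ⟨k, hk⟩ := hdvd
      have hkc : c * k = 2277 := by
        rw [hk] at hidx
        linarith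
      have hnot : ∀ p : ℕ, p.Prime → (∀ x : G, orderOf x = p →
          Nat.card (Subgroup.centralizer ({x} : Set G)) = p) → ¬ 5 ∣ p → ¬ p ∣ c := by
        intro p hp hL hp5 hd
        haveI := Fact.mk hp
        obtain ⟨⟨x, hxC⟩, hxo⟩ := exists_prime_orderOf_dvd_card'
          (G := Subgroup.centralizer ({w} : Set G)) p (by rw [← hCw, hc]; exact hd.mul_left 5)
        rw [Subgroup.orderOf_mk] at hxo
        have h := Subgroup.orderOf_dvd_natCard (Subgroup.centralizer ({x} : Set G))
          (Subgroup.mem_centralizer_singleton_iff.2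
            (Subgroup.mem_centralizer_singleton_iff.1 hxC).symm :
              w ∈ Subgroup.centralizer ({x} : Set G))
        rw [hw, hL x hxo] at h
        exact hp5 h
      have hcop : Nat.Coprime c 253 := by
        rw [show 253 = 11 * 23 from rfl]
        exact Nat.Coprime.mul_right
          (((by norm_num : Nat.Prime 11).coprime_iff_not_dvd).2
            (hnot 11 (by norm_num) I.cent11 (by norm_num))).symm
          (((by norm_num : Nat.Prime 23).coprime_iff_not_dvd).2
            (hnot 23 (by norm_num) I.cent23 (by norm_num))).symm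
      exact hcop.dvd_of_dvd_mul_right (show c ∣ 9 * 253 from ⟨k, hkc.symm⟩)
    obtain rfl := five_orders hnm hc9 (show c * 4 * n = 2040192 by linarith)
    exact ⟨hc, by rw [← hce, hc]⟩
  refine ⟨fun y hy => ?_, fun P => (key P).2⟩
  obtain ⟨P, hP, -⟩ := M12Order.FiveEven.exists_sylow_zpowers
    (show ¬ 5 ^ 2 ∣ Nat.card G by rw [I.card]; norm_num) hy
  rw [← (key P).1, hP, Subgroup.zpowers_eq_closure, Subgroup.centralizer_closure]

end CfsgLib.M23Order.FiveCase
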