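import Mathlib

/-!
# Simple groups of order 10200960: arithmetic of the principal block at five

The degrees that both blocks at twenty-three and eleven allow, and the signed sums at five.
-/

set_option autoImplicit false
set_option maxRecDepth 100000
set_option synthInstance.maxHeartbeats 100000
set_option synthInstance.maxSize 4096

namespace CfsgLib.M23Order.FiveBlockArith

/-- The degrees that the blocks at twenty-three and eleven allow. -/
def degList : List ℕ :=
  [11, 12, 22, 23, 45, 115, 126, 138, 160, 230, 231, 252, 253, 264, 276, 368, 483, 495, 506, 528,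
    644, 736, 759, 770, 896, 990, 1012, 1035, 1265, 1288, 1380, 1518, 1540, 1656, 1760, 1771, 1920,
    2024, 2277, 2415, 2530, 2760, 2772, 2898, 3036]

theorem mem_degList : ∀ d ∈ List.range 3194, d ∣ 10200960 → d ≠ 1 →
    d % 23 ∈ ([0, 1, 11, 12, 22] : List ℕ) → d % 11 ∈ ([0, 1, 5, 6, 10] : List ℕ) →
      d ∈ degList := by
  decide +kernel

theorem le_120 : ∀ d ∈ degList, d ≤ 120 → d ∈ ([11, 12, 22, 23, 45, 115] : List ℕ) := by
  decide +kernel

/-- The degrees congruent to plus or minus one modulo eleven, without twelve. -/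
def degA : List ℕ := [23, 45, 230, 252, 276, 483, 736, 1035, 1288, 2760]

theorem mem_degA : ∀ d ∈ degList, d ≠ 12 → (d % 11 = 1 ∨ d % 11 = 10) → d ∈ degA := by
  decide +kernel

/-- The signed degree at eleven. -/
def sv11 (d : ℕ) : ℤ := if d % 11 = 1 then (d : ℤ) else -(d : ℤ)

theorem eleven_sum : ∀ a ∈ degA, ∀ b ∈ degA, ∀ c ∈ degA, ∀ d ∈ degA,
    1 + (sv11 a + sv11 b + sv11 c + sv11 d) ≠ 126 := by
  decide +kernel

/-- The degrees congruent to plus or minus one modulo five, without 11 and 126. -/
def degFive : List ℕ := [231, 264, 276, 506, 644, 736, 759, 896, 1656, 1771, 2024, 3036]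

theorem mem_degFive : ∀ d ∈ degList, d ≠ 11 → d ≠ 126 → (d % 5 = 1 ∨ d % 5 = 4) →
    d ∈ degFive := by
  decide +kernel

/-- The signed degree at five. -/
def sv5 (d : ℕ) : ℤ := if d % 5 = 1 then (d : ℤ) else -(d : ℤ)

/-- Two different exceptional degrees at eleven. -/
def clash (a b : ℕ) : Bool := (a % 11 == 5 || a % 11 == 6) && (b % 11 == 5 || b % 11 == 6) && a != b

/-- The check of four degrees in increasing order. -/
def checkFour : Bool :=
  degFive.all fun a => degFive.all fun b => degFive.all fun c => degFive.all fun d =>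
    !(decide (a ≤ b) && decide (b ≤ c) && decide (c ≤ d) &&
      decide (sv5 a + sv5 b + sv5 c + sv5 d = -1)) ||
      (clash a b || clash a c || clash a d || clash b c || clash b d || clash c d) ||
      (a == 231 && b == 896 && c == 896 && d == 2024)

theorem check_four : checkFour = true := by decide +kernel

theorem four_cases {a b c d : ℕ} (ha : a ∈ degFive) (hb : b ∈ degFive) (hc : c ∈ degFive)
    (hd : d ∈ degFive) (hab : a ≤ b) (hbc : b ≤ c) (hcd : c ≤ d)
    (hsum : sv5 a + sv5 b + sv5 c + sv5 d = -1) :
    clash a b = true ∨ clash a c = true ∨ clash a d = true ∨ clash b c = true ∨ clash b d = true ∨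
      clash c d = true ∨ (a = 231 ∧ b = 896 ∧ c = 896 ∧ d = 2024) := by
  have h := check_four
  simp only [checkFour, List.all_eq_true] at h
  have h2 := h a ha b hb c hc d hd
  simp only [hab, hbc, hcd, hsum, decide_true, Bool.and_self, Bool.not_true, Bool.false_or,
    Bool.or_eq_true, Bool.and_eq_true, beq_iff_eq] at h2
  tauto

theorem two_none : ∀ a ∈ degFive, ∀ D ∈ degList, D ≠ 11 → D ≠ 126 →
    (1 + sv5 a).natAbs ≠ D := by
  decide +kernel

end CfsgLib.M23Order.FiveBlockArith
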