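import Cfsg.Agent.Lib.M23Order.Interface
import Cfsg.Agent.Lib.M23Order.FiveBlockArith
import Cfsg.Agent.Lib.Small.Order7920
import Cfsg.Agent.Lib.Small.SmallOrder
import Cfsg.Agent.Lib.Blocks.RegularTwist

/-!
# Simple groups of order 10200960: the principal block at five (piece F0)

The two tables restrict every degree; eleven and 126 do not occur, and the principal block at five
then has the degrees 231, 896, 896 and 2024.
-/

set_option autoImplicit false
set_option linter.style.haveILetI false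
set_option linter.unusedSectionVars false

open Cfsg CfsgLib.Chars CfsgLib.CharApps CfsgLib.Blocks CfsgLib.Small
open scoped ComplexConjugate

namespace CfsgLib.M23Order

universe u

namespace FiveBlockProof

open FiveBlockArith

variable {G : Type u} [Group G] [Finite G]

theorem table_cases {p n : ℕ} (T : Table G p n) (hp : 2 ≤ p) (χ : IrrCharacter G)
    (hne : χ ≠ principal G) :
    (∃ i, χ = T.a i ∧ (charDegree (χ : G → ℂ) % p = 1 ∨ charDegree (χ : G → ℂ) % p = p - 1)) ∨
      (∃ j, χ = T.θ j ∧ charDegree (χ : G → ℂ) = charDegree (T.θ 0 : G → ℂ)) ∨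
      (p ∣ charDegree (χ : G → ℂ) ∧ ∀ x : G, orderOf x = p → (χ : G → ℂ) x = 0) := by
  rcases T.cover χ with h | ⟨i, hi⟩ | h
  · exact absurd h hne
  · induction i using Fin.addCases with
    | left i =>
      rw [Fin.append_left] at hi
      refine Or.inl ⟨i, hi, ?_⟩
      obtain ⟨hs, hm⟩ := T.sgn_eq i
      rw [hi]
      rcases hs with h | h <;> rw [h] at hm
      · left
        have : ((charDegree (T.a i : G → ℂ) % p : ℕ) : ℤ) = 1 := by push_cast; simpa using hm
        exact_mod_cast this
      · right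
        have h1 : (p : ℤ) ∣ (charDegree (T.a i : G → ℂ) : ℤ) + 1 := by
          have := (Int.ModEq.dvd (show (-1 : ℤ) * (charDegree (T.a i : G → ℂ) : ℤ) ≡ 1 [ZMOD (p : ℤ)] from
            hm.trans (Int.emod_eq_of_lt one_pos.le (by exact_mod_cast hp)).symm))
          simpa [sub_neg_eq_add, add_comm] using this
        have h2 : p ∣ charDegree (T.a i : G → ℂ) + 1 := by exact_mod_cast h1
        obtain ⟨k, hk⟩ := h2
        obtain ⟨k', rfl⟩ : ∃ k', k = k' + 1 := ⟨k - 1, by rcases k with _ | k <;> simp at hk ⊢⟩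
        have h3 : charDegree (T.a i : G → ℂ) = p * k' + (p - 1) := by
          rw [mul_add, mul_one] at hk
          omega
        rw [h3, Nat.mul_add_mod, Nat.mod_eq_of_lt (by omega)]
    | right j =>
      rw [Fin.append_right] at hi
      refine Or.inr (Or.inl ⟨j, hi, ?_⟩)
      rw [hi]
      fin_cases j
      · rfl
      · exact T.deg_θ
  · exact Or.inr (Or.inr h)

theorem theta23 (T : TableTwentyThree G) :
    charDegree (T.θ 0 : G → ℂ) % 23 = 11 ∧ T.ε = 1 ∨ charDegree (T.θ 0 : G → ℂ) % 23 = 12 ∧ T.ε = -1 := by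
  obtain ⟨hε, h⟩ := T.ε_eq
  rcases hε with h' | h' <;> rw [h'] at h ⊢ <;> norm_num at h ⊢ <;> omega

theorem theta11 (S : TableEleven G) :
    charDegree (S.θ 0 : G → ℂ) % 11 = 5 ∧ S.ε = 1 ∨ charDegree (S.θ 0 : G → ℂ) % 11 = 6 ∧ S.ε = -1 := by
  obtain ⟨hε, h⟩ := S.ε_eq
  rcases hε with h' | h' <;> rw [h'] at h ⊢ <;> norm_num at h ⊢ <;> omega

theorem exc23 (T : TableTwentyThree G) {χ : IrrCharacter G} (hne : χ ≠ principal G)
    (h : charDegree (χ : G → ℂ) % 23 = 11 ∨ charDegree (χ : G → ℂ) % 23 = 12) : ∃ j, χ = T.θ j ∧ charDegree (χ : G → ℂ) = charDegree (T.θ 0 : G → ℂ) := by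
  rcases table_cases T (by norm_num) χ hne with ⟨i, -, hi⟩ | hj | ⟨hd, -⟩
  · omega
  · exact hj
  · omega

theorem exc11 (S : TableEleven G) {χ : IrrCharacter G} (hne : χ ≠ principal G)
    (h : charDegree (χ : G → ℂ) % 11 = 5 ∨ charDegree (χ : G → ℂ) % 11 = 6) : ∃ j, χ = S.θ j ∧ charDegree (χ : G → ℂ) = charDegree (S.θ 0 : G → ℂ) := by
  rcases table_cases S (by norm_num) χ hne with ⟨i, -, hi⟩ | hj | ⟨hd, -⟩
  · omega
  · exact hj
  · omega

variable [IsSimpleGroup G] (hG : Nat.card G = 10200960)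

include hG

theorem nonabelian : ¬ IsMulCommutative G := not_isMulCommutative_of_card (by rw [hG]; norm_num)

theorem principal_degree : charDegree (principal G : G → ℂ) = 1 :=
  (deg_eq_one_iff (principal G)).mp (principal_apply _)

theorem eq_principal {χ : IrrCharacter G} (h : charDegree (χ : G → ℂ) = 1) : χ = principal G :=
  eq_of_degree_one (nonabelian hG) h (principal_degree hG)

theorem degree_mem (T : TableTwentyThree G) (S : TableEleven G) {χ : IrrCharacter G}
    (hne : χ ≠ principal G) : charDegree (χ : G → ℂ) ∈ degList := by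
  classical
  haveI := Fintype.ofFinite G
  haveI := irrFintype G
  have hlt : charDegree (χ : G → ℂ) < 3194 := by
    have h := sum_degree_sq_nat (G := G)
    rw [← Finset.add_sum_erase _ _ (Finset.mem_univ χ), hG] at h
    by_contra hlt
    have h2 := Nat.pow_le_pow_left (not_lt.1 hlt) 2
    norm_num at h2
    omega
  refine mem_degList _ (List.mem_range.2 hlt) (hG ▸ charDegree_dvd_card χ)
    (fun h => hne (eq_principal hG h)) ?_ ?_
  · simp only [List.mem_cons, List.not_mem_nil, or_false]
    rcases table_cases T (by norm_num) χ hne with ⟨i, -, hi⟩ | ⟨j, -, hj⟩ | ⟨hd, -⟩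
    · omega
    · rcases theta23 T with h | h <;> omega
    · omega
  · simp only [List.mem_cons, List.not_mem_nil, or_false]
    rcases table_cases S (by norm_num) χ hne with ⟨i, -, hi⟩ | ⟨j, -, hj⟩ | ⟨hd, -⟩
    · omega
    · rcases theta11 S with h | h <;> omega
    · omega

/-- An element of order twenty-three is not conjugate to its inverse. -/
theorem not_conj_inv (L : LocalTwentyThree G) {x : G} (hx : orderOf x = 23) : ¬ IsConj x x⁻¹ := by
  haveI := Fact.mk (show Nat.Prime 23 by norm_num)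
  intro hc
  obtain ⟨c, hc⟩ := isConj_iff.1 hc
  obtain ⟨Q, hQ⟩ := (IsPGroup.of_card (p := 23) (n := 1)
    (show Nat.card (Subgroup.zpowers x) = 23 ^ 1 by
      rw [Nat.card_zpowers, hx, pow_one])).exists_le_sylow
  have hQc : Nat.card (Q : Subgroup G) = 23 := by
    simpa using card_sylow_eq (p := 23) 1 443520 (by rw [hG]; norm_num) (by norm_num) Q
  have hQe : Subgroup.zpowers x = (Q : Subgroup G) :=
    Subgroup.eq_of_le_of_card_ge hQ (by rw [hQc, Nat.card_zpowers, hx])
  have hmem : c ∈ Subgroup.normalizer ((Q : Subgroup G) : Set G) := by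
    rw [← hQe, Subgroup.mem_normalizer_iff_map_conj_eq, MonoidHom.map_zpowers]
    show Subgroup.zpowers (c * x * c⁻¹) = Subgroup.zpowers x
    rw [hc, Subgroup.zpowers_inv]
  have h1 := Subgroup.orderOf_dvd_natCard _ hmem
  rw [L.norm Q] at h1
  have h253 : c ^ 253 = 1 := orderOf_dvd_iff_pow_eq_one.1 h1
  have hc2 : Commute (c ^ 2) x := by
    have e1 : c * x = x⁻¹ * c := mul_inv_eq_iff_eq_mul.1 hc
    have e2 : c * x⁻¹ = x * c := by
      have := congrArg (fun y => x * y * x⁻¹) e1
      simpa [mul_assoc] using this.symm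
    show c ^ 2 * x = x * c ^ 2
    rw [sq, mul_assoc, e1, ← mul_assoc, e2, mul_assoc]
  have hcx : Commute c x := by
    have h := hc2.pow_left 127
    rwa [← pow_mul, show 2 * 127 = 253 + 1 from rfl, pow_succ, h253, one_mul] at h
  rw [hcx.eq, mul_inv_cancel_right] at hc
  have hx2 : x ^ 2 = 1 := by
    rw [sq]
    nth_rewrite 2 [hc]
    rw [mul_inv_cancel]
  have := orderOf_dvd_of_pow_eq_one hx2
  rw [hx] at this
  norm_num at this

/-- No character has degree eleven. -/
theorem ne_eleven (L : LocalTwentyThree G) (T : TableTwentyThree G) (S : TableEleven G)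
    (χ : IrrCharacter G) : charDegree (χ : G → ℂ) ≠ 11 := by
  classical
  intro hχ
  haveI := Fintype.ofFinite G
  haveI := irrFintype G
  haveI := Fact.mk (show Nat.Prime 23 by norm_num)
  have hne : χ ≠ principal G := fun h => by rw [h, principal_degree hG] at hχ; norm_num at hχ
  obtain ⟨-, -, hθd⟩ := exc23 T hne (by rw [hχ]; norm_num)
  rw [hχ] at hθd
  have hε : T.ε = 1 := by rcases theta23 T with h | h <;> omega
  obtain ⟨x, hx⟩ := exists_prime_orderOf_dvd_card' (G := G) 23 (by rw [hG]; norm_num)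
  set a := (T.θ 0 : G → ℂ) x with ha
  set b := (T.θ 1 : G → ℂ) x with hb
  have hab : a + b = -1 := by
    have h := T.at_p_θ x hx
    rw [hε, Int.cast_one] at h
    exact h
  -- the column at `x` against the one at its inverse
  have hsq : a ^ 2 + b ^ 2 = -11 := by
    have h := second_orthogonality x x⁻¹
    rw [if_neg (fun hc => not_conj_inv hG L hx hc.symm)] at h
    have hterm : ∀ ψ : IrrCharacter G, (ψ : G → ℂ) x * conj ((ψ : G → ℂ) x⁻¹) =
        (ψ : G → ℂ) x ^ 2 := fun ψ => by rw [irr_inv, Complex.conj_conj, sq]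
    simp only [hterm] at h
    have hsub : ∑ ψ ∈ insert (principal G) (Finset.univ.image (Fin.append T.a T.θ)),
        (ψ : G → ℂ) x ^ 2 = ∑ ψ : IrrCharacter G, (ψ : G → ℂ) x ^ 2 :=
      Finset.sum_subset (Finset.subset_univ _) fun ψ _ hψ => by
        rcases T.cover ψ with h' | ⟨i, h'⟩ | h'
        · exact absurd (Finset.mem_insert.2 (Or.inl h')) hψ
        · exact absurd (Finset.mem_insert_of_mem
            (Finset.mem_image.2 ⟨i, Finset.mem_univ _, h'.symm⟩)) hψ
        · rw [h'.2 x hx]; simp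
    rw [← hsub, Finset.sum_insert (fun h' => by
      obtain ⟨i, -, hi⟩ := Finset.mem_image.1 h'
      exact T.ne_principal i hi), Finset.sum_image fun i _ j _ h' => T.inj h',
      Fin.sum_univ_add] at h
    have hsum : ∑ i, ((T.a i : G → ℂ) x) ^ 2 = 10 := by
      rw [Finset.sum_congr rfl fun i _ => show ((T.a i : G → ℂ) x) ^ 2 = 1 by
        rw [T.at_p i x hx]; rcases (T.sgn_eq i).1 with h' | h' <;> rw [h'] <;> simp]
      simp
    simp only [Fin.append_left, Fin.append_right, principal_apply, hsum, Fin.sum_univ_two,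
      one_pow] at h
    linear_combination h
  have hquad : ∀ z : ℂ, z ^ 2 + z + 6 = 0 → z.re = -1 / 2 ∧ Complex.normSq z = 6 := by
    intro z hz
    have h1 := congrArg Complex.re hz
    have h2 := congrArg Complex.im hz
    simp [sq, Complex.mul_re, Complex.mul_im] at h1 h2
    have h3 : z.im * (2 * z.re + 1) = 0 := by linarith
    rcases mul_eq_zero.1 h3 with h4 | h4
    · rw [h4] at h1
      nlinarith [sq_nonneg (z.re + 1 / 2)]
    · have h5 : z.re = -1 / 2 := by linarith
      refine ⟨h5, ?_⟩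
      rw [Complex.normSq_apply]
      rw [h5] at h1 ⊢
      linarith
  obtain ⟨har, han⟩ := hquad a (by
    linear_combination (1 / 2 : ℂ) * hsq - (1 / 2 : ℂ) * (b - a - 1) * hab)
  obtain ⟨hbr, -⟩ := hquad b (by
    linear_combination (1 / 2 : ℂ) * hsq - (1 / 2 : ℂ) * (a - b - 1) * hab)
  -- the square of the exceptional character
  set η := (T.θ 0 : G → ℂ) with hη
  set φ : G → ℂ := η * fun g => conj (η g) with hφ
  have hφc : IsCharacter G φ :=
    isCharacter_mul (isCharacter_of_irr (T.θ 0).2) (isCharacter_conj (isCharacter_of_irr (T.θ 0).2))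
  choose m hm using inner_irr_right_nat hφc
  have hexp := classFun_eq_sum (isClassFunction_of_isCharacter hφc)
  have hval : ∀ g : G, φ g = ∑ ψ : IrrCharacter G, (m ψ : ℂ) * (ψ : G → ℂ) g := fun g => by
    conv_lhs => rw [hexp]
    simp [Finset.sum_apply, hm]
  have hm1 : m (principal G) = 1 := by
    have h : classInner φ (principal G : G → ℂ) = classInner η η := by
      rw [inner_def, inner_def]
      congr 1
      refine Finset.sum_congr rfl fun g _ => ?_
      simp [hφ, principal_apply]
    rw [hm, inner_irr_self] at h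
    exact_mod_cast h
  have hsplit : ∀ g : G, φ g = 1 + ∑ ψ ∈ Finset.univ.erase (principal G),
      (m ψ : ℂ) * (ψ : G → ℂ) g := fun g => by
    rw [hval g, ← Finset.add_sum_erase _ _ (Finset.mem_univ (principal G)), hm1, principal_apply]
    simp
  have hdeg : 1 + ∑ ψ ∈ Finset.univ.erase (principal G), m ψ * charDegree (ψ : G → ℂ) = 121 := by
    have h := hsplit 1
    simp only [hφ, Pi.mul_apply, hη, deg_eq, Complex.conj_natCast] at h
    rw [show charDegree (T.θ 0 : G → ℂ) = 11 from hθd.symm] at h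
    apply Nat.cast_injective (R := ℂ)
    push_cast
    rw [← h]
    norm_num
  have hle : ∀ ψ ∈ Finset.univ.erase (principal G), ((m ψ : ℂ) * (ψ : G → ℂ) x).re ≤ 0 := by
    intro ψ hψ
    rcases Nat.eq_zero_or_pos (m ψ) with h0 | h0
    · simp [h0]
    have hψne : ψ ≠ principal G := Finset.ne_of_mem_erase hψ
    have h120 : charDegree (ψ : G → ℂ) ≤ 120 := by
      have h := Finset.single_le_sum (f := fun ψ => m ψ * charDegree (ψ : G → ℂ)) (fun _ _ => Nat.zero_le _) hψ
      have := Nat.le_mul_of_pos_left (charDegree (ψ : G → ℂ)) h0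
      omega
    rw [← Complex.ofReal_natCast, Complex.re_ofReal_mul]
    refine mul_nonpos_of_nonneg_of_nonpos (Nat.cast_nonneg _) ?_
    have hlist := le_120 _ (degree_mem hG T S hψne) h120
    simp only [List.mem_cons, List.not_mem_nil, or_false] at hlist
    rcases table_cases T (by norm_num) ψ hψne with ⟨i, rfl, hi⟩ | ⟨j, rfl, -⟩ | ⟨-, h0'⟩
    · have hs : T.sgn i = -1 := by
        obtain ⟨hs, hmod⟩ := T.sgn_eq i
        refine hs.resolve_left fun h => ?_
        rw [h] at hmod
        rcases hlist with h' | h' | h' | h' | h' | h' <;>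
          rw [h'] at hmod <;> norm_num at hmod
      rw [T.at_p i x hx, hs]
      simp
    · fin_cases j
      · show a.re ≤ 0
        rw [har]; norm_num
      · show b.re ≤ 0
        rw [hbr]; norm_num
    · rw [h0' x hx]; simp
  have h6 : (φ x).re = 6 := by
    show (a * conj a).re = 6
    rw [Complex.mul_conj, Complex.ofReal_re, han]
  rw [hsplit x, Complex.add_re, Complex.re_sum, Complex.one_re] at h6
  have := Finset.sum_nonpos hle
  linarith

/-- No character has degree 126. -/
theorem ne_126 (T : TableTwentyThree G) (S : TableEleven G) (χ : IrrCharacter G) : charDegree (χ : G → ℂ) ≠ 126 := by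
  intro hχ
  have hne : χ ≠ principal G := fun h => by rw [h, principal_degree hG] at hχ; norm_num at hχ
  obtain ⟨-, -, h23⟩ := exc23 T hne (by rw [hχ]; norm_num)
  obtain ⟨-, -, h11⟩ := exc11 S hne (by rw [hχ]; norm_num)
  rw [hχ] at h23 h11
  have hε : S.ε = 1 := by rcases theta11 S with h | h <;> omega
  have hA : ∀ i, charDegree (S.a i : G → ℂ) ∈ degA ∧ S.sgn i * (charDegree (S.a i : G → ℂ) : ℤ) = sv11 (charDegree (S.a i : G → ℂ)) := by
    intro i
    obtain ⟨hs, hmod⟩ := S.sgn_eq i
    have hne' : S.a i ≠ principal G := by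
      have := S.ne_principal (Fin.castAdd 2 i)
      rwa [Fin.append_left] at this
    have hmod' : S.sgn i * (charDegree (S.a i : G → ℂ) : ℤ) % 11 = 1 := by simpa using hmod
    refine ⟨mem_degA _ (degree_mem hG T S hne') (fun h => ?_) ?_, ?_⟩
    · obtain ⟨-, -, h'⟩ := exc23 T hne' (by rw [h]; norm_num)
      omega
    · rcases hs with h | h <;> rw [h] at hmod' <;> omega
    · unfold sv11
      rcases hs with h | h <;> rw [h] at hmod' ⊢ <;> split_ifs <;> omega
  have hrel := S.rel 0 1 (by rw [orderOf_one]; norm_num)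
  simp only [hε, deg_eq, Fin.sum_univ_four] at hrel
  have h : (126 : ℤ) = 1 + (sv11 (charDegree (S.a 0 : G → ℂ)) + sv11 (charDegree (S.a 1 : G → ℂ)) + sv11 (charDegree (S.a 2 : G → ℂ)) +
      sv11 (charDegree (S.a 3 : G → ℂ))) := by
    rw [← (hA 0).2, ← (hA 1).2, ← (hA 2).2, ← (hA 3).2]
    apply Int.cast_injective (α := ℂ)
    have h126 : (charDegree (S.θ 0 : G → ℂ) : ℂ) = 126 := by exact_mod_cast h11.symm
    push_cast
    rw [h126] at hrel
    linear_combination hrel
  exact eleven_sum _ (hA 0).1 _ (hA 1).1 _ (hA 2).1 _ (hA 3).1 h.symm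

/-- The block. -/
theorem exists_block (L : LocalTwentyThree G) (T : TableTwentyThree G) (S : TableEleven G) :
    Nonempty (FiveBlock G) := by
  classical
  haveI := Fintype.ofFinite G
  haveI := irrFintype G
  haveI := Fact.mk (show Nat.Prime 5 by norm_num)
  obtain ⟨P⟩ := (inferInstance : Nonempty (Sylow 5 G))
  have hP : Nat.card (P : Subgroup G) = 5 := by
    simpa using card_sylow_eq (p := 5) 1 2040192 (by rw [hG]; rfl) (by norm_num) P
  obtain ⟨e, he1, hed, hce⟩ := exists_normalizer_centralizer (nonabelian hG) P hP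
  obtain ⟨M, hM⟩ := CharApps.exists_pModular (p := 5)
  haveI := hM.2.1.isPrime
  obtain ⟨X, Y, σ, ε, hB, hdisj, hX, hY, hXp, hε, hYd, hYeq, hrel⟩ :=
    Small.O7920.exists_block_data (by norm_num) hM P hP (relIndex_of_card_mul P hce)
  have h5one : ¬ 5 ∣ orderOf (1 : G) := by rw [orderOf_one]; norm_num
  have he' : e = 2 ∨ e = 4 := by
    have := Nat.le_of_dvd (by norm_num) hed
    interval_cases e <;> omega
  have hfive : ∀ χ : IrrCharacter G, χ ≠ principal G → (charDegree (χ : G → ℂ) % 5 = 1 ∨ charDegree (χ : G → ℂ) % 5 = 4) →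
      charDegree (χ : G → ℂ) ∈ degFive := fun χ hne h =>
    mem_degFive _ (degree_mem hG T S hne) (ne_eleven hG L T S χ) (ne_126 hG T S χ) h
  -- index two is impossible
  obtain rfl : e = 4 := by
    refine he'.resolve_left fun h => ?_
    subst h
    have hYcard : Y.card = 2 := hY
    obtain ⟨θ, hθ⟩ := Finset.card_pos.1 (show 0 < Y.card by omega)
    have hprin : principal G ∈ X := by
      refine ((hB _).1 (CfsgLib.Blocks.principal_mem_principalBlock M)).resolve_right fun h => ?_
      have h2 := hYd _ h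
      rw [principal_degree hG, Int.modEq_iff_dvd] at h2
      rcases hε with h' | h' <;> rw [h'] at h2 <;> norm_num at h2
    have hθp : θ ≠ principal G := fun h => Finset.disjoint_left.1 hdisj hprin (h ▸ hθ)
    obtain ⟨χ, hχe⟩ := Finset.card_eq_one.1 (show (X.erase (principal G)).card = 1 by
      rw [Finset.card_erase_of_mem hprin, hX])
    obtain ⟨hχne, hχX⟩ := Finset.mem_erase.1 (hχe ▸ Finset.mem_singleton_self χ :
      χ ∈ X.erase (principal G))
    obtain ⟨hs, hmod, -⟩ := hXp χ hχX
    have hmod' : σ χ * (charDegree (χ : G → ℂ) : ℤ) % 5 = 1 := hmod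
    have hσp : σ (principal G) = 1 := by
      have h := (hXp _ hprin).2.1
      rw [principal_degree hG, Int.modEq_iff_dvd] at h
      rcases (hXp _ hprin).1 with h' | h' <;> rw [h'] at h ⊢ <;> omega
    have hT := hrel θ hθ 1 h5one
    rw [← Finset.add_sum_erase _ _ hprin, hχe, Finset.sum_singleton, hσp, principal_apply] at hT
    simp only [deg_eq] at hT
    have hT' : ε * (charDegree (θ : G → ℂ) : ℤ) = 1 + σ χ * (charDegree (χ : G → ℂ) : ℤ) := by
      apply Int.cast_injective (α := ℂ)
      push_cast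
      linear_combination hT
    have hmem := hfive χ hχne (by rcases hs with h | h <;> rw [h] at hmod' <;> omega)
    have hsv : σ χ * (charDegree (χ : G → ℂ) : ℤ) = sv5 (charDegree (χ : G → ℂ)) := by
      unfold sv5
      rcases hs with h | h <;> rw [h] at hmod' ⊢ <;> split_ifs <;> omega
    refine two_none _ hmem _ (degree_mem hG T S hθp) (ne_eleven hG L T S θ) (ne_126 hG T S θ) ?_
    rw [← hsv, ← hT']
    rcases hε with h' | h' <;> simp [h']
  -- the four non-principal characters, with one sign function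
  have hY1 : Y.card = 1 := hY
  obtain ⟨θ, hYe⟩ := Finset.card_eq_one.1 hY1
  have hθ : θ ∈ Y := by simp [hYe]
  have hθX : θ ∉ X := fun h => Finset.disjoint_left.1 hdisj h hθ
  let s : IrrCharacter G → ℤ := fun χ => if χ ∈ X then σ χ else -ε
  have hmemB : ∀ χ, χ ∈ insert θ X ↔ χ ∈ principalBlock M G := fun χ => by
    rw [hB, hYe, Finset.mem_insert, Finset.mem_singleton, or_comm]
  have hrelB : ∀ g : G, ¬ 5 ∣ orderOf g → ∑ χ ∈ insert θ X, (s χ : ℂ) * (χ : G → ℂ) g = 0 := by
    intro g hg
    rw [Finset.sum_insert hθX, Finset.sum_congr rfl (fun χ hχ => by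
      rw [show s χ = σ χ from if_pos hχ]), ← hrel θ hθ g hg, show s θ = -ε from if_neg hθX]
    push_cast
    ring
  have hfac : ∀ χ ∈ insert θ X, (s χ = 1 ∨ s χ = -1) ∧ s χ * (charDegree (χ : G → ℂ) : ℤ) % 5 = 1 := by
    intro χ hχ
    rcases Finset.mem_insert.1 hχ with rfl | hχ
    · rw [show s χ = -ε from if_neg hθX]
      have h := hYd χ hθ
      refine ⟨by rcases hε with h' | h' <;> simp [h'], ?_⟩
      rw [Int.modEq_iff_dvd] at h
      rcases hε with h' | h' <;> rw [h'] at h ⊢ <;> omega
    · rw [show s χ = σ χ from if_pos hχ]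
      exact ⟨(hXp χ hχ).1, (hXp χ hχ).2.1⟩
  have hval : ∀ χ ∈ insert θ X, ∀ w ∈ (P : Subgroup G), w ≠ 1 →
      (χ : G → ℂ) w = (s χ : ℂ) := by
    intro χ hχ w hw hw1
    rcases Finset.mem_insert.1 hχ with rfl | hχ
    swap
    · rw [show s χ = σ χ from if_pos hχ]
      exact (hXp χ hχ).2.2 w hw hw1
    have hwo : 5 ∣ orderOf w := by
      rcases (Nat.dvd_prime (show Nat.Prime 5 by norm_num)).1
        (hP ▸ Subgroup.orderOf_dvd_natCard _ hw) with h | h
      · exact absurd (orderOf_eq_one_iff.1 h) hw1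
      · rw [h]
    have h := weak_orthogonality (show Nat.Prime 5 by norm_num) hM.2.2
      (isPBlock_principalBlock (G := G) M) (x := 1) (y := w) h5one hwo
    rw [finsum_mem_eq_sum_of_inter_support_eq (t := insert χ X) _ (by
      ext ψ
      simp only [Set.mem_inter_iff, Finset.mem_coe, hmemB]), Finset.sum_insert hθX] at h
    have hX' : ∑ ψ ∈ X, (ψ : G → ℂ) 1 * conj ((ψ : G → ℂ) w) =
        (ε : ℂ) * (χ : G → ℂ) 1 := by
      rw [hrel χ hθ 1 h5one]
      refine Finset.sum_congr rfl fun ψ hψ => ?_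
      rw [(hXp ψ hψ).2.2 w hw hw1, map_intCast, mul_comm]
    rw [hX'] at h
    have hd0 : (χ : G → ℂ) 1 ≠ 0 := by
      rw [deg_eq]; exact Nat.cast_ne_zero.2 (CfsgLib.Blocks.charDegree_pos χ).ne'
    have h2 : conj ((χ : G → ℂ) w) + (ε : ℂ) = 0 :=
      (mul_eq_zero.1 (show (χ : G → ℂ) 1 * (conj ((χ : G → ℂ) w) + (ε : ℂ)) = 0 by
        linear_combination h)).resolve_left hd0
    have h3 := congrArg conj (eq_neg_of_add_eq_zero_left h2)
    rw [Complex.conj_conj, map_neg, map_intCast] at h3
    rw [h3, show s χ = -ε from if_neg hθX, Int.cast_neg]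
  have hprin : principal G ∈ insert θ X :=
    (hmemB _).2 (CfsgLib.Blocks.principal_mem_principalBlock M)
  have hsp : s (principal G) = 1 := by
    obtain ⟨h1, h2⟩ := hfac _ hprin
    rw [principal_degree hG] at h2
    rcases h1 with h | h <;> rw [h] at h2 ⊢ <;> norm_num at h2
  -- sort by degree
  set F := (insert θ X).erase (principal G) with hF
  have hFc : F.card = 4 := by
    rw [hF, Finset.card_erase_of_mem hprin, Finset.card_insert_of_notMem hθX, hX]
  let e₀ : Fin 4 ≃ F := (F.equivFinOfCardEq hFc).symm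
  let π : Equiv.Perm (Fin 4) := Tuple.sort fun i => charDegree ((e₀ i : IrrCharacter G) : G → ℂ)
  let b : Fin 4 → IrrCharacter G := fun i => (e₀ (π i) : IrrCharacter G)
  have hmono : Monotone fun i => charDegree (b i : G → ℂ) :=
    Tuple.monotone_sort fun i => charDegree ((e₀ i : IrrCharacter G) : G → ℂ)
  have hb : ∀ i, b i ≠ principal G ∧ b i ∈ insert θ X := fun i =>
    Finset.mem_erase.1 (e₀ (π i)).2
  have hbinj : Function.Injective b := fun i j h => π.injective (e₀.injective (Subtype.ext h))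
  have hsum : ∀ f : IrrCharacter G → ℂ,
      ∑ χ ∈ insert θ X, f χ = f (principal G) + ∑ i, f (b i) := by
    intro f
    rw [← Finset.add_sum_erase _ _ hprin, ← hF]
    congr 1
    refine (Finset.sum_bij (fun i _ => b i) (fun i _ => (e₀ (π i)).2)
      (fun i _ j _ h => hbinj h) (fun χ hχ => ?_) (fun i _ => rfl)).symm
    obtain ⟨i, hi⟩ := (π.trans e₀).surjective ⟨χ, hχ⟩
    exact ⟨i, Finset.mem_univ _, congrArg Subtype.val hi⟩
  have hD : ∀ i, charDegree (b i : G → ℂ) ∈ degFive ∧ s (b i) * (charDegree (b i : G → ℂ) : ℤ) = sv5 (charDegree (b i : G → ℂ)) := by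
    intro i
    obtain ⟨hs, hm⟩ := hfac _ (hb i).2
    refine ⟨hfive _ (hb i).1 (by rcases hs with h | h <;> rw [h] at hm <;> omega), ?_⟩
    unfold sv5
    rcases hs with h | h <;> rw [h] at hm ⊢ <;> split_ifs <;> omega
  have hrelb : ∀ g : G, ¬ 5 ∣ orderOf g →
      1 + ∑ i, (s (b i) : ℂ) * (b i : G → ℂ) g = 0 := fun g hg => by
    have h := hrelB g hg
    rw [hsum, hsp, principal_apply] at h
    simpa using h
  have h4 : sv5 (charDegree (b 0 : G → ℂ)) + sv5 (charDegree (b 1 : G → ℂ)) + sv5 (charDegree (b 2 : G → ℂ)) + sv5 (charDegree (b 3 : G → ℂ)) = -1 := by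
    rw [← (hD 0).2, ← (hD 1).2, ← (hD 2).2, ← (hD 3).2]
    apply Int.cast_injective (α := ℂ)
    have h := hrelb 1 h5one
    simp only [deg_eq, Fin.sum_univ_four] at h
    push_cast
    linear_combination h
  have hclash : ∀ i j, clash (charDegree (b i : G → ℂ)) (charDegree (b j : G → ℂ)) = false := by
    intro i j
    by_contra h
    simp only [Bool.not_eq_false, clash, Bool.and_eq_true, Bool.or_eq_true, beq_iff_eq,
      bne_iff_ne] at h
    obtain ⟨⟨hi, hj⟩, hne⟩ := h
    obtain ⟨-, -, h1⟩ := exc11 S (hb i).1 hi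
    obtain ⟨-, -, h2⟩ := exc11 S (hb j).1 hj
    exact hne (h1.trans h2.symm)
  obtain ⟨h0, h1, h2, h3⟩ : charDegree (b 0 : G → ℂ) = 231 ∧ charDegree (b 1 : G → ℂ) = 896 ∧ charDegree (b 2 : G → ℂ) = 896 ∧ charDegree (b 3 : G → ℂ) = 2024 := by
    simpa [hclash] using four_cases (hD 0).1 (hD 1).1 (hD 2).1 (hD 3).1
      (hmono (show (0 : Fin 4) ≤ 1 by decide)) (hmono (show (1 : Fin 4) ≤ 2 by decide))
      (hmono (show (2 : Fin 4) ≤ 3 by decide)) h4
  have hdeg : ∀ i, charDegree (b i : G → ℂ) = deg5 i := fun i => by fin_cases i <;> assumption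
  have hsgn : ∀ i, s (b i) = sgn5 i := by
    intro i
    obtain ⟨hs, hm⟩ := hfac _ (hb i).2
    rw [hdeg i] at hm
    fin_cases i <;> rcases hs with h | h <;> rw [h] at hm ⊢ <;>
      simp [deg5, sgn5] at hm ⊢
  refine ⟨{ b := b, inj := hbinj, ne_principal := fun i => (hb i).1, deg := hdeg,
            at5 := fun w hw i => ?_, rel5 := fun g hg => ?_ }⟩
  · obtain ⟨Q, hQ⟩ := (IsPGroup.of_card (p := 5) (n := 1)
      (show Nat.card (Subgroup.zpowers w) = 5 ^ 1 by
        rw [Nat.card_zpowers, hw, pow_one])).exists_le_sylow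
    obtain ⟨c, hc⟩ := MulAction.exists_smul_eq G Q P
    have hmem : c * w * c⁻¹ ∈ (P : Subgroup G) := by
      rw [← hc, Sylow.smul_def]
      exact Subgroup.mem_map_of_mem (MulAut.conj c).toMonoidHom (hQ (Subgroup.mem_zpowers _))
    rw [← isClassFunction_irr (b i) w c, hval _ (hb i).2 _ hmem (fun h => by
      rw [conj_eq_one_iff] at h
      rw [h, orderOf_one] at hw
      norm_num at hw), hsgn i]
  · simpa only [hsgn] using hrelb g hg

end FiveBlockProof

/-- Piece F0. -/
theorem fiveBlock : FiveBlockStmt.{u} := by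
  intro G _ _ hs hG L23 _ T S
  haveI := hs
  exact FiveBlockProof.exists_block hG L23 T S

end CfsgLib.M23Order
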