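import Cfsg.Agent.Lib.M23Order.Interface
import Cfsg.Agent.Lib.M23Order.Five

/-!
# Simple groups of order 10200960: piece I
-/

set_option autoImplicit false
set_option linter.style.haveILetI false

open Cfsg CfsgLib.Chars CfsgLib.CharApps

namespace CfsgLib.M23Order

universe u

/-- The structure at five only needs the degrees and the centralizers at eleven and twenty-three. -/
theorem five_of_chars {G : Type u} [Group G] [Finite G] (hs : IsSimpleGroup G)
    (hG : Nat.card G = 10200960) (h23 : LocalTwentyThree G) (h11 : LocalEleven G) (C : Chars G) :
    LocalFive G := by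
  haveI := hs
  have key : ∀ i : Fin 17, i ≠ 0 → degs i ∈ FiveCase.degs := by decide +kernel
  have I : FiveCase.Input (G := G) :=
    { card := hG
      deg := fun χ hχ => by
        obtain ⟨i, rfl⟩ := C.c.surjective χ
        rw [C.deg i]
        exact key i fun e => hχ (by rw [e, C.principal])
      cent11 := h11.cent
      cent23 := h23.cent }
  exact ⟨(FiveCase.local_five I).1, (FiveCase.local_five I).2⟩

/-- Piece I. -/
theorem five : FiveStmt.{u} :=
  fun _ _ _ hs hG h23 h11 C _ _ => five_of_chars hs hG h23 h11 C

end CfsgLib.M23Order
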