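import Cfsg.Agent.Lib.Small.Order7920Tools
import Cfsg.Agent.Lib.M23Nse.Defs

/-!
# Simple groups of order 10200960: the pieces

One statement per step of `tools/S1664_plan.md`; together they give the counts used in
`Lib/M23Nse` (used for S1664, uniqueness by the order).
-/

set_option autoImplicit false

namespace CfsgLib.M23Order

open Cfsg CfsgLib.Chars CfsgLib.CharApps

universe u

variable (G : Type u) [Group G]

/-- The centralizer of an element. -/
abbrev cen {G : Type u} [Group G] (g : G) : Subgroup G := Subgroup.centralizer ({g} : Set G)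

/-- The elements of order `p` have centralizers of order `c`, the Sylow subgroups normalizers of
order `n`. -/
structure Local (p c n : ℕ) : Prop where
  cent : ∀ x : G, orderOf x = p → Nat.card (cen x) = c
  norm : ∀ P : Sylow p G, Nat.card (Subgroup.normalizer ((P : Subgroup G) : Set G)) = n

/-- The local structure at twenty-three. -/
abbrev LocalTwentyThree : Prop := Local G 23 23 253

/-- The local structure at eleven. -/
abbrev LocalEleven : Prop := Local G 11 11 55

/-- The local structure at seven. -/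
abbrev LocalSeven : Prop := Local G 7 14 42

/-- The local structure at five. -/
abbrev LocalFive : Prop := Local G 5 15 60

variable [Finite G]

/-- A principal block with self-centralizing defect group of prime order `p` and two exceptional
characters: `n` non-principal non-exceptional characters, sorted by degree. -/
structure Table (p n : ℕ) where
  a : Fin n → IrrCharacter G
  θ : Fin 2 → IrrCharacter G
  sgn : Fin n → ℤ
  ε : ℤ
  mono : Monotone fun i => charDegree (a i : G → ℂ)
  deg_θ : charDegree (θ 1 : G → ℂ) = charDegree (θ 0 : G → ℂ)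
  inj : Function.Injective (Fin.append a θ)
  ne_principal : ∀ i, Fin.append a θ i ≠ principal G
  sgn_eq : ∀ i, (sgn i = 1 ∨ sgn i = -1) ∧
    sgn i * (charDegree (a i : G → ℂ) : ℤ) % (p : ℤ) = 1
  ε_eq : (ε = 1 ∨ ε = -1) ∧
    ε * (charDegree (θ 0 : G → ℂ) : ℤ) % (p : ℤ) = ((n + 1 : ℕ) : ℤ)
  at_p : ∀ i, ∀ x : G, orderOf x = p → (a i : G → ℂ) x = (sgn i : ℂ)
  at_p_θ : ∀ x : G, orderOf x = p → (θ 0 : G → ℂ) x + (θ 1 : G → ℂ) x = -(ε : ℂ)
  rel : ∀ j, ∀ g : G, ¬ p ∣ orderOf g →
    (ε : ℂ) * (θ j : G → ℂ) g = 1 + ∑ i, (sgn i : ℂ) * (a i : G → ℂ) g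
  cover : ∀ χ : IrrCharacter G, χ = principal G ∨ (∃ i, χ = Fin.append a θ i) ∨
    (p ∣ charDegree (χ : G → ℂ) ∧ ∀ x : G, orderOf x = p → (χ : G → ℂ) x = 0)

/-- The block at twenty-three. -/
abbrev TableTwentyThree := Table G 23 10

/-- The block at eleven. -/
abbrev TableEleven := Table G 11 4

/-- The degrees of a block: the non-exceptional ones and the exceptional one. -/
noncomputable def Table.list {G : Type u} [Group G] [Finite G] {p n : ℕ} (T : Table G p n) :
    (Fin n → ℕ) × ℕ :=
  (fun i => charDegree (T.a i : G → ℂ), charDegree (T.θ 0 : G → ℂ))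

/-- The lists at twenty-three that fit the blocks at eleven and five. -/
def lists23 : List ((Fin 10 → ℕ) × ℕ) :=
  [
    (![22, 22, 22, 45, 45, 231, 231, 896, 896, 990], 495),
    (![22, 22, 22, 45, 45, 231, 896, 896, 990, 990], 264),
    (![22, 45, 45, 231, 231, 231, 231, 896, 896, 990], 11),
    (![22, 45, 45, 231, 231, 231, 896, 896, 990, 990], 770),
    (![22, 45, 45, 231, 231, 528, 896, 896, 990, 990], 11),
    (![45, 45, 231, 231, 231, 231, 231, 231, 896, 896], 495),
    (![45, 45, 231, 231, 231, 231, 231, 896, 896, 990], 264),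
    (![45, 45, 231, 231, 231, 231, 528, 896, 896, 990], 495),
    (![45, 45, 231, 231, 231, 528, 896, 896, 990, 990], 264),
    (![45, 45, 231, 231, 528, 528, 896, 896, 990, 990], 495)]

/-- The lists at eleven that fit a list at twenty-three. -/
def lists11 : List ((Fin 4 → ℕ) × ℕ) :=
  [(![45, 45, 230, 1035], 896), (![45, 45, 483, 1288], 896)]

/-- The true list at eleven. -/
def main11 : (Fin 4 → ℕ) × ℕ := (![45, 45, 230, 1035], 896)

/-- The list at twenty-three that is left by a central involution. -/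
def listsCentral : List ((Fin 10 → ℕ) × ℕ) :=
  [(![22, 45, 45, 231, 231, 231, 896, 896, 990, 990], 770)]

/-- The degrees in the principal block at five. -/
def deg5 : Fin 4 → ℕ := ![231, 896, 896, 2024]

/-- The signs in the principal block at five. -/
def sgn5 : Fin 4 → ℤ := ![1, 1, 1, -1]

/-- The principal block at five. -/
structure FiveBlock where
  b : Fin 4 → IrrCharacter G
  inj : Function.Injective b
  ne_principal : ∀ i, b i ≠ principal G
  deg : ∀ i, charDegree (b i : G → ℂ) = deg5 i
  at5 : ∀ w : G, orderOf w = 5 → ∀ i, (b i : G → ℂ) w = (sgn5 i : ℂ)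
  rel5 : ∀ g : G, ¬ 5 ∣ orderOf g → 1 + ∑ i, (sgn5 i : ℂ) * (b i : G → ℂ) g = 0

/-- The degrees of the Mathieu group. -/
def degs : Fin 17 → ℕ :=
  ![1, 22, 45, 45, 230, 231, 231, 231, 253, 770, 770, 896, 896, 990, 990, 1035, 2024]

/-- Signs at twenty-three; the exceptional pair `(9, 10)` is counted once. -/
def r23 : Fin 17 → ℤ := ![1, -1, -1, -1, 0, 1, 1, 1, 0, -1, 0, -1, -1, 1, 1, 0, 0]

/-- Signs at eleven; the exceptional pair `(11, 12)` is counted once. -/
def r11 : Fin 17 → ℤ := ![1, 0, 1, 1, -1, 0, 0, 0, 0, 0, 0, -1, 0, 0, 0, 1, 0]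

/-- Signs at seven in the principal block; the exceptional pair `(13, 14)` is counted once. -/
def r7 : Fin 17 → ℤ := ![1, 0, 0, 0, 0, 0, 0, 0, 0, 0, 0, 0, 0, -1, 0, -1, 1]

/-- Signs at five in the principal block. -/
def r5 : Fin 17 → ℤ := ![1, 0, 0, 0, 0, 1, 0, 0, 0, 0, 0, 1, 1, 0, 0, 0, -1]

/-- The column of the involutions. -/
def colT : Fin 17 → ℤ := ![1, 6, -3, -3, 22, 7, 7, 7, 13, -14, -14, 0, 0, -18, -18, 27, 8]

/-- The characters of the group, as far as the blocks at 23, 11 and five fix them.  (The block at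
seven is `r7`; nothing about it is assumed.) -/
structure Chars where
  c : Fin 17 ≃ IrrCharacter G
  deg : ∀ i, charDegree (c i : G → ℂ) = degs i
  principal : c 0 = CfsgLib.Chars.principal G
  rel23 : ∀ g : G, ¬ 23 ∣ orderOf g →
    (c 9 : G → ℂ) g = (c 10 : G → ℂ) g ∧ ∑ i, (r23 i : ℂ) * (c i : G → ℂ) g = 0
  rel11 : ∀ g : G, ¬ 11 ∣ orderOf g →
    (c 11 : G → ℂ) g = (c 12 : G → ℂ) g ∧ ∑ i, (r11 i : ℂ) * (c i : G → ℂ) g = 0
  rel5 : ∀ g : G, ¬ 5 ∣ orderOf g → ∑ i, (r5 i : ℂ) * (c i : G → ℂ) g = 0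
  at23 : ∀ x : G, orderOf x = 23 →
    (∀ i, i ≠ 9 → i ≠ 10 → (c i : G → ℂ) x = (r23 i : ℂ)) ∧
      (c 9 : G → ℂ) x + (c 10 : G → ℂ) x = -1
  at11 : ∀ x : G, orderOf x = 11 →
    (∀ i, i ≠ 11 → i ≠ 12 → (c i : G → ℂ) x = (r11 i : ℂ)) ∧
      (c 11 : G → ℂ) x + (c 12 : G → ℂ) x = -1
  at5 : ∀ w : G, orderOf w = 5 → ∀ i, r5 i ≠ 0 → (c i : G → ℂ) w = (r5 i : ℂ)

/-- The involutions. -/
structure LocalTwo (C : Chars G) : Prop where
  cent : ∀ t : G, orderOf t = 2 → Nat.card (cen t) = 2688
  conj : ∀ t s : G, orderOf t = 2 → orderOf s = 2 → IsConj t s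
  vals : ∀ t : G, orderOf t = 2 → ∀ i, (C.c i : G → ℂ) t = (colT i : ℂ)

/-- The elements of order three. -/
structure LocalThree : Prop where
  cent : ∀ z : G, orderOf z = 3 → Nat.card (cen z) = 180
  conj : ∀ z z' : G, orderOf z = 3 → orderOf z' = 3 → IsConj z z'

/-- What is needed of the numbers of elements. -/
structure Counts : Prop where
  card : Nat.card G = 10200960
  orders : ∀ g : G, orderOf g ∈ [1, 2, 3, 4, 5, 6, 7, 8, 11, 14, 15, 23]
  cnt2 : M23Nse.cnt G 2 = 3795
  cnt3 : M23Nse.cnt G 3 = 56672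
  cnt6 : M23Nse.cnt G 6 = 850080
  cent5 : ∀ u : G, orderOf u = 5 → Nat.card (cen u) = 15
  norm5 : ∀ P : Sylow 5 G, Nat.card (Subgroup.normalizer ((P : Subgroup G) : Set G)) = 60
  cent7 : ∀ u : G, orderOf u = 7 → Nat.card (cen u) = 14
  norm7 : ∀ P : Sylow 7 G, Nat.card (Subgroup.normalizer ((P : Subgroup G) : Set G)) = 42
  cent11 : ∀ u : G, orderOf u = 11 → Nat.card (cen u) = 11
  cent23 : ∀ u : G, orderOf u = 23 → Nat.card (cen u) = 23
  norm23 : ∀ P : Sylow 23 G, Nat.card (Subgroup.normalizer ((P : Subgroup G) : Set G)) = 253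

/-- Piece A. -/
def TwentyThreeStmt : Prop :=
  ∀ (G : Type u) [Group G] [Finite G], IsSimpleGroup G → Nat.card G = 10200960 →
    LocalTwentyThree G

/-- Piece B. -/
def ElevenStmt : Prop :=
  ∀ (G : Type u) [Group G] [Finite G], IsSimpleGroup G → Nat.card G = 10200960 →
    LocalTwentyThree G → LocalEleven G

/-- Piece C. -/
def TableStmt : Prop :=
  ∀ (G : Type u) [Group G] [Finite G], IsSimpleGroup G → Nat.card G = 10200960 →
    LocalTwentyThree G → LocalEleven G → Nonempty (TableTwentyThree G) ∧ Nonempty (TableEleven G)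

/-- Piece F0: the principal block at five, from the restrictions on all degrees. -/
def FiveBlockStmt : Prop :=
  ∀ (G : Type u) [Group G] [Finite G], IsSimpleGroup G → Nat.card G = 10200960 →
    LocalTwentyThree G → LocalEleven G → ∀ (_ : TableTwentyThree G) (_ : TableEleven G),
      Nonempty (FiveBlock G)

/-- Piece D: the three blocks together. -/
def JointStmt : Prop :=
  ∀ (G : Type u) [Group G] [Finite G], IsSimpleGroup G → Nat.card G = 10200960 →
    LocalTwentyThree G → LocalEleven G → ∀ (T : TableTwentyThree G) (S : TableEleven G),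
      FiveBlock G → T.list ∈ lists23 ∧ S.list ∈ lists11

/-- Piece E: a central involution. -/
def CentralStmt : Prop :=
  ∀ (G : Type u) [Group G] [Finite G], IsSimpleGroup G → Nat.card G = 10200960 →
    LocalTwentyThree G → LocalEleven G → ∀ (T : TableTwentyThree G) (S : TableEleven G),
      T.list ∈ lists23 → S.list ∈ lists11 → T.list ∈ listsCentral ∧ S.list = main11

/-- Piece F: the degrees. -/
def DegreesStmt : Prop :=
  ∀ (G : Type u) [Group G] [Finite G], IsSimpleGroup G → Nat.card G = 10200960 →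
    LocalTwentyThree G → LocalEleven G → ∀ (T : TableTwentyThree G) (S : TableEleven G),
      T.list ∈ listsCentral → S.list = main11 → FiveBlock G → Nonempty (Chars G)

/-- Piece G: the involutions. -/
def InvolStmt : Prop :=
  ∀ (G : Type u) [Group G] [Finite G], IsSimpleGroup G → Nat.card G = 10200960 →
    LocalTwentyThree G → LocalEleven G → ∀ C : Chars G, LocalTwo G C

/-- Piece H: seven. -/
def SevenStmt : Prop :=
  ∀ (G : Type u) [Group G] [Finite G], IsSimpleGroup G → Nat.card G = 10200960 →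
    LocalTwentyThree G → LocalEleven G → ∀ C : Chars G, LocalTwo G C → LocalSeven G

/-- Piece I: five. -/
def FiveStmt : Prop :=
  ∀ (G : Type u) [Group G] [Finite G], IsSimpleGroup G → Nat.card G = 10200960 →
    LocalTwentyThree G → LocalEleven G → ∀ C : Chars G, LocalTwo G C → LocalSeven G → LocalFive G

/-- Piece J: three. -/
def ThreeStmt : Prop :=
  ∀ (G : Type u) [Group G] [Finite G], IsSimpleGroup G → Nat.card G = 10200960 →
    LocalTwentyThree G → LocalEleven G → ∀ C : Chars G, LocalTwo G C → LocalSeven G → LocalFive G →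
      LocalThree G

/-- Piece K: the element orders and the elements of order six. -/
def OrdersStmt : Prop :=
  ∀ (G : Type u) [Group G] [Finite G], IsSimpleGroup G → Nat.card G = 10200960 →
    LocalTwentyThree G → LocalEleven G → ∀ C : Chars G, LocalTwo G C → LocalSeven G → LocalFive G →
      LocalThree G →
      (∀ g : G, orderOf g ∈ [1, 2, 3, 4, 5, 6, 7, 8, 11, 14, 15, 23]) ∧
        M23Nse.cnt G 6 = 850080

end CfsgLib.M23Order
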