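import Cfsg.Agent.Lib.M23Order.InvolColumn

/-!
# Simple groups of order 10200960: the involutions

One column is possible, so the involutions are conjugate with centralizers of order 2688.
-/

set_option autoImplicit false
set_option linter.style.haveILetI false

namespace CfsgLib.M23Order

open Cfsg CfsgLib.Chars CfsgLib.CharApps

universe u

/-- Piece G. -/
theorem invol : InvolStmt.{u} := by
  intro G _ _ hs hG h23 h11 Ch
  classical
  haveI := hs
  haveI := Fintype.ofFinite G
  haveI := irrFintype G
  refine ⟨fun t ht => (invol_column hG h23 h11 Ch ht).1, fun t s ht hs' => ?_,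
    fun t ht => (invol_column hG h23 h11 Ch ht).2⟩
  by_contra hne
  have h := second_orthogonality (G := G) t s
  rw [if_neg (fun hc => hne hc.symm), ← Equiv.sum_comp Ch.c] at h
  simp only [(invol_column hG h23 h11 Ch ht).2, (invol_column hG h23 h11 Ch hs').2, map_intCast]
    at h
  simp [sum_seventeen, colT] at h
  norm_num at h

end CfsgLib.M23Order
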