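import Mathlib.Tactic

/-!
# Simple groups of order 10200960: the searches for the column at an involution

The order `C` of the centralizer is an even divisor of `40320`.  The values are multiples of a
number given by the integrality of the central character, are congruent to the degree modulo four
and have squares at most `C`.
-/

set_option autoImplicit false

namespace CfsgLib.M23Order.InvolArith

/-- The possible orders of the centralizer, with their integral square roots. -/
def table : List (ℕ × ℕ) :=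
  [(2, 1), (4, 2), (6, 2), (8, 2), (10, 3), (12, 3), (14, 3), (16, 4), (18, 4), (20, 4), (24, 4),
    (28, 5), (30, 5), (32, 5), (36, 6), (40, 6), (42, 6), (48, 6), (56, 7), (60, 7), (64, 8),
    (70, 8), (72, 8), (80, 8), (84, 9), (90, 9), (96, 9), (112, 10), (120, 10), (126, 11),
    (128, 11), (140, 11), (144, 12), (160, 12), (168, 12), (180, 13), (192, 13), (210, 14),
    (224, 14), (240, 15), (252, 15), (280, 16), (288, 16), (320, 17), (336, 18), (360, 18),
    (384, 19), (420, 20), (448, 21), (480, 21), (504, 22), (560, 23), (576, 24), (630, 25),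
    (640, 25), (672, 25), (720, 26), (840, 28), (896, 29), (960, 30), (1008, 31), (1120, 33),
    (1152, 33), (1260, 35), (1344, 36), (1440, 37), (1680, 40), (1920, 43), (2016, 44),
    (2240, 47), (2520, 50), (2688, 51), (2880, 53), (3360, 57), (4032, 63), (4480, 66),
    (5040, 70), (5760, 75), (6720, 81), (8064, 89), (10080, 100), (13440, 115), (20160, 141),
    (40320, 200)]

/-- The number dividing the values of a character of degree `d`. -/
def step (d C : ℕ) : ℕ := d / Nat.gcd d (10200960 / C)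

/-- The possible values of a character of degree `d`. -/
def cand (d C b : ℕ) : List ℤ :=
  ((List.range (2 * (b / step d C) + 1)).map fun k : ℕ =>
      ((k : ℤ) - ((b / step d C : ℕ) : ℤ)) * (step d C : ℤ)).filter
    fun v => decide ((v - (d : ℤ)) % 4 = 0)

/-- The conditions on one value. -/
structure Val (d C : ℕ) (v : ℤ) : Prop where
  dvd : (d : ℤ) ∣ ((10200960 / C : ℕ) : ℤ) * v
  four : (4 : ℤ) ∣ (d : ℤ) - v
  sq : v * v ≤ (C : ℤ)

theorem mem_cand {d C b : ℕ} {v : ℤ} (hd : 0 < d) (h : Val d C v) (hb : C < (b + 1) ^ 2) :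
    v ∈ cand d C b := by
  have hg : 0 < Nat.gcd d (10200960 / C) := Nat.gcd_pos_of_pos_left _ hd
  have hm : step d C ∣ v.natAbs := by
    have h1 : d ∣ (10200960 / C) * v.natAbs := by
      have := Int.natAbs_dvd_natAbs.2 h.dvd
      rwa [Int.natAbs_natCast, Int.natAbs_mul, Int.natAbs_natCast] at this
    rw [step, Nat.div_dvd_iff_dvd_mul (Nat.gcd_dvd_left _ _) hg]
    exact Nat.dvd_gcd_mul_iff_dvd_mul.2 h1
  have hs : 0 < step d C := Nat.div_pos (Nat.gcd_le_left _ hd) hg
  obtain ⟨q, hq⟩ := Int.natCast_dvd.2 hm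
  have hvb : v.natAbs ≤ b := by
    have h2 : v.natAbs * v.natAbs ≤ C := by
      have h2 := h.sq
      rw [← Int.natAbs_mul_self] at h2
      exact_mod_cast h2
    nlinarith
  have hqn : q.natAbs ≤ b / step d C := by
    rw [Nat.le_div_iff_mul_le hs]
    rw [hq, Int.natAbs_mul, Int.natAbs_natCast] at hvb
    linarith
  refine List.mem_filter.2 ⟨List.mem_map.2 ⟨(q + ((b / step d C : ℕ) : ℤ)).toNat,
    List.mem_range.2 (by omega), ?_⟩, ?_⟩
  · rw [Int.toNat_of_nonneg (by omega), hq]
    ring
  · have := h.four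
    simp only [decide_eq_true_eq]
    omega

/-- The search for the pair of degree 896. -/
def checkPair : Bool :=
  table.all fun p => (cand 896 p.1 p.2).all fun v =>
    decide (v = 0) || decide ((p.1 : ℤ) < 2 * (v * v)) || !decide (1035 * (v * v) % 448 = 0)

/-- The values of the characters of degree 45 and 1035 that pass the first test. -/
def survivors : List (ℕ × ℕ × ℤ × ℤ × ℤ) :=
  [(896, 29, -3, 5, 19), (1344, 36, -3, -3, 27), (2688, 51, -3, -3, 27)]

/-- The first test. -/
def checkFirst : Bool :=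
  table.all fun p =>
    (cand 45 p.1 p.2).all fun v2 => (cand 45 p.1 p.2).all fun v3 =>
      decide (v3 < v2) || (cand 1035 p.1 p.2).all fun v15 =>
        let v4 := 1 + v2 + v3 + v15
        !decide (2070 + 46 * (v2 * v2 + v3 * v3) - 9 * (v4 * v4) + 2 * (v15 * v15) = 0) ||
        !decide (1 + v2 * v2 + v3 * v3 + v4 * v4 + v15 * v15 ≤ (p.1 : ℤ)) ||
        !((cand 230 p.1 p.2).elem v4) || decide ((p.1, p.2, v2, v3, v15) ∈ survivors)

/-- The second test, for one value of `v1`. -/
def checkSecond (C b : ℕ) (v2 v3 v15 v1 : ℤ) : Bool :=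
  (cand 990 C b).all fun v13 => (cand 990 C b).all fun v14 => decide (v14 < v13) ||
    (cand 231 C b).all fun v5 => (cand 231 C b).all fun v6 => (cand 231 C b).all fun v7 =>
      decide (v7 < v6) ||
        let v9 := 1 - v1 - v2 - v3 + v5 + v6 + v7 + v13 + v14
        !decide (6930 - 315 * (v1 * v1) - 154 * (v2 * v2 + v3 * v3) +
            30 * (v5 * v5 + v6 * v6 + v7 * v7) - 9 * (v9 * v9) +
            7 * (v13 * v13 + v14 * v14) = 0) ||
          let v16 := 1 + v5
          let v4 := 1 + v2 + v3 + v15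
          let r := 1 + 22 * v1 + 45 * (v2 + v3) + 230 * v4 + 231 * (v5 + v6 + v7) +
            1540 * v9 + 990 * (v13 + v14) + 1035 * v15 + 2024 * v16
          !decide (r % 253 = 0) ||
            let v8 := -r / 253
            !decide (1 + v1 * v1 + v2 * v2 + v3 * v3 + v4 * v4 + v5 * v5 + v6 * v6 +
                v7 * v7 + v8 * v8 + 2 * (v9 * v9) + v13 * v13 + v14 * v14 + v15 * v15 +
                v16 * v16 = (C : ℤ)) ||
              decide ([(C : ℤ), v1, v2, v3, v4, v5, v6, v7, v8, v9, v13, v14, v15, v16] =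
                [2688, 6, -3, -3, 22, 7, 7, 7, 13, -14, -18, -18, 27, 8])

theorem table_fine : ∀ p ∈ table, p.1 < (p.2 + 1) ^ 2 := by decide +kernel

theorem exists_table {C : ℕ} (hC : C ∣ 40320) (h2 : 2 ∣ C) : ∃ b, (C, b) ∈ table := by
  obtain ⟨a, c, ha, hc, rfl⟩ := Nat.dvd_mul.1 (show C ∣ 128 * 315 from hC)
  have key : ∀ x ∈ (List.range 129).filter (fun x => decide (x ∣ 128)),
      ∀ y ∈ (List.range 316).filter (fun y => decide (y ∣ 315)),
        2 ∣ x * y → (table.any fun p => p.1 == x * y) = true := by decide +kernel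
  have h := key a (List.mem_filter.2 ⟨List.mem_range.2 (by
      have := Nat.le_of_dvd (by norm_num) ha; omega), by simpa using ha⟩) c
    (List.mem_filter.2 ⟨List.mem_range.2 (by
      have := Nat.le_of_dvd (by norm_num) hc; omega), by simpa using hc⟩) h2
  obtain ⟨⟨C', b⟩, hp, he⟩ := List.any_eq_true.1 h
  simp only [beq_iff_eq] at he
  exact ⟨b, he ▸ hp⟩

set_option maxRecDepth 100000 in
theorem checkPair_ok : checkPair = true := by decide +kernel

set_option maxRecDepth 100000 in
theorem checkFirst_ok : checkFirst = true := by decide +kernel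

set_option maxRecDepth 100000 in
theorem check896 : ((cand 22 896 29).all (checkSecond 896 29 (-3) 5 19)) = true := by
  decide +kernel

set_option maxRecDepth 100000 in
theorem check1344 : ((cand 22 1344 36).all (checkSecond 1344 36 (-3) (-3) 27)) = true := by
  decide +kernel

set_option maxRecDepth 100000 in
theorem check2688_0 : ((((cand 22 2688 51).drop 0).take 7).all (checkSecond 2688 51 (-3) (-3) 27)) = true := by
  decide +kernel

set_option maxRecDepth 100000 in
theorem check2688_1 : ((((cand 22 2688 51).drop 7).take 7).all (checkSecond 2688 51 (-3) (-3) 27)) = true := by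
  decide +kernel

set_option maxRecDepth 100000 in
theorem check2688_2 : ((((cand 22 2688 51).drop 14).take 7).all (checkSecond 2688 51 (-3) (-3) 27)) = true := by
  decide +kernel

set_option maxRecDepth 100000 in
theorem check2688_3 : ((((cand 22 2688 51).drop 21).take 7).all (checkSecond 2688 51 (-3) (-3) 27)) = true := by
  decide +kernel

theorem check2688 {v : ℤ} (h : v ∈ cand 22 2688 51) :
    checkSecond 2688 51 (-3) (-3) 27 v = true := by
  have hl : cand 22 2688 51 = ((cand 22 2688 51).drop 0).take 7 ++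
      (((cand 22 2688 51).drop 7).take 7 ++ (((cand 22 2688 51).drop 14).take 7 ++
        ((cand 22 2688 51).drop 21).take 7)) := by decide +kernel
  rw [hl] at h
  simp only [List.mem_append] at h
  rcases h with h | h | h | h
  · exact List.all_eq_true.1 check2688_0 _ h
  · exact List.all_eq_true.1 check2688_1 _ h
  · exact List.all_eq_true.1 check2688_2 _ h
  · exact List.all_eq_true.1 check2688_3 _ h

theorem pair_zero {C : ℕ} {v : ℤ} (hC : C ∣ 40320) (h2 : 2 ∣ C) (h : Val 896 C v)
    (hle : 2 * (v * v) ≤ (C : ℤ)) (hd : (448 : ℤ) ∣ 1035 * (v * v)) : v = 0 := by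
  obtain ⟨b, hb⟩ := exists_table hC h2
  have h' := checkPair_ok
  simp only [checkPair, List.all_eq_true] at h'
  have h' := h' _ hb v (mem_cand (by norm_num) h (table_fine _ hb))
  simp only [Bool.or_eq_true, decide_eq_true_eq, Bool.not_eq_true', decide_eq_false_iff_not]
    at h'
  omega

theorem column {C : ℕ} {v1 v2 v3 v4 v5 v6 v7 v8 v9 v13 v14 v15 v16 : ℤ} (hC : C ∣ 40320)
    (h2 : 2 ∣ C) (m1 : Val 22 C v1) (m2 : Val 45 C v2) (m3 : Val 45 C v3) (m4 : Val 230 C v4)
    (m5 : Val 231 C v5) (m6 : Val 231 C v6) (m7 : Val 231 C v7) (m13 : Val 990 C v13)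
    (m14 : Val 990 C v14) (m15 : Val 1035 C v15) (o23 : v2 ≤ v3) (o67 : v6 ≤ v7)
    (o134 : v13 ≤ v14)
    (e4 : v4 = 1 + v2 + v3 + v15)
    (e9 : v9 = 1 - v1 - v2 - v3 + v5 + v6 + v7 + v13 + v14) (e16 : v16 = 1 + v5)
    (a11 : 2070 + 46 * (v2 * v2 + v3 * v3) - 9 * (v4 * v4) + 2 * (v15 * v15) = 0)
    (a23 : 6930 - 315 * (v1 * v1) - 154 * (v2 * v2 + v3 * v3) +
      30 * (v5 * v5 + v6 * v6 + v7 * v7) - 9 * (v9 * v9) + 7 * (v13 * v13 + v14 * v14) = 0)
    (hdeg : 1 + 22 * v1 + 45 * (v2 + v3) + 230 * v4 + 231 * (v5 + v6 + v7) + 253 * v8 +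
      1540 * v9 + 990 * (v13 + v14) + 1035 * v15 + 2024 * v16 = 0)
    (hn : 1 + v1 * v1 + v2 * v2 + v3 * v3 + v4 * v4 + v5 * v5 + v6 * v6 + v7 * v7 + v8 * v8 +
      2 * (v9 * v9) + v13 * v13 + v14 * v14 + v15 * v15 + v16 * v16 = (C : ℤ)) :
    [(C : ℤ), v1, v2, v3, v4, v5, v6, v7, v8, v9, v13, v14, v15, v16] =
      [2688, 6, -3, -3, 22, 7, 7, 7, 13, -14, -18, -18, 27, 8] := by
  obtain ⟨b, hb⟩ := exists_table hC h2
  have hf := table_fine _ hb
  have hle : 1 + v2 * v2 + v3 * v3 + v4 * v4 + v15 * v15 ≤ (C : ℤ) := by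
    nlinarith [mul_self_nonneg v1, mul_self_nonneg v5, mul_self_nonneg v6, mul_self_nonneg v7,
      mul_self_nonneg v8, mul_self_nonneg v9, mul_self_nonneg v13, mul_self_nonneg v14,
      mul_self_nonneg v16]
  have h4 : (cand 230 C b).elem v4 = true := List.elem_iff.2 (mem_cand (by norm_num) m4 hf)
  subst e4 e9 e16
  have h := checkFirst_ok
  simp only [checkFirst, List.all_eq_true] at h
  have h := h _ hb v2 (mem_cand (by norm_num) m2 hf) v3 (mem_cand (by norm_num) m3 hf)
  simp only [not_lt.2 o23, decide_false, Bool.false_or, List.all_eq_true] at h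
  have h := h v15 (mem_cand (by norm_num) m15 hf)
  simp only [a11, hle, h4, decide_true, Bool.not_true, Bool.false_or, decide_eq_true_eq] at h
  have k : checkSecond C b v2 v3 v15 v1 = true := by
    have hm := mem_cand (by norm_num) m1 hf
    simp only [survivors, List.mem_cons, List.not_mem_nil, or_false, Prod.mk.injEq] at h
    rcases h with ⟨rfl, rfl, rfl, rfl, rfl⟩ | ⟨rfl, rfl, rfl, rfl, rfl⟩ | ⟨rfl, rfl, rfl, rfl, rfl⟩
    · exact List.all_eq_true.1 check896 _ hm
    · exact List.all_eq_true.1 check1344 _ hm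
    · exact check2688 hm
  simp only [checkSecond, List.all_eq_true] at k
  have k := k v13 (mem_cand (by norm_num) m13 hf) v14 (mem_cand (by norm_num) m14 hf)
  simp only [not_lt.2 o134, decide_false, Bool.false_or, List.all_eq_true] at k
  have k := k v5 (mem_cand (by norm_num) m5 hf) v6 (mem_cand (by norm_num) m6 hf)
    v7 (mem_cand (by norm_num) m7 hf)
  have hr : (1 + 22 * v1 + 45 * (v2 + v3) + 230 * (1 + v2 + v3 + v15) + 231 * (v5 + v6 + v7) +
      1540 * (1 - v1 - v2 - v3 + v5 + v6 + v7 + v13 + v14) + 990 * (v13 + v14) + 1035 * v15 +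
      2024 * (1 + v5)) % 253 = 0 := by omega
  have hv : -(1 + 22 * v1 + 45 * (v2 + v3) + 230 * (1 + v2 + v3 + v15) + 231 * (v5 + v6 + v7) +
      1540 * (1 - v1 - v2 - v3 + v5 + v6 + v7 + v13 + v14) + 990 * (v13 + v14) + 1035 * v15 +
      2024 * (1 + v5)) / 253 = v8 := by omega
  simp only [not_lt.2 o67, a23, hr, hv, hn, decide_false, decide_true, Bool.not_true,
    Bool.false_or, decide_eq_true_eq] at k
  exact k


/-- The same, without the orderings. -/
theorem column_any {C : ℕ} {v1 v2 v3 v4 v5 v6 v7 v8 v9 v13 v14 v15 v16 : ℤ} (hC : C ∣ 40320)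
    (h2 : 2 ∣ C) (m1 : Val 22 C v1) (m2 : Val 45 C v2) (m3 : Val 45 C v3) (m4 : Val 230 C v4)
    (m5 : Val 231 C v5) (m6 : Val 231 C v6) (m7 : Val 231 C v7) (m13 : Val 990 C v13)
    (m14 : Val 990 C v14) (m15 : Val 1035 C v15)
    (e4 : v4 = 1 + v2 + v3 + v15)
    (e9 : v9 = 1 - v1 - v2 - v3 + v5 + v6 + v7 + v13 + v14) (e16 : v16 = 1 + v5)
    (a11 : 2070 + 46 * (v2 * v2 + v3 * v3) - 9 * (v4 * v4) + 2 * (v15 * v15) = 0)
    (a23 : 6930 - 315 * (v1 * v1) - 154 * (v2 * v2 + v3 * v3) +
      30 * (v5 * v5 + v6 * v6 + v7 * v7) - 9 * (v9 * v9) + 7 * (v13 * v13 + v14 * v14) = 0)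
    (hdeg : 1 + 22 * v1 + 45 * (v2 + v3) + 230 * v4 + 231 * (v5 + v6 + v7) + 253 * v8 +
      1540 * v9 + 990 * (v13 + v14) + 1035 * v15 + 2024 * v16 = 0)
    (hn : 1 + v1 * v1 + v2 * v2 + v3 * v3 + v4 * v4 + v5 * v5 + v6 * v6 + v7 * v7 + v8 * v8 +
      2 * (v9 * v9) + v13 * v13 + v14 * v14 + v15 * v15 + v16 * v16 = (C : ℤ)) :
    [(C : ℤ), v1, v2, v3, v4, v5, v6, v7, v8, v9, v13, v14, v15, v16] =
      [2688, 6, -3, -3, 22, 7, 7, 7, 13, -14, -18, -18, 27, 8] := by
  rcases le_total v2 v3 with o23 | o23 <;> rcases le_total v6 v7 with o67 | o67 <;>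
    rcases le_total v13 v14 with o134 | o134
  · have h := column (v2 := v2) (v3 := v3) (v6 := v6) (v7 := v7)
      (v13 := v13) (v14 := v14) (v4 := v4) (v8 := v8) (v9 := v9) (v16 := v16) hC h2
      m1 m2 m3 m4 m5 m6 m7 m13 m14 m15
      o23 o67 o134 (by linarith) (by linarith) e16 (by linarith) (by linarith) (by linarith)
      (by linarith)
    simp only [List.cons.injEq, and_true] at h ⊢
    omega
  · have h := column (v2 := v2) (v3 := v3) (v6 := v6) (v7 := v7)
      (v13 := v14) (v14 := v13) (v4 := v4) (v8 := v8) (v9 := v9) (v16 := v16) hC h2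
      m1 m2 m3 m4 m5 m6 m7 m14 m13 m15
      o23 o67 o134 (by linarith) (by linarith) e16 (by linarith) (by linarith) (by linarith)
      (by linarith)
    simp only [List.cons.injEq, and_true] at h ⊢
    omega
  · have h := column (v2 := v2) (v3 := v3) (v6 := v7) (v7 := v6)
      (v13 := v13) (v14 := v14) (v4 := v4) (v8 := v8) (v9 := v9) (v16 := v16) hC h2
      m1 m2 m3 m4 m5 m7 m6 m13 m14 m15
      o23 o67 o134 (by linarith) (by linarith) e16 (by linarith) (by linarith) (by linarith)
      (by linarith)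
    simp only [List.cons.injEq, and_true] at h ⊢
    omega
  · have h := column (v2 := v2) (v3 := v3) (v6 := v7) (v7 := v6)
      (v13 := v14) (v14 := v13) (v4 := v4) (v8 := v8) (v9 := v9) (v16 := v16) hC h2
      m1 m2 m3 m4 m5 m7 m6 m14 m13 m15
      o23 o67 o134 (by linarith) (by linarith) e16 (by linarith) (by linarith) (by linarith)
      (by linarith)
    simp only [List.cons.injEq, and_true] at h ⊢
    omega
  · have h := column (v2 := v3) (v3 := v2) (v6 := v6) (v7 := v7)
      (v13 := v13) (v14 := v14) (v4 := v4) (v8 := v8) (v9 := v9) (v16 := v16) hC h2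
      m1 m3 m2 m4 m5 m6 m7 m13 m14 m15
      o23 o67 o134 (by linarith) (by linarith) e16 (by linarith) (by linarith) (by linarith)
      (by linarith)
    simp only [List.cons.injEq, and_true] at h ⊢
    omega
  · have h := column (v2 := v3) (v3 := v2) (v6 := v6) (v7 := v7)
      (v13 := v14) (v14 := v13) (v4 := v4) (v8 := v8) (v9 := v9) (v16 := v16) hC h2
      m1 m3 m2 m4 m5 m6 m7 m14 m13 m15
      o23 o67 o134 (by linarith) (by linarith) e16 (by linarith) (by linarith) (by linarith)
      (by linarith)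
    simp only [List.cons.injEq, and_true] at h ⊢
    omega
  · have h := column (v2 := v3) (v3 := v2) (v6 := v7) (v7 := v6)
      (v13 := v13) (v14 := v14) (v4 := v4) (v8 := v8) (v9 := v9) (v16 := v16) hC h2
      m1 m3 m2 m4 m5 m7 m6 m13 m14 m15
      o23 o67 o134 (by linarith) (by linarith) e16 (by linarith) (by linarith) (by linarith)
      (by linarith)
    simp only [List.cons.injEq, and_true] at h ⊢
    omega
  · have h := column (v2 := v3) (v3 := v2) (v6 := v7) (v7 := v6)
      (v13 := v14) (v14 := v13) (v4 := v4) (v8 := v8) (v9 := v9) (v16 := v16) hC h2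
      m1 m3 m2 m4 m5 m7 m6 m14 m13 m15
      o23 o67 o134 (by linarith) (by linarith) e16 (by linarith) (by linarith) (by linarith)
      (by linarith)
    simp only [List.cons.injEq, and_true] at h ⊢
    omega

end CfsgLib.M23Order.InvolArith
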