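import Cfsg.Agent.Lib.M23Order.Interface
import Cfsg.Agent.Lib.M23Order.InvolArith
import Cfsg.Agent.Lib.M12Order.Tools
import Cfsg.Agent.Lib.CharApps.PrimeClassBound

/-!
# Simple groups of order 10200960: the facts about a column at an involution

The values follow the block relations, the sums of orthogonality, the congruence modulo four, the
integrality of the central characters and the relations saying that no involution inverts an
element of order twenty-three or eleven.
-/

set_option autoImplicit false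
set_option linter.style.haveILetI false
set_option linter.unusedSectionVars false

namespace CfsgLib.M23Order

open Cfsg CfsgLib.Chars CfsgLib.CharApps CfsgLib.Small InvolArith

universe u

variable {G : Type u} [Group G] [Finite G]

namespace InvolCol

/-- An element of odd order `p` with normalizer of odd order is inverted by no involution. -/
theorem not_inverted {p c n : ℕ} [Fact p.Prime] (hG : (Nat.card G).factorization p = 1)
    (hn : Odd n) (h : Local G p c n) {x u : G} (hx : orderOf x = p) (hu : u * u = 1)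
    (hux : u * x * u⁻¹ = x⁻¹) : u = 1 := by
  let P : Sylow p G := Sylow.ofCard (Subgroup.zpowers x) (by
    rw [Nat.card_zpowers, hx, hG, pow_one])
  have hN := h.norm P
  have hPz : (P : Subgroup G) = Subgroup.zpowers x := Sylow.coe_ofCard _ _
  rw [hPz] at hN
  have hmap : ∀ y ∈ Subgroup.zpowers x, u * y * u⁻¹ ∈ Subgroup.zpowers x := fun y hy => by
    obtain ⟨k, rfl⟩ := Subgroup.mem_zpowers_iff.1 hy
    rw [← conj_zpow, hux]
    exact Subgroup.zpow_mem _ (Subgroup.inv_mem _ (Subgroup.mem_zpowers x)) k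
  have hmem : u ∈ Subgroup.normalizer ((Subgroup.zpowers x : Subgroup G) : Set G) := by
    rw [Subgroup.mem_normalizer_iff]
    refine fun y => ⟨hmap y, fun hy => ?_⟩
    have h := hmap _ hy
    rw [inv_eq_of_mul_eq_one_left hu] at h
    simpa [mul_assoc, hu, ← mul_assoc u u] using h
  have h1 := Subgroup.orderOf_dvd_natCard _ hmem
  rw [hN] at h1
  have h2 : orderOf u ∣ 2 := orderOf_dvd_of_pow_eq_one (by rw [sq, hu])
  exact orderOf_eq_one_iff.1
    (Nat.eq_one_of_dvd_coprimes (Nat.coprime_two_right.2 hn) h1 h2)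

/-- The class sum at an element that no conjugate of the involution `t` inverts. -/
theorem class_sum_eq_zero {p c n : ℕ} [Fact p.Prime] (hG : (Nat.card G).factorization p = 1)
    (hn : Odd n) (h : Local G p c n) [Fintype (IrrCharacter G)] {t x : G} (ht : t * t = 1)
    (ht1 : t ≠ 1) (hx : orderOf x = p) :
    ∑ χ : IrrCharacter G, (χ : G → ℂ) t * (χ : G → ℂ) t * (χ : G → ℂ) x / (χ : G → ℂ) 1 = 0 := by
  haveI := Fintype.ofFinite G
  have hz : Nat.card {ab : G × G // (ab.1 * t * ab.1⁻¹) * (ab.2 * t * ab.2⁻¹) = x⁻¹} = 0 := by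
    refine @Nat.card_of_isEmpty _ ⟨fun ⟨⟨a, b⟩, hab⟩ => ?_⟩
    have h1 : (a * t * a⁻¹) * (a * t * a⁻¹) = 1 := by
      rw [← sq, conj_pow, sq, ht, mul_one, mul_inv_cancel]
    have h2 : (b * t * b⁻¹) * (b * t * b⁻¹) = 1 := by
      rw [← sq, conj_pow, sq, ht, mul_one, mul_inv_cancel]
    have hu := not_inverted hG hn h (x := x⁻¹) (u := a * t * a⁻¹)
      (by rw [orderOf_inv, hx]) h1 ?_
    · exact ht1 (conj_eq_one_iff.1 hu)
    · simp only at hab
      generalize a * t * a⁻¹ = u at hab h1 ⊢
      generalize b * t * b⁻¹ = u' at hab h2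
      rw [← hab, mul_inv_rev u u', inv_eq_of_mul_eq_one_left h2, inv_eq_of_mul_eq_one_left h1,
        ← mul_assoc, h1, one_mul]
  have h' := card_conj_mul_conj t t x⁻¹
  rw [hz, inv_inv, Nat.cast_zero, eq_comm, mul_eq_zero] at h'
  exact h'.resolve_left (Nat.cast_ne_zero.2 Nat.card_pos.ne')

/-- The class sum in terms of the signs of a block with two exceptional characters. -/
theorem signed_sum_eq_zero (Ch : Chars G) [Fintype (IrrCharacter G)] {t x : G} (v : Fin 17 → ℤ)
    (hv : ∀ i, (v i : ℂ) = (Ch.c i : G → ℂ) t) (r : Fin 17 → ℤ) {a b : Fin 17} (hab : a ≠ b)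
    (hd : degs a = degs b) (ha : r a = -1) (hb : r b = 0) (hvv : v a = v b)
    (hout : ∀ i, i ≠ a → i ≠ b → (Ch.c i : G → ℂ) x = (r i : ℂ))
    (hpair : (Ch.c a : G → ℂ) x + (Ch.c b : G → ℂ) x = -1)
    (h : ∑ χ : IrrCharacter G, (χ : G → ℂ) t * (χ : G → ℂ) t * (χ : G → ℂ) x / (χ : G → ℂ) 1 = 0) :
    ∑ i, (r i : ℂ) * ((v i : ℂ) * (v i : ℂ) / (degs i : ℂ)) = 0 := by
  rw [← Equiv.sum_comp Ch.c] at h
  rw [← h, ← sub_eq_zero, ← Finset.sum_sub_distrib]
  simp only [← hv, deg_eq, Ch.deg]
  rw [← Finset.sum_subset (s₁ := {a, b}) (Finset.subset_univ _) fun i _ hi => by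
      simp only [Finset.mem_insert, Finset.mem_singleton, not_or] at hi
      rw [hout i hi.1 hi.2]; ring,
    Finset.sum_pair hab, ha, hb, hvv, hd]
  simp only [Int.cast_neg, Int.cast_one, Int.cast_zero]
  linear_combination (-((v b : ℂ) * (v b : ℂ) / (degs b : ℂ))) * hpair

end InvolCol

open InvolCol

/-- A sum over the seventeen characters. -/
theorem sum_seventeen {M : Type} [AddCommMonoid M] (f : Fin 17 → M) :
    ∑ i, f i = f 0 + f 1 + f 2 + f 3 + f 4 + f 5 + f 6 + f 7 + f 8 + f 9 + f 10 + f 11 + f 12 +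
      f 13 + f 14 + f 15 + f 16 := by
  simp [Fin.sum_univ_succ, add_assoc]

/-- The column at an involution. -/
theorem invol_column [IsSimpleGroup G] (hG : Nat.card G = 10200960) (h23 : LocalTwentyThree G)
    (h11 : LocalEleven G) (Ch : Chars G) {t : G} (ht : orderOf t = 2) :
    Nat.card (cen t) = 2688 ∧ ∀ i, (Ch.c i : G → ℂ) t = (colT i : ℂ) := by
  classical
  haveI := Fintype.ofFinite G
  haveI := irrFintype G
  have htt : t * t = 1 := by rw [← sq, ← ht, pow_orderOf_eq_one]
  have ht1 : t ≠ 1 := fun h => by rw [h, orderOf_one] at ht; omega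
  choose v hv using fun i => exists_int_apply_involution htt (Ch.c i)
  have hperf : commutator G = ⊤ :=
    commutator_eq_top (not_isMulCommutative_of_card (by rw [hG]; norm_num))
  -- the centralizer
  set C := Nat.card (cen t) with hCdef
  have h2C : 2 ∣ C := by
    have htC : t ∈ cen t := Subgroup.mem_centralizer_singleton_iff.2 rfl
    exact ht ▸ Subgroup.orderOf_dvd_natCard _ htC
  have hco : ∀ p c n, p.Prime → Local G p c n → Odd c → C.Coprime p := fun p c n hpp hloc hc => by
    haveI := Fact.mk hpp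
    refine ((hpp.coprime_iff_not_dvd).2 fun h => ?_).symm
    obtain ⟨⟨x, hxC⟩, hxo⟩ := exists_prime_orderOf_dvd_card' (G := cen t) p h
    rw [Subgroup.orderOf_mk] at hxo
    have htC : t ∈ cen x :=
      Subgroup.mem_centralizer_singleton_iff.2 (Subgroup.mem_centralizer_singleton_iff.1 hxC).symm
    have h1 := Subgroup.orderOf_dvd_natCard _ htC
    rw [ht, hloc.cent x hxo] at h1
    exact Nat.not_even_iff_odd.2 hc (even_iff_two_dvd.2 h1)
  have hC : C ∣ 40320 :=
    ((hco 23 23 253 (by norm_num) h23 (by decide)).mul_right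
        (hco 11 11 55 (by norm_num) h11 (by decide))).dvd_of_dvd_mul_left
      (show C ∣ 23 * 11 * 40320 by
        have := hG ▸ Subgroup.card_subgroup_dvd_card (cen t)
        norm_num
        exact this)
  have hidx : (cen t).index = 10200960 / C := by
    rw [← hG, ← Subgroup.card_mul_index (cen t), Nat.mul_div_cancel_left _ Nat.card_pos]
  -- the sums
  have hfac : ∀ p, p = 23 ∨ p = 11 → (Nat.card G).factorization p = 1 := fun p hp => by
    rw [hG]
    have h2 : ∀ q, q.Prime → q ∣ 10200960 → ¬ q ^ 2 ∣ 10200960 →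
        (10200960 : ℕ).factorization q = 1 := fun q hq hd hsq => by
      have h1 := (hq.dvd_iff_one_le_factorization (by norm_num)).1 hd
      have h3 : ¬ 2 ≤ (10200960 : ℕ).factorization q := fun h =>
        hsq ((hq.pow_dvd_iff_le_factorization (by norm_num)).2 h)
      omega
    rcases hp with rfl | rfl <;> exact h2 _ (by norm_num) (by norm_num) (by norm_num)
  obtain ⟨e910', r23'⟩ := Ch.rel23 t (by rw [ht]; norm_num)
  obtain ⟨e1112', r11'⟩ := Ch.rel11 t (by rw [ht]; norm_num)
  have r5' := Ch.rel5 t (by rw [ht]; norm_num)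
  simp only [← hv] at e910' r23' e1112' r11' r5'
  have e910 : v 9 = v 10 := by exact_mod_cast e910'
  have e1112 : v 11 = v 12 := by exact_mod_cast e1112'
  have r23i : ∑ i, r23 i * v i = 0 := by exact_mod_cast r23'
  have r11i : ∑ i, r11 i * v i = 0 := by exact_mod_cast r11'
  have r5i : ∑ i, r5 i * v i = 0 := by exact_mod_cast r5'
  have v0 : v 0 = 1 := by
    have h := hv 0
    rw [Ch.principal, principal_apply] at h
    exact_mod_cast h
  have hnorm : ∑ i, v i * v i = (C : ℤ) := by
    have h := second_orthogonality (G := G) t t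
    rw [if_pos (IsConj.refl t), ← Equiv.sum_comp Ch.c] at h
    simp only [← hv, map_intCast] at h
    exact_mod_cast h
  have hdeg : ∑ i, (degs i : ℤ) * v i = 0 := by
    have h := sum_degree_mul (G := G) t
    rw [if_neg ht1, ← Equiv.sum_comp Ch.c] at h
    simp only [deg_eq, Ch.deg, ← hv] at h
    exact_mod_cast h
  have hval : ∀ i, InvolArith.Val (degs i) C (v i) := fun i => by
    refine ⟨?_, ?_, ?_⟩
    · have h := M12Order.dvd_index_mul (Ch.c i) (hv i)
      rw [Ch.deg, hidx] at h
      exact h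
    · have h := four_dvd_degree_sub hperf (Ch.c i) htt (hv i)
      rwa [Ch.deg] at h
    · exact hnorm ▸ Finset.single_le_sum (f := fun j => v j * v j)
        (fun j _ => mul_self_nonneg _) (Finset.mem_univ i)
  -- no involution inverts an element of order twenty-three or eleven
  have q23 : 224 * (6930 - 315 * (v 1 * v 1) - 154 * (v 2 * v 2 + v 3 * v 3) +
      30 * (v 5 * v 5 + v 6 * v 6 + v 7 * v 7) - 9 * (v 9 * v 9) +
      7 * (v 13 * v 13 + v 14 * v 14)) - 3465 * (v 11 * v 11) = 0 := by
    haveI : Fact (Nat.Prime 23) := ⟨by norm_num⟩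
    obtain ⟨x, hx⟩ := exists_prime_orderOf_dvd_card' (G := G) 23 (by rw [hG]; norm_num)
    obtain ⟨hout, hpair⟩ := Ch.at23 x hx
    have h := signed_sum_eq_zero Ch v hv r23 (a := 9) (b := 10) (by decide) (by decide)
      (by decide) (by decide) e910 hout hpair
      (class_sum_eq_zero (hfac 23 (Or.inl rfl)) (by decide) h23 htt ht1 hx)
    simp [sum_seventeen, r23, degs, v0, ← e1112] at h
    apply Int.cast_injective (α := ℂ)
    push_cast
    linear_combination (6930 * 224 : ℂ) * h
  have q11 : 448 * (2070 + 46 * (v 2 * v 2 + v 3 * v 3) - 9 * (v 4 * v 4) +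
      2 * (v 15 * v 15)) - 1035 * (v 11 * v 11) = 0 := by
    haveI : Fact (Nat.Prime 11) := ⟨by norm_num⟩
    obtain ⟨x, hx⟩ := exists_prime_orderOf_dvd_card' (G := G) 11 (by rw [hG]; norm_num)
    obtain ⟨hout, hpair⟩ := Ch.at11 x hx
    have h := signed_sum_eq_zero Ch v hv r11 (a := 11) (b := 12) (by decide) (by decide)
      (by decide) (by decide) e1112 hout hpair
      (class_sum_eq_zero (hfac 11 (Or.inr rfl)) (by decide) h11 htt ht1 hx)
    simp [sum_seventeen, r11, degs, v0] at h
    apply Int.cast_injective (α := ℂ)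
    push_cast
    linear_combination (2070 * 448 : ℂ) * h
  -- the column
  simp [sum_seventeen, r23, v0, ← e1112] at r23i
  simp [sum_seventeen, r11, v0] at r11i
  simp [sum_seventeen, r5, v0, ← e1112] at r5i
  simp [sum_seventeen, degs, v0, ← e1112, ← e910] at hdeg
  simp [sum_seventeen, v0, ← e1112, ← e910] at hnorm
  have h11z : v 11 = 0 := by
    refine pair_zero hC h2C (hval 11) ?_ ⟨_, eq_comm.1 (by linarith : 448 *
      (2070 + 46 * (v 2 * v 2 + v 3 * v 3) - 9 * (v 4 * v 4) + 2 * (v 15 * v 15)) =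
        1035 * (v 11 * v 11))⟩
    nlinarith [mul_self_nonneg (v 1), mul_self_nonneg (v 2), mul_self_nonneg (v 3),
      mul_self_nonneg (v 4), mul_self_nonneg (v 5), mul_self_nonneg (v 6), mul_self_nonneg (v 7),
      mul_self_nonneg (v 8), mul_self_nonneg (v 9), mul_self_nonneg (v 13), mul_self_nonneg (v 14),
      mul_self_nonneg (v 15), mul_self_nonneg (v 16)]
  rw [h11z] at r23i r11i r5i hdeg hnorm q23 q11
  have key := column_any (v8 := v 8) hC h2C (hval 1) (hval 2) (hval 3) (hval 4) (hval 5) (hval 6)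
    (hval 7) (hval 13) (hval 14) (hval 15) (v9 := v 9) (v16 := v 16)
    (by linarith) (by linarith) (by linarith) (by linarith) (by linarith) (by linarith)
    (by linarith)
  simp only [List.cons.injEq, and_true] at key
  obtain ⟨kC, k1, k2, k3, k4, k5, k6, k7, k8, k9, k13, k14, k15, k16⟩ := key
  refine ⟨by exact_mod_cast kC, fun i => ?_⟩
  rw [← hv i]
  congr 1
  fin_cases i <;>
    simp [colT, v0, k1, k2, k3, k4, k5, k6, k7, k8, k9, k13, k14, k15, k16, h11z, ← e1112, ← e910]

end CfsgLib.M23Order
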