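import Cfsg.Agent.Lib.M23Order.JointArith
import Cfsg.Agent.Lib.M23Order.Tables

/-!
# Simple groups of order 10200960: the three blocks together (piece D of `tools/S1664_plan.md`)

The two degrees `896` of the block at five are the exceptional degrees at eleven, which leaves
two lists there; the block at twenty-three then contains `45, 45, 231, 896, 896`, and the sum of
the squares of the known degrees leaves the ten lists of `lists23`.
-/

set_option autoImplicit false
set_option linter.style.haveILetI false
set_option linter.unusedSectionVars false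

open Cfsg CfsgLib.Chars CfsgLib.CharApps CfsgLib.Blocks CfsgLib.Small

namespace CfsgLib.M23Order.Joint

universe u

variable {G : Type u} [Group G] [Finite G]

/-- The degree. -/
local notation "deg" χ:max => charDegree ((χ : IrrCharacter G) : G → ℂ)

/-- The degrees of a table, the two exceptional ones last. -/
noncomputable def degList {p n : ℕ} (T : Table G p n) : List ℕ :=
  List.ofFn fun k => deg (Fin.append T.a T.θ k)

theorem degList_eq {p n : ℕ} (T : Table G p n) :
    degList T = List.ofFn T.list.1 ++ [T.list.2, T.list.2] := by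
  have h : (fun k => deg (Fin.append T.a T.θ k)) =
      Fin.append T.list.1 ![T.list.2, T.list.2] := by
    funext k
    refine Fin.addCases (fun i => ?_) (fun j => ?_) k
    · simp [Table.list]
    · fin_cases j <;> simp [Table.list, T.deg_θ]
  rw [degList, h, List.ofFn_fin_append]
  simp

/-- The signed degree of a non-exceptional character. -/
theorem a_mod {p n : ℕ} (T : Table G p n) (hp : 2 < p) (i : Fin n) :
    (deg (T.a i) % p = 1 ∧ T.sgn i = 1) ∨ (deg (T.a i) % p = p - 1 ∧ T.sgn i = -1) := by
  obtain ⟨h1, h2⟩ := T.sgn_eq i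
  have hlt := Nat.mod_lt (deg (T.a i)) (show p > 0 by omega)
  have hsplit := Nat.div_add_mod (deg (T.a i)) p
  rcases h1 with h | h <;> rw [h] at h2
  · left
    refine ⟨?_, h⟩
    rw [one_mul] at h2
    exact_mod_cast h2
  · right
    refine ⟨?_, h⟩
    have h3 : (p : ℤ) ∣ (-1 * (deg (T.a i) : ℤ) - 1) :=
      Int.dvd_self_sub_of_emod_eq h2
    rw [show (-1 : ℤ) * (deg (T.a i) : ℤ) - 1 = -((deg (T.a i) + 1 : ℕ) : ℤ) by push_cast; ring,
      dvd_neg, Int.natCast_dvd_natCast] at h3
    obtain ⟨m, hm⟩ := h3
    have : (deg (T.a i) + 1) % p = 0 := by rw [hm]; exact Nat.mul_mod_right _ _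
    rw [Nat.add_mod, Nat.one_mod_eq_one.2 (by omega)] at this
    by_contra hne
    rw [Nat.mod_eq_of_lt (show deg (T.a i) % p + 1 < p by omega)] at this
    omega

/-- The relation at one. -/
theorem total_eq {p n : ℕ} [hp : Fact p.Prime] (h2 : 2 < p) (T : Table G p n) :
    T.ε * (T.list.2 : ℤ) = total p (List.ofFn T.list.1) := by
  have h := T.rel 0 1 (by rw [orderOf_one]; exact hp.out.not_dvd_one)
  simp only [deg_eq] at h
  have h' : T.ε * (T.list.2 : ℤ) = 1 + ∑ i, T.sgn i * (T.list.1 i : ℤ) := by
    simp only [Table.list]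
    exact_mod_cast h
  rw [h', total, List.map_ofFn, List.sum_ofFn]
  refine congrArg (1 + ·) (Finset.sum_congr rfl fun i _ => ?_)
  simp only [Table.list, Function.comp_apply, sgnOf]
  rcases a_mod T h2 i with ⟨h1, h3⟩ | ⟨h1, h3⟩
  · rw [if_pos h1, h3]
  · rw [if_neg (by omega), h3]

theorem theta_eq {p n : ℕ} [hp : Fact p.Prime] (h2 : 2 < p) (T : Table G p n) :
    T.list.2 = (total p (List.ofFn T.list.1)).natAbs := by
  rw [← total_eq h2 T, Int.natAbs_mul, Int.natAbs_natCast]
  rcases T.ε_eq.1 with h | h <;> simp [h]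

theorem theta_mod {p n : ℕ} (T : Table G p n) :
    deg (T.θ 0) % p = (n + 1) % p ∨ (deg (T.θ 0) + (n + 1)) % p = 0 := by
  obtain ⟨h1, h2⟩ := T.ε_eq
  rcases h1 with h | h <;> rw [h] at h2
  · left
    rw [one_mul] at h2
    have h3 : deg (T.θ 0) % p = n + 1 := by exact_mod_cast h2
    conv_rhs => rw [← h3, Nat.mod_mod]
  · right
    have h3 : (p : ℤ) ∣ (-1 * (deg (T.θ 0) : ℤ) - ((n + 1 : ℕ) : ℤ)) :=
      Int.dvd_self_sub_of_emod_eq h2
    rw [show (-1 : ℤ) * (deg (T.θ 0) : ℤ) - ((n + 1 : ℕ) : ℤ) =
      -((deg (T.θ 0) + (n + 1) : ℕ) : ℤ) by push_cast; ring, dvd_neg, Int.natCast_dvd_natCast] at h3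
    exact Nat.mod_eq_zero_of_dvd h3

variable [IsSimpleGroup G] (hG : Nat.card G = 10200960)

include hG

theorem deg_ne_one {χ : IrrCharacter G} (h : χ ≠ principal G) : deg χ ≠ 1 := fun e =>
  h (Tables.eq_principal (not_isMulCommutative_of_card (by rw [hG]; norm_num)) e)

theorem deg_principal : deg (principal G) = 1 := (deg_eq_one_iff (principal G)).mp (principal_apply _)

theorem deg_dvd (χ : IrrCharacter G) : 10200960 % deg χ = 0 := by
  have h := charDegree_dvd_card χ
  rw [hG] at h
  exact Nat.mod_eq_zero_of_dvd h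

theorem sum_sq_le [Fintype (IrrCharacter G)] (s : Finset (IrrCharacter G)) :
    ∑ χ ∈ s, deg χ ^ 2 ≤ 10200960 := by
  rw [← hG, ← sum_degree_sq_nat (G := G)]
  exact Finset.sum_le_univ_sum_of_nonneg fun _ => Nat.zero_le _

theorem deg_lt (χ : IrrCharacter G) : deg χ < 3194 := by
  classical
  haveI := irrFintype G
  have h := sum_sq_le hG {χ, χ}
  simp at h
  nlinarith

/-- Every character of degree prime to `p` is one of the table. -/
theorem count_eq [Fintype (IrrCharacter G)] {p n : ℕ} (T : Table G p n) {d : ℕ} (hd : d ≠ 1)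
    (hpd : ¬ p ∣ d) :
    (degList T).count d = (Finset.univ.filter fun χ : IrrCharacter G => deg χ = d).card := by
  classical
  have h : (degList T).count d =
      (Finset.univ.filter fun k => d = deg (Fin.append T.a T.θ k)).card := by
    rw [degList, ← Multiset.coe_count, ← Fin.univ_val_map, Multiset.count_map]
    rfl
  rw [h]
  refine Finset.card_bij (fun k _ => Fin.append T.a T.θ k) (fun k hk => ?_)
    (fun k _ l _ e => T.inj e) (fun χ hχ => ?_)
  · simpa [eq_comm] using hk
  · rw [Finset.mem_filter] at hχ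
    rcases T.cover χ with h' | ⟨i, h'⟩ | ⟨h', -⟩
    · exact absurd (hχ.2 ▸ h' ▸ deg_principal hG) hd
    · exact ⟨i, by simp [← h', hχ.2], h'.symm⟩
    · exact absurd (hχ.2 ▸ h') hpd

theorem count_eq_count {p q n m : ℕ} (T : Table G p n) (S : Table G q m) {d : ℕ} (hd : d ≠ 1)
    (hpd : ¬ p ∣ d) (hqd : ¬ q ∣ d) : (degList T).count d = (degList S).count d := by
  haveI := irrFintype G
  rw [count_eq hG T hd hpd, count_eq hG S hd hqd]

theorem mem_degList {p n : ℕ} (T : Table G p n) {χ : IrrCharacter G} (h : χ ≠ principal G)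
    (hp : ¬ p ∣ deg χ) : deg χ ∈ degList T := by
  rcases T.cover χ with h' | ⟨i, h'⟩ | ⟨h', -⟩
  · exact absurd h' h
  · rw [degList, List.mem_ofFn]
    exact ⟨i, by rw [← h']⟩
  · exact absurd h' hp

theorem a_ne_principal {p n : ℕ} (T : Table G p n) (i : Fin n) : T.a i ≠ principal G := by
  simpa using T.ne_principal (Fin.castAdd 2 i)

theorem θ_ne_principal {p n : ℕ} (T : Table G p n) (j : Fin 2) : T.θ j ≠ principal G := by
  simpa using T.ne_principal (Fin.natAdd n j)

variable (T : TableTwentyThree G) (S : TableEleven G) (B : FiveBlock G)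

include T S B

theorem eleven_theta : S.list.2 = 896 := by
  have h : deg (B.b 1) = 896 := by rw [B.deg]; rfl
  have hm := mem_degList hG S (B.ne_principal 1) (by rw [h]; norm_num)
  rw [h, degList_eq, List.mem_append, List.mem_ofFn] at hm
  rcases hm with ⟨i, hi⟩ | hm
  · rcases a_mod S (by norm_num) i with ⟨h1, -⟩ | ⟨h1, -⟩ <;>
      · rw [show deg (S.a i) = 896 from hi] at h1
        norm_num at h1
  · simp at hm
    exact hm.symm

theorem twentyThree_mod {d : ℕ} (hd : d ∈ degList T) :
    d % 23 = 1 ∨ d % 23 = 22 ∨ d % 23 = 11 ∨ d % 23 = 12 := by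
  rw [degList_eq, List.mem_append, List.mem_ofFn] at hd
  rcases hd with ⟨i, rfl⟩ | hd
  · rcases a_mod T (by norm_num) i with ⟨h1, -⟩ | ⟨h1, -⟩
    · exact Or.inl h1
    · exact Or.inr (Or.inl h1)
  · have h := theta_mod T
    simp [Table.list] at hd
    subst hd
    omega

theorem eleven_list : List.ofFn S.list.1 = [45, 45, 230, 1035] ∨
    List.ofFn S.list.1 = [45, 45, 483, 1288] := by
  haveI : Fact (Nat.Prime 11) := ⟨by norm_num⟩
  have hc : ∀ i, S.list.1 i ∈ candS := fun i => by
    refine candS_complete _ (deg_lt hG _) (deg_dvd hG _) (deg_ne_one hG (a_ne_principal hG S i)) ?_ ?_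
    · rcases a_mod S (by norm_num) i with ⟨h1, -⟩ | ⟨h1, -⟩
      · exact Or.inl h1
      · exact Or.inr h1
    · by_cases h : 23 ∣ deg (S.a i)
      · exact Or.inl (Nat.mod_eq_zero_of_dvd h)
      · exact Or.inr (twentyThree_mod hG T S B (mem_degList hG T (a_ne_principal hG S i) h))
  have he := theta_eq (by norm_num) S
  rw [eleven_theta hG T S B] at he
  have hl : List.ofFn S.list.1 = [S.list.1 0, S.list.1 1, S.list.1 2, S.list.1 3] := by
    simp [List.ofFn_succ]
  rw [hl] at he ⊢
  exact search_eleven _ (hc 0) _ (hc 1) _ (hc 2) _ (hc 3) (S.mono (by decide)) (S.mono (by decide))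
    (S.mono (by decide)) he.symm

theorem eleven_count (d : ℕ) :
    (degList S).count d = ([45, 45, 230, 1035, 896, 896] : List ℕ).count d ∨
    (degList S).count d = ([45, 45, 483, 1288, 896, 896] : List ℕ).count d := by
  rw [degList_eq, eleven_theta hG T S B]
  rcases eleven_list hG T S B with h | h <;> rw [h] <;> simp

theorem eleven_prime {d : ℕ} (hd : d ∈ degList S) (h : ¬ 23 ∣ d) : d = 45 ∨ d = 896 := by
  rw [degList_eq, eleven_theta hG T S B] at hd
  rcases eleven_list hG T S B with h' | h' <;> rw [h'] at hd <;>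
    · simp only [List.mem_append, List.mem_cons, List.not_mem_nil, or_false] at hd
      rcases hd with (rfl | rfl | rfl | rfl) | (rfl | rfl) <;> simp_all

theorem twentyThree_theta : 11 ∣ T.list.2 := by
  have h1 : deg (T.θ 0) % 23 = 11 ∨ deg (T.θ 0) % 23 = 12 := by
    have := theta_mod T; omega
  by_contra h
  rcases eleven_prime hG T S B (mem_degList hG S (θ_ne_principal hG T 0) h) (by omega) with e | e <;>
    · rw [e] at h1
      norm_num at h1

theorem twentyThree_vals : ∀ x ∈ List.ofFn T.list.1, x ∈ valsT := by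
  intro x hx
  obtain ⟨i, rfl⟩ := List.mem_ofFn.1 hx
  have h1 : deg (T.a i) % 23 = 1 ∨ deg (T.a i) % 23 = 22 := by
    have := a_mod T (by norm_num) i; omega
  by_cases h : 11 ∣ deg (T.a i)
  · exact valsT_complete _ (deg_lt hG _) (deg_dvd hG _) (deg_ne_one hG (a_ne_principal hG T i))
      (Nat.mod_eq_zero_of_dvd h) h1
  · rcases eleven_prime hG T S B (mem_degList hG S (a_ne_principal hG T i) h) (by omega) with e | e <;>
      · show deg (T.a i) ∈ valsT
        rw [e]; decide

theorem count_two {d : ℕ} (hd : d = 45 ∨ d = 896) : (List.ofFn T.list.1).count d = 2 := by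
  have h := count_eq_count hG T S (d := d) (by omega) (by omega) (by omega)
  have hne : T.list.2 ≠ d := by
    have := twentyThree_theta hG T S B; omega
  rw [degList_eq, List.count_append, List.count_cons_of_ne hne, List.count_cons_of_ne hne,
    List.count_nil, Nat.add_zero] at h
  rw [h]
  rcases eleven_count hG T S B d with e | e <;> rw [e] <;> rcases hd with rfl | rfl <;> decide

theorem count_pos : 0 < (List.ofFn T.list.1).count 231 := by
  have h : deg (B.b 0) = 231 := by rw [B.deg]; rfl
  have hm := mem_degList hG T (B.ne_principal 0) (by rw [h]; norm_num)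
  rw [h, degList_eq, List.mem_append] at hm
  rcases hm with hm | hm
  · exact List.count_pos_iff.2 hm
  · have h1 := theta_mod T
    simp [Table.list] at hm
    rw [← hm] at h1
    norm_num at h1

/-- The sum of the squares of the known degrees. -/
theorem sum_bound :
    1 + ((List.ofFn T.list.1).map fun d => d * d).sum + 2 * (T.list.2 * T.list.2) + 1124125 +
      4096576 ≤ 10200960 := by
  classical
  haveI := irrFintype G
  let A : Finset (IrrCharacter G) := Finset.univ.image (Fin.append T.a T.θ)
  let C : Finset (IrrCharacter G) := (Finset.univ.filter fun i => 23 ∣ deg (S.a i)).image S.a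
  have hainj : Function.Injective S.a := fun i j e =>
    Fin.castAdd_injective 4 2 (S.inj (by simpa using e))
  have hA : ∀ χ ∈ A, ¬ 23 ∣ deg χ := by
    intro χ hχ h
    obtain ⟨k, -, rfl⟩ := Finset.mem_image.1 hχ
    have := twentyThree_mod hG T S B (d := deg (Fin.append T.a T.θ k))
      (by rw [degList, List.mem_ofFn]; exact ⟨k, rfl⟩)
    omega
  have hC : ∀ χ ∈ C, 23 ∣ deg χ ∧ ¬ 11 ∣ deg χ := by
    intro χ hχ
    obtain ⟨i, hi, rfl⟩ := Finset.mem_image.1 hχ
    refine ⟨(Finset.mem_filter.1 hi).2, ?_⟩
    have := a_mod S (by norm_num) i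
    omega
  have hb : deg (B.b 3) = 2024 := by rw [B.deg]; rfl
  have h1 : principal G ∉ insert (B.b 3) (A ∪ C) := by
    simp only [Finset.mem_insert, Finset.mem_union, not_or]
    refine ⟨fun e => B.ne_principal 3 e.symm, fun h => ?_, fun h => ?_⟩
    · obtain ⟨k, -, e⟩ := Finset.mem_image.1 h; exact T.ne_principal k e
    · have := (hC _ h).1; rw [deg_principal hG] at this; norm_num at this
  have h2 : B.b 3 ∉ A ∪ C := by
    simp only [Finset.mem_union, not_or]
    refine ⟨fun h => hA _ h (by rw [hb]; norm_num), fun h => (hC _ h).2 (by rw [hb]; norm_num)⟩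
  have h3 : Disjoint A C := Finset.disjoint_left.2 fun χ h h' => hA χ h (hC χ h').1
  have hs := sum_sq_le hG (insert (principal G) (insert (B.b 3) (A ∪ C)))
  rw [Finset.sum_insert h1, Finset.sum_insert h2, Finset.sum_union h3, deg_principal hG, hb,
    Finset.sum_image (fun i _ j _ e => T.inj e),
    Finset.sum_image (fun i _ j _ e => hainj e), Finset.sum_filter,
    Fin.sum_univ_add] at hs
  simp only [Fin.append_left, Fin.append_right, Fin.sum_univ_two, T.deg_θ] at hs
  rw [List.map_ofFn, List.sum_ofFn]
  simp only [Function.comp_apply, ← pow_two, Table.list]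
  have hS : 1124125 ≤ ∑ i, if 23 ∣ deg (S.a i) then deg (S.a i) ^ 2 else 0 := by
    have hl : List.ofFn S.list.1 = [deg (S.a 0), deg (S.a 1), deg (S.a 2), deg (S.a 3)] := by
      simp [List.ofFn_succ, Table.list]
    rw [Fin.sum_univ_four]
    rcases eleven_list hG T S B with h | h <;> rw [hl] at h <;> simp at h <;>
      obtain ⟨e0, e1, e2, e3⟩ := h <;> simp [e0, e1, e2, e3]
  omega

end CfsgLib.M23Order.Joint

namespace CfsgLib.M23Order

universe u

open Joint in
/-- Piece D. -/
theorem joint : JointStmt.{u} := by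
  intro G _ _ hsimp hG _ _ T S B
  haveI : Fact (Nat.Prime 23) := ⟨by norm_num⟩
  constructor
  · have hθ : T.list.2 = (total 23 (List.ofFn T.list.1)).natAbs := theta_eq (by norm_num) T
    have hmem := list_twentyThree (L := List.ofFn T.list.1) (by simp)
      (List.pairwise_ofFn.2 fun i j h => T.mono h.le) (twentyThree_vals hG T S B)
      (count_two hG T S B (Or.inl rfl)) (count_two hG T S B (Or.inr rfl)) (count_pos hG T S B) (by
        have h1 := deg_dvd hG (T.θ 0)
        have h2 := Nat.mod_eq_zero_of_dvd (twentyThree_theta hG T S B)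
        have h3 := theta_mod T
        have h4 := sum_bound hG T S B
        rw [hθ] at h2 h4
        rw [show charDegree (T.θ 0 : G → ℂ) = (total 23 (List.ofFn T.list.1)).natAbs from hθ] at h1 h3
        simp only [okT, Bool.and_eq_true, decide_eq_true_eq]
        refine ⟨⟨⟨h1, h2⟩, ?_⟩, h4⟩
        omega)
    rw [← hθ, List.mem_map] at hmem
    obtain ⟨q, hq, e⟩ := hmem
    rw [Prod.mk.injEq] at e
    have : q = T.list := Prod.ext (List.ofFn_injective e.1) e.2
    exact this ▸ hq
  · have h0 := eleven_theta hG T S B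
    simp only [lists11, List.mem_cons, List.not_mem_nil, or_false]
    rcases eleven_list hG T S B with h | h
    · left
      exact Prod.ext (List.ofFn_injective (h.trans (by simp [List.ofFn_succ]))) h0
    · right
      exact Prod.ext (List.ofFn_injective (h.trans (by simp [List.ofFn_succ]))) h0

end CfsgLib.M23Order
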