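import Cfsg.Agent.Lib.M23Order.Interface

/-!
# Simple groups of order 10200960: the finite searches for the joint lists
-/

set_option autoImplicit false

namespace CfsgLib.M23Order.Joint

/-- The sign of a degree congruent to plus or minus one. -/
def sgnOf (p d : ℕ) : ℤ := if d % p = 1 then 1 else -1

/-- The possible non-exceptional degrees at eleven. -/
def candS : List ℕ := [12, 23, 45, 230, 252, 276, 483, 736, 1035, 1288, 2760]

/-- The signed sum at one of a list of degrees. -/
def total (p : ℕ) (L : List ℕ) : ℤ := 1 + (L.map fun d => sgnOf p d * (d : ℤ)).sum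

/-- The possible degrees at twenty-three. -/
def valsT : List ℕ := [22, 45, 231, 528, 896, 990, 1540]

/-- The sorted list with given multiplicities. -/
def build (c22 c231 c528 c990 c1540 : ℕ) : List ℕ :=
  List.replicate c22 22 ++ List.replicate 2 45 ++ List.replicate c231 231 ++
    List.replicate c528 528 ++ List.replicate 2 896 ++ List.replicate c990 990 ++
    List.replicate c1540 1540

/-- The conditions on a list at twenty-three. -/
def okT (L : List ℕ) : Bool :=
  let θ := (total 23 L).natAbs
  decide (10200960 % θ = 0) && decide (θ % 11 = 0) &&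
    decide (θ % 23 = 11 ∨ θ % 23 = 12) &&
    decide (1 + (L.map fun d => d * d).sum + 2 * (θ * θ) + 1124125 + 4096576 ≤ 10200960)

set_option maxRecDepth 100000 in
set_option synthInstance.maxSize 4096 in
theorem candS_complete : ∀ d < (3194 : ℕ), 10200960 % d = 0 → d ≠ 1 →
    (d % 11 = 1 ∨ d % 11 = 10) →
    (d % 23 = 0 ∨ d % 23 = 1 ∨ d % 23 = 22 ∨ d % 23 = 11 ∨ d % 23 = 12) → d ∈ candS := by
  decide +kernel

set_option maxRecDepth 100000 in
set_option synthInstance.maxSize 4096 in
theorem valsT_complete : ∀ d < (3194 : ℕ), 10200960 % d = 0 → d ≠ 1 → d % 11 = 0 →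
    (d % 23 = 1 ∨ d % 23 = 22) → d ∈ valsT := by
  decide +kernel

theorem search_eleven : ∀ a ∈ candS, ∀ b ∈ candS, ∀ c ∈ candS, ∀ d ∈ candS,
    a ≤ b → b ≤ c → c ≤ d → (total 11 [a, b, c, d]).natAbs = 896 →
      [a, b, c, d] = [45, 45, 230, 1035] ∨ [a, b, c, d] = [45, 45, 483, 1288] := by
  decide +kernel

set_option maxRecDepth 100000 in
set_option synthInstance.maxSize 4096 in
theorem search_twentyThree : ∀ a < (7 : ℕ), ∀ b < (7 : ℕ), ∀ c < (7 : ℕ), ∀ d < (7 : ℕ),
    0 < b → a + b + c + d ≤ 6 → okT (build a b c d (6 - a - b - c - d)) = true →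
      (build a b c d (6 - a - b - c - d), (total 23 (build a b c d (6 - a - b - c - d))).natAbs) ∈
        lists23.map fun q => (List.ofFn q.1, q.2) := by
  decide +kernel

theorem count_build (a b c d e x : ℕ) : (build a b c d e).count x =
    (if x = 22 then a else 0) + (if x = 45 then 2 else 0) + (if x = 231 then b else 0) +
      (if x = 528 then c else 0) + (if x = 896 then 2 else 0) + (if x = 990 then d else 0) +
      (if x = 1540 then e else 0) := by
  simp only [build, List.count_append, List.count_replicate, beq_iff_eq, eq_comm (a := x)]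

theorem pairwise_build (a b c d e : ℕ) : (build a b c d e).Pairwise (· ≤ ·) := by
  simp only [build, List.pairwise_append, List.mem_append, List.pairwise_replicate,
    List.mem_replicate]
  refine ⟨⟨⟨⟨⟨⟨?_, ?_, ?_⟩, ?_, ?_⟩, ?_, ?_⟩, ?_, ?_⟩, ?_, ?_⟩, ?_, ?_⟩ <;>
    first
      | exact Or.inr le_rfl
      | (intro x hx y hy; omega)

theorem sum_count (L : List ℕ) (h : ∀ x ∈ L, x ∈ valsT) :
    L.count 22 + L.count 45 + L.count 231 + L.count 528 + L.count 896 + L.count 990 +
      L.count 1540 = L.length := by
  induction L with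
  | nil => rfl
  | cons y L ih =>
    have hy := h y List.mem_cons_self
    have ih' := ih fun x hx => h x (List.mem_cons_of_mem _ hx)
    simp only [valsT, List.mem_cons, List.not_mem_nil, or_false] at hy
    rcases hy with rfl | rfl | rfl | rfl | rfl | rfl | rfl <;>
      simp <;> omega

/-- A sorted list with these values is the one built from its multiplicities. -/
theorem eq_build {L : List ℕ} (hL : L.Pairwise (· ≤ ·)) (h : ∀ x ∈ L, x ∈ valsT)
    (h45 : L.count 45 = 2) (h896 : L.count 896 = 2) :
    L = build (L.count 22) (L.count 231) (L.count 528) (L.count 990) (L.count 1540) := by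
  refine List.Perm.eq_of_pairwise (le := (· ≤ ·)) (fun a b _ _ => le_antisymm) hL
    (pairwise_build _ _ _ _ _) (List.perm_iff_count.2 fun x => ?_)
  rw [count_build]
  by_cases hx : x ∈ L
  · have := h x hx
    simp only [valsT, List.mem_cons, List.not_mem_nil, or_false] at this
    rcases this with rfl | rfl | rfl | rfl | rfl | rfl | rfl <;> simp [h45, h896]
  · have h1 : ∀ y, L.count y ≠ 0 → x ≠ y := fun y hy e =>
      hy (List.count_eq_zero.2 (e ▸ hx))
    rw [List.count_eq_zero.2 hx]
    have a1 := h1 22; have a2 := h1 45; have a3 := h1 231; have a4 := h1 528; have a5 := h1 896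
    have a6 := h1 990; have a7 := h1 1540
    split_ifs <;> omega

/-- The search at twenty-three. -/
theorem list_twentyThree {L : List ℕ} (hlen : L.length = 10) (hL : L.Pairwise (· ≤ ·))
    (h : ∀ x ∈ L, x ∈ valsT) (h45 : L.count 45 = 2) (h896 : L.count 896 = 2)
    (h231 : 0 < L.count 231) (hok : okT L = true) :
    (L, (total 23 L).natAbs) ∈ lists23.map fun q => (List.ofFn q.1, q.2) := by
  have hs := sum_count L h
  have hb := eq_build hL h h45 h896
  have he : L.count 1540 = 6 - L.count 22 - L.count 231 - L.count 528 - L.count 990 := by omega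
  rw [he] at hb
  rw [hb] at hok ⊢
  exact search_twentyThree _ (by omega) _ (by omega) _ (by omega) _ (by omega) h231 (by omega) hok

end CfsgLib.M23Order.Joint
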