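import Cfsg.Agent.Lib.M23Order.Interface
import Cfsg.Agent.Lib.M22Nse.CountsTools
import Cfsg.Agent.Lib.Chars.Irr
import Cfsg.Agent.Lib.StrongTwoClasses.Tools

/-!
# Piece K of S1664: the element orders and the elements of order six

The centraliser of an element of order three has order 180 and no normal subgroup of order five;
so its Sylow subgroups at two and three are not cyclic and it has fifteen involutions.  With
seventeen classes there is no room for elements of order sixteen.
-/

set_option autoImplicit false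
set_option linter.style.haveILetI false
set_option linter.unusedSectionVars false

open Cfsg CfsgLib.Chars CfsgLib.CharApps
open scoped Classical

namespace CfsgLib.M23Order

namespace OrdK

universe u

variable {G : Type u} [Group G] [Finite G]

theorem conj_orderOf {g h : G} (e : IsConj g h) : orderOf g = orderOf h := by
  obtain ⟨c, rfl⟩ := isConj_iff.1 e
  exact (M22Nse.CountsP1.conj_order c g).symm

/-- The order of the elements of a class. -/
noncomputable def cord (K : ConjClasses G) : ℕ :=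
  Quotient.lift (orderOf : G → ℕ) (fun _ _ e => conj_orderOf e) K

theorem mem_cen {g x : G} (h : Commute g x) : g ∈ cen x :=
  Subgroup.mem_centralizer_singleton_iff.2 h.eq

theorem exists_pow_orderOf {g : G} {d : ℕ} (hd : d ∣ orderOf g) :
    orderOf (g ^ (orderOf g / d)) = d := by
  rcases Nat.eq_zero_or_pos d with rfl | hd0
  · exact absurd (zero_dvd_iff.1 hd) (orderOf_pos g).ne'
  obtain ⟨k, hk⟩ := hd
  have hk0 : k ≠ 0 := fun e => (orderOf_pos g).ne' (by rw [hk, e, mul_zero])
  rw [hk, Nat.mul_div_cancel_left _ hd0, orderOf_pow' _ hk0, hk, Nat.gcd_mul_left_left,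
    Nat.mul_div_cancel _ (Nat.pos_of_ne_zero hk0)]

theorem dvd_cent {p c n : ℕ} (L : Local G p c n) {g : G} (hd : p ∣ orderOf g) : orderOf g ∣ c := by
  have h1 := Subgroup.orderOf_dvd_natCard (cen (g ^ (orderOf g / p)))
    (mem_cen (Commute.self_pow g _))
  rwa [L.cent _ (exists_pow_orderOf hd)] at h1

theorem exists_order {p : ℕ} (hp : p.Prime) (hd : p ∣ 10200960)
    (hG : Nat.card G = 10200960) : ∃ x : G, orderOf x = p := by
  haveI : Fact p.Prime := ⟨hp⟩
  exact exists_prime_orderOf_dvd_card' p (hG ▸ hd)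

theorem cnt_local {p c n : ℕ} [hp : Fact p.Prime] (L : Local G p c n) (hG : Nat.card G = 10200960)
    {m : ℕ} (hm : 10200960 = p * m) (hpm : ¬ p ∣ m) :
    M23Nse.cnt G p * n = 10200960 * (p - 1) := by
  have hP : ∀ P : Sylow p G, Nat.card (P : Subgroup G) = p := fun P => by
    simpa using M22Nse.CountsP1.card_sylow_eq' p m (by rw [hG, hm]) hpm P
  obtain ⟨P⟩ := (inferInstance : Nonempty (Sylow p G))
  have h1 : Nat.card (Sylow p G) * n = 10200960 := by
    have := Subgroup.index_mul_card (Subgroup.normalizer ((P : Subgroup G) : Set G))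
    rw [L.norm P, hG] at this
    rw [Sylow.card_eq_index_normalizer P]
    exact this
  rw [M23Nse.cnt, CfsgLib.Small.card_orderOf_eq_prime hP, mul_right_comm, h1]

theorem cnt_class {p c : ℕ} (hG : Nat.card G = 10200960)
    (hc : ∀ x : G, orderOf x = p → Nat.card (cen x) = c)
    (hconj : ∀ x y : G, orderOf x = p → orderOf y = p → IsConj x y) {x : G} (hx : orderOf x = p) :
    M23Nse.cnt G p * c = 10200960 := by
  have h1 := card_isConj_mul_card_centralizer x
  rw [hG] at h1
  rw [← h1, ← hc x hx, M23Nse.cnt]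
  congr 1
  exact Nat.card_congr (Equiv.subtypeEquivRight fun y =>
    ⟨fun hy => hconj x y hx hy, fun hy => (conj_orderOf hy).symm.trans hx⟩)

theorem exists_not_conj {p k : ℕ} {x : G} (hx : orderOf x = p) (hG : Nat.card G = 10200960)
    (hc : k ≤ Nat.card (cen x)) (h : 10200960 < M23Nse.cnt G p * k) :
    ∃ y : G, orderOf y = p ∧ ¬ IsConj x y := by
  by_contra hall
  push Not at hall
  have h1 : Nat.card {h : G // IsConj x h} * k ≤ 10200960 := by
    have := card_isConj_mul_card_centralizer x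
    rw [hG] at this
    exact (Nat.mul_le_mul_left _ hc).trans this.le
  have h2 : M23Nse.cnt G p ≤ Nat.card {h : G // IsConj x h} :=
    Nat.card_le_card_of_injective
      (fun y : {g : G // orderOf g = p} => (⟨y.1, hall y.1 y.2⟩ : {h : G // IsConj x h}))
      fun a b e => Subtype.ext (congrArg Subtype.val e :)
  exact absurd (h.trans_le ((Nat.mul_le_mul_right k h2).trans h1)) (lt_irrefl _)

/-- Elements of coprime orders in the centraliser of an element. -/
theorem exists_in_cent {p c q : ℕ} (hq : q.Prime) (hqc : q ∣ c) {a : G} (ha : orderOf a = p)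
    (hc : ∀ x : G, orderOf x = p → Nat.card (cen x) = c) :
    ∃ v, Commute a v ∧ orderOf v = q := by
  haveI : Fact q.Prime := ⟨hq⟩
  obtain ⟨⟨v, hv⟩, hvo⟩ := exists_prime_orderOf_dvd_card' (G := cen a) q (by rw [hc a ha]; exact hqc)
  exact ⟨v, (Subgroup.mem_centralizer_singleton_iff.1 hv).symm,
    by rw [Subgroup.orderOf_mk] at hvo; exact hvo⟩

/-! ### The centraliser of an element of order three -/

theorem no_small (hG : Nat.card G = 10200960) (h5 : LocalFive G) (h3 : LocalThree G) {z : G}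
    (hz : orderOf z = 3) (M : Subgroup ↥(cen z)) [M.Normal]
    (hM : Nat.card M = 20 ∨ Nat.card M = 45) : False := by
  haveI : Fact (Nat.Prime 5) := ⟨by norm_num⟩
  obtain ⟨P⟩ := (inferInstance : Nonempty (Sylow 5 M))
  obtain ⟨m, hm5, hm⟩ : ∃ m, ¬ 5 ∣ m ∧ (m = 4 ∨ m = 9) ∧ Nat.card M = 5 * m := by
    rcases hM with h | h
    exacts [⟨4, by norm_num, Or.inl rfl, h⟩, ⟨9, by norm_num, Or.inr rfl, h⟩]
  have hP5 : Nat.card (P : Subgroup M) = 5 := by
    simpa using M22Nse.CountsP1.card_sylow_eq' 5 m hm.2 hm5 P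
  have hidx : (P : Subgroup M).index = m := by
    have := (P : Subgroup M).card_mul_index
    rw [hP5, hm.2] at this
    omega
  have h1 : Nat.card (Sylow 5 M) = 1 := by
    have hd := P.card_dvd_index
    rw [hidx] at hd
    have hmod := card_sylow_modEq_one 5 M
    unfold Nat.ModEq at hmod
    have hle := Nat.le_of_dvd (by omega) hd
    rcases hm.1 with rfl | rfl <;> interval_cases hn : Nat.card (Sylow 5 M) <;> simp_all
  haveI : Subsingleton (Sylow 5 M) := (Nat.card_eq_one_iff_unique.1 h1).1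
  haveI hPn : (P : Subgroup M).Normal := P.normal_of_subsingleton
  haveI : (P : Subgroup M).Characteristic := P.characteristic_of_normal hPn
  set R := (P : Subgroup M).map M.subtype with hR
  have hRn : R.Normal := ConjAct.normal_of_characteristic_of_normal
  have hRc : Nat.card R = 5 := by
    rw [hR, Subgroup.card_map_of_injective M.subtype_injective, hP5]
  set S := R.map (cen z).subtype with hS
  have hSc : Nat.card S = 5 := by
    rw [hS, Subgroup.card_map_of_injective (Subgroup.subtype_injective _), hRc]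
  have hfac : (Nat.card G).factorization 5 = 1 := by
    rw [hG, show 10200960 = 5 ^ 1 * 2040192 from rfl,
      Nat.factorization_mul (by norm_num) (by norm_num), Nat.Prime.factorization_pow (by norm_num),
      Finsupp.add_apply, Finsupp.single_eq_same, Nat.factorization_eq_zero_of_not_dvd (by norm_num)]
  let Q : Sylow 5 G := Sylow.ofCard S (by rw [hSc, hfac]; norm_num)
  have hle : cen z ≤ Subgroup.normalizer (S : Set G) := fun g hg => by
    refine StrongTwoClasses.mem_normalizer_of_forall fun x hx => ?_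
    obtain ⟨r, hr, rfl⟩ := hx
    exact ⟨⟨g, hg⟩ * r * ⟨g, hg⟩⁻¹, hRn.conj_mem r hr _, rfl⟩
  have hN : Nat.card (Subgroup.normalizer (S : Set G)) = 60 := h5.norm Q
  have := Subgroup.card_dvd_of_le hle
  rw [h3.cent z hz, hN] at this
  norm_num at this

theorem card_two_sylow (h3 : LocalThree G) {z : G} (hz : orderOf z = 3)
    [Fact (Nat.Prime 2)] (T : Sylow 2 ↥(cen z)) : Nat.card (T : Subgroup ↥(cen z)) = 4 := by
  rw [Sylow.card_eq_multiplicity T, h3.cent z hz, show 180 = 2 ^ 2 * 45 from rfl,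
    Nat.factorization_mul (by norm_num) (by norm_num), Nat.prime_two.factorization_pow,
    Finsupp.add_apply, Finsupp.single_eq_same, Nat.factorization_eq_zero_of_not_dvd (by norm_num)]
  rfl

theorem no_four (hG : Nat.card G = 10200960) (h5 : LocalFive G) (h3 : LocalThree G) {z y : G}
    (hz : orderOf z = 3) (hy : orderOf y = 4) (hzy : Commute y z) : False := by
  haveI : Fact (Nat.Prime 2) := ⟨Nat.prime_two⟩
  set yK : ↥(cen z) := ⟨y, mem_cen hzy⟩ with hyK
  have hyo : orderOf yK = 4 := by rw [hyK, Subgroup.orderOf_mk, hy]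
  have hfac : (Nat.card ↥(cen z)).factorization 2 = 2 := by
    rw [h3.cent z hz, show 180 = 2 ^ 2 * 45 from rfl,
      Nat.factorization_mul (by norm_num) (by norm_num), Nat.prime_two.factorization_pow,
      Finsupp.add_apply, Finsupp.single_eq_same, Nat.factorization_eq_zero_of_not_dvd (by norm_num)]
  let P : Sylow 2 ↥(cen z) := Sylow.ofCard (Subgroup.zpowers yK)
    (by rw [Nat.card_zpowers, hyo, hfac]; norm_num)
  have hP : IsCyclic (P : Subgroup ↥(cen z)) := by
    show IsCyclic ↥(Subgroup.zpowers yK)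
    infer_instance
  have hmin : (Nat.card ↥(cen z)).minFac = 2 := by
    rw [h3.cent z hz]
    exact (Nat.minFac_eq_two_iff 180).2 (by norm_num)
  have hc := hP.isComplement' hmin
  set M := (MonoidHom.transferSylow P (hP.normalizer_le_centralizer hmin)).ker
  have := hc.card_mul
  rw [h3.cent z hz, card_two_sylow h3 hz P] at this
  exact no_small hG h5 h3 hz M (Or.inr (by omega))

theorem no_nine (hG : Nat.card G = 10200960) (h5 : LocalFive G)
    (h2c : ∀ t : G, orderOf t = 2 → Nat.card (cen t) = 2688) (h3 : LocalThree G) (g : G) :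
    orderOf g ≠ 9 := by
  intro hg
  haveI : Fact (Nat.Prime 3) := ⟨Nat.prime_three⟩
  have hz : orderOf (g ^ 3) = 3 := by rw [orderOf_pow' _ (by norm_num), hg]; rfl
  set z := g ^ 3 with hzdef
  have hgz : Commute g z := Commute.self_pow g 3
  have hle : cen g ≤ cen z := fun x hx => mem_cen
    ((show Commute x g from Subgroup.mem_centralizer_singleton_iff.1 hx).pow_right 3)
  have hcg : Nat.card (cen g) = 9 := by
    have hd : Nat.card (cen g) ∣ 180 := h3.cent z hz ▸ Subgroup.card_dvd_of_le hle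
    have h9 : 9 ∣ Nat.card (cen g) := by
      have := Subgroup.orderOf_dvd_natCard (cen g) (mem_cen (Commute.refl g))
      rwa [hg] at this
    have key : ∀ q, q.Prime → q ∣ Nat.card (cen g) → ∃ v : G, orderOf v = q ∧ 9 ∣ Nat.card (cen v) := by
      intro q hq hd'
      haveI : Fact q.Prime := ⟨hq⟩
      obtain ⟨⟨v, hv⟩, hvo⟩ := exists_prime_orderOf_dvd_card' (G := cen g) q hd'
      rw [Subgroup.orderOf_mk] at hvo
      refine ⟨v, hvo, ?_⟩
      have := Subgroup.orderOf_dvd_natCard (cen v)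
        (mem_cen (Subgroup.mem_centralizer_singleton_iff.1 hv).symm)
      rwa [hg] at this
    have n2 : ¬ 2 ∣ Nat.card (cen g) := fun h => by
      obtain ⟨v, hv, h'⟩ := key 2 Nat.prime_two h
      rw [h2c v hv] at h'
      norm_num at h'
    have n5 : ¬ 5 ∣ Nat.card (cen g) := fun h => by
      obtain ⟨v, hv, h'⟩ := key 5 (by norm_num) h
      rw [h5.cent v hv] at h'
      norm_num at h'
    obtain ⟨k, hk⟩ := h9
    rw [hk, show 180 = 9 * 20 from rfl] at hd
    have hk20 := Nat.dvd_of_mul_dvd_mul_left (by norm_num) hd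
    have := Nat.le_of_dvd (by norm_num) hk20
    interval_cases k <;> first | omega | (norm_num at hk20)
  set gK : ↥(cen z) := ⟨g, mem_cen hgz⟩ with hgK
  have hgo : orderOf gK = 9 := by rw [hgK, Subgroup.orderOf_mk, hg]
  have hfac : (Nat.card ↥(cen z)).factorization 3 = 2 := by
    rw [h3.cent z hz, show 180 = 3 ^ 2 * 20 from rfl,
      Nat.factorization_mul (by norm_num) (by norm_num), Nat.prime_three.factorization_pow,
      Finsupp.add_apply, Finsupp.single_eq_same, Nat.factorization_eq_zero_of_not_dvd (by norm_num)]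
  let P : Sylow 3 ↥(cen z) := Sylow.ofCard (Subgroup.zpowers gK)
    (by rw [Nat.card_zpowers, hgo, hfac]; norm_num)
  have hPz : (P : Subgroup ↥(cen z)) = Subgroup.zpowers gK := rfl
  have hcent : ∀ a : ↥(cen z), Commute a gK → a ∈ Subgroup.zpowers gK := by
    intro a ha
    have h1 : Subgroup.zpowers g = cen g := Subgroup.eq_of_le_of_card_ge
      (Subgroup.zpowers_le.2 (mem_cen (Commute.refl g))) (by rw [Nat.card_zpowers, hg, hcg])
    have h2 : (a : G) ∈ Subgroup.zpowers g :=
      h1.ge (mem_cen (congrArg Subtype.val ha.eq : (a : G) * g = g * a))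
    obtain ⟨i, hi⟩ := Subgroup.mem_zpowers_iff.1 h2
    exact Subgroup.mem_zpowers_iff.2 ⟨i, Subtype.ext hi⟩
  have hN : Subgroup.normalizer ((P : Subgroup ↥(cen z)) : Set ↥(cen z)) ≤
      Subgroup.centralizer ((P : Subgroup ↥(cen z)) : Set ↥(cen z)) := by
    rw [hPz]
    intro a ha
    -- conjugation is a power congruent to one modulo three
    obtain ⟨k, hk9, hk⟩ : ∃ k < 9, gK ^ k = a * gK * a⁻¹ := by
      have := (Subgroup.mem_normalizer_iff.1 ha gK).1 (Subgroup.mem_zpowers gK)
      obtain ⟨k, hk, e⟩ := Finset.mem_image.1 (mem_zpowers_iff_mem_range_orderOf.1 this)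
      rw [Finset.mem_range, hgo] at hk
      exact ⟨k, hk, e⟩
    have hz3 : a * gK ^ 3 * a⁻¹ = gK ^ 3 := by
      refine mul_inv_eq_iff_eq_mul.2 (Subtype.ext ?_)
      show (a : G) * g ^ 3 = g ^ 3 * a
      exact Subgroup.mem_centralizer_singleton_iff.1 a.2
    rw [← conj_pow, ← hk, ← pow_mul] at hz3
    have hmod : (k * 3) % 9 = 3 := by
      have := pow_inj_mod.1 hz3
      rw [hgo] at this
      exact this
    have hit : ∀ j : ℕ, a ^ j * gK * (a ^ j)⁻¹ = gK ^ (k ^ j) := by
      intro j
      induction j with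
      | zero => simp
      | succ j ih =>
        calc a ^ (j + 1) * gK * (a ^ (j + 1))⁻¹
            = a * (a ^ j * gK * (a ^ j)⁻¹) * a⁻¹ := by rw [pow_succ']; group
          _ = (a * gK * a⁻¹) ^ (k ^ j) := by rw [ih, conj_pow]
          _ = gK ^ (k ^ (j + 1)) := by rw [← hk, ← pow_mul, ← pow_succ']
    have h3' : Commute (a ^ 3) gK := by
      refine mul_inv_eq_iff_eq_mul.1 ?_
      rw [hit 3, ← pow_mod_orderOf, hgo,
        show k ^ 3 % 9 = 1 by interval_cases k <;> first | omega | norm_num at hmod, pow_one]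
    have ha27 : a ^ 27 = 1 := by
      obtain ⟨i, hi⟩ := Subgroup.mem_zpowers_iff.1 (hcent _ h3')
      rw [show 27 = 3 * 9 from rfl, pow_mul, ← hi, ← zpow_natCast (gK ^ i) 9, ← zpow_mul,
        mul_comm, zpow_mul, zpow_natCast, ← hgo, pow_orderOf_eq_one, one_zpow]
    have hpa : IsPGroup 3 (Subgroup.zpowers a) := fun x => ⟨3, by
      obtain ⟨i, hi⟩ := Subgroup.mem_zpowers_iff.1 x.2
      refine Subtype.ext ?_
      show (x : ↥(cen z)) ^ (3 ^ 3) = 1
      rw [← hi, ← zpow_natCast (a ^ i) (3 ^ 3), ← zpow_mul, mul_comm, zpow_mul, zpow_natCast]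
      norm_num [ha27]⟩
    have hW : IsPGroup 3 ↥(Subgroup.zpowers a ⊔ Subgroup.zpowers gK) :=
      hpa.to_sup_of_normal_right' (hPz ▸ P.isPGroup') (Subgroup.zpowers_le.2 ha)
    have hWP : Subgroup.zpowers a ⊔ Subgroup.zpowers gK = (P : Subgroup ↥(cen z)) :=
      P.is_maximal' hW (hPz.le.trans le_sup_right)
    have haP : a ∈ Subgroup.zpowers gK :=
      hPz ▸ hWP ▸ Subgroup.mem_sup_left (Subgroup.mem_zpowers a)
    refine Subgroup.mem_centralizer_iff.2 fun x hx => ?_
    obtain ⟨i, hi⟩ := Subgroup.mem_zpowers_iff.1 haP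
    obtain ⟨j, hj⟩ := Subgroup.mem_zpowers_iff.1 hx
    rw [← hi, ← hj, ← zpow_add, ← zpow_add, add_comm]
  have hc := MonoidHom.ker_transferSylow_isComplement' P hN
  set M := (MonoidHom.transferSylow P hN).ker
  have := hc.card_mul
  rw [h3.cent z hz, hPz, Nat.card_zpowers, hgo] at this
  exact no_small hG h5 h3 hz M (Or.inl (by omega))

/-- The number of involutions centralising an element of order three is a multiple of fifteen and
odd. -/
theorem invol_count (h2c : ∀ t : G, orderOf t = 2 → Nat.card (cen t) = 2688) (h3 : LocalThree G)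
    {z : G} (hz : orderOf z = 3) :
    15 ∣ M22Nse.CountsP1.centCnt z 2 ∧ ¬ 2 ∣ M22Nse.CountsP1.centCnt z 2 := by
  haveI : Fact (Nat.Prime 2) := ⟨Nat.prime_two⟩
  haveI := Fintype.ofFinite G
  haveI := Fintype.ofFinite ↥(cen z)
  haveI := Fintype.ofFinite (ConjClasses ↥(cen z))
  have hK : Nat.card ↥(cen z) = 180 := h3.cent z hz
  set V : Finset ↥(cen z) := Finset.univ.filter fun v => orderOf v = 2 with hV
  have hn : M22Nse.CountsP1.centCnt z 2 = V.card := by
    rw [M22Nse.CountsP1.centCnt_eq]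
    show Nat.card {v : ↥(cen z) // orderOf v = 2} = _
    rw [Nat.card_eq_fintype_card, Fintype.card_subtype]
  refine ⟨?_, ?_⟩
  · rw [hn, Finset.card_eq_sum_card_fiberwise (f := fun v => ConjClasses.mk v)
      (t := (Finset.univ : Finset (ConjClasses ↥(cen z)))) fun v _ => by simp]
    refine Finset.dvd_sum fun c _ => ?_
    obtain ⟨v, rfl⟩ := ConjClasses.mk_surjective c
    by_cases hv : orderOf v = 2
    swap
    · convert dvd_zero 15
      refine Finset.card_eq_zero.2 (Finset.filter_eq_empty_iff.2 fun w hw e => hv ?_)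
      rw [← conj_orderOf (ConjClasses.mk_eq_mk_iff_isConj.1 e)]
      exact (Finset.mem_filter.1 hw).2
    have hcls : (V.filter fun w => ConjClasses.mk w = ConjClasses.mk v).card =
        Nat.card {w : ↥(cen z) // IsConj v w} := by
      rw [Nat.card_eq_fintype_card, Fintype.card_subtype]
      refine congrArg Finset.card ?_
      ext w
      simp only [hV, Finset.mem_filter, Finset.mem_univ, true_and,
        ConjClasses.mk_eq_mk_iff_isConj]
      exact ⟨fun h => h.2.symm, fun h => ⟨(conj_orderOf h).symm.trans hv, h.symm⟩⟩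
    rw [hcls]
    have hmul := card_isConj_mul_card_centralizer v
    rw [hK] at hmul
    set D := Subgroup.centralizer ({v} : Set ↥(cen z)) with hD
    have hd1 : Nat.card D ∣ 180 := hK ▸ Subgroup.card_subgroup_dvd_card D
    have hd2 : Nat.card D ∣ 2688 := by
      rw [← h2c v (by rw [Subgroup.orderOf_coe, hv]),
        ← Subgroup.card_map_of_injective (K := D) (Subgroup.subtype_injective (cen z))]
      refine Subgroup.card_dvd_of_le ?_
      rintro _ ⟨a, ha, rfl⟩
      exact mem_cen (congrArg Subtype.val (Subgroup.mem_centralizer_singleton_iff.1 ha))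
    have h3D : 3 ∣ Nat.card D := by
      have hzK : (⟨z, mem_cen (Commute.refl z)⟩ : ↥(cen z)) ∈ D :=
        Subgroup.mem_centralizer_singleton_iff.2
          (Subtype.ext (Subgroup.mem_centralizer_singleton_iff.1 v.2).symm)
      have := Subgroup.orderOf_dvd_natCard D hzK
      rwa [Subgroup.orderOf_mk, hz] at this
    have h4D : 4 ∣ Nat.card D := by
      have hp : IsPGroup 2 (Subgroup.zpowers v) :=
        IsPGroup.of_card (n := 1) (by rw [Nat.card_zpowers, hv]; norm_num)
      obtain ⟨T, hT⟩ := hp.exists_le_sylow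
      have hT4 := card_two_sylow h3 hz T
      have hcom := IsPGroup.commutative_of_card_eq_prime_sq (p := 2)
        (G := (T : Subgroup ↥(cen z))) (by rw [hT4]; norm_num)
      rw [← hT4]
      refine Subgroup.card_dvd_of_le fun a ha => Subgroup.mem_centralizer_singleton_iff.2 ?_
      exact congrArg Subtype.val (hcom ⟨a, ha⟩ ⟨v, hT (Subgroup.mem_zpowers v)⟩)
    have h12 : Nat.card D = 12 := Nat.dvd_antisymm (Nat.dvd_gcd hd1 hd2 |>.trans (by norm_num))
      (Nat.Coprime.mul_dvd_of_dvd_of_dvd (by norm_num) h4D h3D : 4 * 3 ∣ _)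
    rw [h12] at hmul
    exact ⟨1, by omega⟩
  · rw [hn]
    intro h
    have heven : (2 : ℕ) ∣ (Finset.univ.filter fun x : ↥(cen z) => x * x = 1).card := by
      have hs : ((Finset.univ.filter fun x : ↥(cen z) => ¬ x * x = 1).card : ZMod 2) = 0 := by
        rw [Finset.card_eq_sum_ones, Nat.cast_sum]
        refine Finset.sum_involution (fun x _ => x⁻¹) (fun _ _ => show ((1 : ℕ) : ZMod 2) + ((1 : ℕ) : ZMod 2) = 0 by rfl)
          (fun x hx _ e => (Finset.mem_filter.1 hx).2 ?_) (fun x hx => ?_) (fun x _ => inv_inv x)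
        · exact eq_inv_iff_mul_eq_one.1 e.symm
        · refine Finset.mem_filter.2 ⟨Finset.mem_univ _, fun e => (Finset.mem_filter.1 hx).2 ?_⟩
          rwa [← mul_inv_rev, inv_eq_one] at e
      have hs' := (ZMod.natCast_eq_zero_iff _ _).1 hs
      have := Finset.card_filter_add_card_filter_not (s := (Finset.univ : Finset ↥(cen z)))
        (fun x => x * x = 1)
      rw [Finset.card_univ, ← Nat.card_eq_fintype_card, hK] at this
      omega
    have hins : (Finset.univ.filter fun x : ↥(cen z) => x * x = 1) = insert 1 V := by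
      ext x
      simp only [hV, Finset.mem_filter, Finset.mem_univ, true_and, Finset.mem_insert,
        orderOf_eq_prime_iff, sq]
      exact ⟨fun e => or_iff_not_imp_left.2 fun h => ⟨e, h⟩, fun e => e.elim (by rintro rfl; simp) And.left⟩
    rw [hins, Finset.card_insert_of_notMem (by simp [hV])] at heven
    omega

theorem centCnt_conj {x y : G} (h : IsConj x y) (m : ℕ) :
    M22Nse.CountsP1.centCnt x m = M22Nse.CountsP1.centCnt y m := by
  obtain ⟨c, rfl⟩ := isConj_iff.1 h
  exact Nat.card_congr ((MulAut.conj c).toEquiv.subtypeEquiv fun a => by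
    show _ ↔ Commute (MulAut.conj c x) (MulAut.conj c a) ∧ orderOf (MulAut.conj c a) = m
    refine and_congr ⟨fun e => e.map (MulAut.conj c), fun e => ?_⟩
      (by rw [MulEquiv.orderOf_eq])
    simpa [mul_assoc] using e.map (MulAut.conj c).symm)

theorem cnt_six (hG : Nat.card G = 10200960) (h23 : LocalTwentyThree G) (h11 : LocalEleven G)
    (h2c : ∀ t : G, orderOf t = 2 → Nat.card (cen t) = 2688)
    (h2j : ∀ t s : G, orderOf t = 2 → orderOf s = 2 → IsConj t s) (h7 : LocalSeven G)
    (h5 : LocalFive G) (h3 : LocalThree G) : M23Nse.cnt G 6 = 850080 := by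
  haveI : Fact (Nat.Prime 5) := ⟨by norm_num⟩
  haveI : Fact (Nat.Prime 7) := ⟨by norm_num⟩
  haveI : Fact (Nat.Prime 11) := ⟨by norm_num⟩
  haveI : Fact (Nat.Prime 23) := ⟨by norm_num⟩
  haveI := Fintype.ofFinite G
  have hc : ∀ n, (Finset.univ.filter fun g : G => orderOf g = n).card = M23Nse.cnt G n := fun n => by
    rw [M23Nse.cnt, Nat.card_eq_fintype_card, Fintype.card_subtype]
  obtain ⟨z, hz⟩ := exists_order (p := 3) (G := G) (by norm_num) (by norm_num) hG
  obtain ⟨t, ht⟩ := exists_order (p := 2) (G := G) (by norm_num) (by norm_num) hG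
  have c2 := cnt_class hG h2c h2j ht
  have c3 := cnt_class hG h3.cent h3.conj hz
  have c5 := cnt_local h5 hG (m := 2040192) (by norm_num) (by norm_num)
  have c7 := cnt_local h7 hG (m := 1457280) (by norm_num) (by norm_num)
  have c11 := cnt_local h11 hG (m := 927360) (by norm_num) (by norm_num)
  have c23 := cnt_local h23 hG (m := 443520) (by norm_num) (by norm_num)
  have c1 : M23Nse.cnt G 1 = 1 := CfsgLib.Techniques.OrderClasses.cnt_one G
  have c6 : M23Nse.cnt G 6 = M22Nse.CountsP1.centCnt z 2 * M23Nse.cnt G 3 := by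
    show M22Nse.cnt G 6 = _
    rw [show 6 = 3 * 2 from rfl, M22Nse.CountsP1.cnt_prod (by norm_num),
      Finset.sum_congr rfl fun x hx => centCnt_conj
        (h3.conj x z (Finset.mem_filter.1 hx).2 hz) 2, Finset.sum_const, smul_eq_mul, hc, mul_comm]
  have c14 : M23Nse.cnt G 7 ≤ M23Nse.cnt G 14 := by
    show _ ≤ M22Nse.cnt G 14
    rw [show 14 = 7 * 2 from rfl, M22Nse.CountsP1.cnt_prod (by norm_num), ← hc 7,
      Finset.card_eq_sum_ones]
    refine Finset.sum_le_sum fun a ha => ?_
    obtain ⟨v, hv⟩ := exists_in_cent Nat.prime_two (by norm_num) (Finset.mem_filter.1 ha).2 h7.cent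
    exact Nat.card_pos_iff.2 ⟨⟨⟨v, hv⟩⟩, inferInstance⟩
  have c15 : M23Nse.cnt G 5 * 2 ≤ M23Nse.cnt G 15 := by
    show _ ≤ M22Nse.cnt G 15
    rw [show 15 = 5 * 3 from rfl, M22Nse.CountsP1.cnt_prod (by norm_num), ← hc 5,
      ← smul_eq_mul, ← Finset.sum_const]
    refine Finset.sum_le_sum fun a ha => ?_
    obtain ⟨v, hv, hvo⟩ :=
      exists_in_cent Nat.prime_three (by norm_num) (Finset.mem_filter.1 ha).2 h5.cent
    show 2 ≤ Nat.card {y : G // Commute a y ∧ orderOf y = 3}
    refine le_trans (le_of_eq ?_) (Nat.card_le_card_of_injective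
      (fun b : Bool => if b then (⟨v, hv, hvo⟩ : {y : G // Commute a y ∧ orderOf y = 3})
        else ⟨v⁻¹, hv.inv_right, by rw [orderOf_inv, hvo]⟩) ?_)
    · simp
    · have hne : v ≠ v⁻¹ := fun e => by
        have h1 : v ^ 2 = 1 := by rw [sq]; exact eq_inv_iff_mul_eq_one.1 e
        have h2 := orderOf_dvd_of_pow_eq_one h1
        rw [hvo] at h2; norm_num at h2
      intro b b' e
      cases b <;> cases b' <;> simp [hne, Ne.symm hne] at e ⊢
  set R : Finset ℕ := {1, 2, 3, 5, 6, 7, 11, 14, 15, 23} with hR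
  have hsplit : ∑ n ∈ R, M23Nse.cnt G n ≤ 10200960 := by
    rw [← hG, Nat.card_eq_fintype_card, ← Finset.card_univ, Finset.sum_congr rfl fun n _ => (hc n).symm]
    rw [Finset.sum_card_fiberwise_eq_card_filter]
    exact Finset.card_filter_le _ _
  have hsum : ∑ n ∈ R, M23Nse.cnt G n = M23Nse.cnt G 1 + (M23Nse.cnt G 2 + (M23Nse.cnt G 3 +
      (M23Nse.cnt G 5 + (M23Nse.cnt G 6 + (M23Nse.cnt G 7 + (M23Nse.cnt G 11 + (M23Nse.cnt G 14 +
      (M23Nse.cnt G 15 + M23Nse.cnt G 23)))))))) := by
    simp [hR]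
  obtain ⟨⟨k, hk⟩, hodd⟩ := invol_count h2c h3 hz
  rw [hk] at hodd c6
  have hk1 : k = 1 := by
    rw [show M23Nse.cnt G 3 = 56672 by omega] at c6
    omega
  subst hk1
  rw [c6, show M23Nse.cnt G 3 = 56672 by omega]

theorem two_three (hG : Nat.card G = 10200960) (h23 : LocalTwentyThree G) (h11 : LocalEleven G)
    (h2c : ∀ t : G, orderOf t = 2 → Nat.card (cen t) = 2688) (h7 : LocalSeven G)
    (h5 : LocalFive G) (h3 : LocalThree G) (g : G) :
    orderOf g ∈ [5, 7, 11, 14, 15, 23] ∨ orderOf g ∈ [1, 2, 3, 4, 6, 8, 16, 32, 64, 128] := by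
  set n := orderOf g with hn
  by_cases e5 : 5 ∣ n
  · have h := dvd_cent h5 e5
    rw [← hn] at h
    have := Nat.le_of_dvd (by norm_num) h
    interval_cases n <;> first | omega | exact Or.inl (by simp)
  by_cases e7 : 7 ∣ n
  · have h := dvd_cent h7 e7
    rw [← hn] at h
    have := Nat.le_of_dvd (by norm_num) h
    interval_cases n <;> first | omega | exact Or.inl (by simp)
  by_cases e11 : 11 ∣ n
  · rw [show n = 11 from Nat.dvd_antisymm (dvd_cent h11 e11) e11]; exact Or.inl (by simp)
  by_cases e23 : 23 ∣ n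
  · rw [show n = 23 from Nat.dvd_antisymm (dvd_cent h23 e23) e23]; exact Or.inl (by simp)
  refine Or.inr ?_
  have hd : n ∣ 10200960 := hG ▸ orderOf_dvd_natCard g
  rw [show 10200960 = 2 ^ 7 * 3 ^ 2 * 5 * 7 * 11 * 23 from rfl] at hd
  have c : ∀ p, p.Prime → ¬ p ∣ n → n.Coprime p := fun p hp h =>
    (Nat.Coprime.symm (hp.coprime_iff_not_dvd.2 h))
  have hd2 : n ∣ 2 ^ 7 * 3 ^ 2 :=
    (c 5 (by norm_num) e5).dvd_of_dvd_mul_right ((c 7 (by norm_num) e7).dvd_of_dvd_mul_right
      ((c 11 (by norm_num) e11).dvd_of_dvd_mul_right ((c 23 (by norm_num) e23).dvd_of_dvd_mul_right hd)))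
  obtain ⟨a, b, ha, hb, hab⟩ := Nat.dvd_mul.1 hd2
  obtain ⟨i, hi, rfl⟩ := (Nat.dvd_prime_pow Nat.prime_two).1 ha
  obtain ⟨j, hj, rfl⟩ := (Nat.dvd_prime_pow Nat.prime_three).1 hb
  have h9 : ¬ 9 ∣ n := fun h => no_nine hG h5 h2c h3 _ (exists_pow_orderOf h)
  have h12 : ¬ 12 ∣ n := fun h => by
    have hw := exists_pow_orderOf h
    set w := g ^ (orderOf g / 12)
    exact no_four hG h5 h3 (z := w ^ 4) (y := w ^ 3)
      (by rw [orderOf_pow' _ (by norm_num), hw]; rfl)
      (by rw [orderOf_pow' _ (by norm_num), hw]; rfl) (Commute.pow_pow_self w 3 4)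
  rw [← hab] at h9 h12 ⊢
  interval_cases i <;> interval_cases j
  all_goals first
    | (norm_num; done)
    | (norm_num at h9; done)
    | (norm_num at h12; done)

theorem no_sixteen (hG : Nat.card G = 10200960) (h23 : LocalTwentyThree G) (h11 : LocalEleven G)
    (C : Chars G) (h7 : LocalSeven G) (h5 : LocalFive G) (h6 : M23Nse.cnt G 6 = 850080) (y : G) :
    orderOf y ≠ 16 := by
  intro hy
  haveI : Fact (Nat.Prime 5) := ⟨by norm_num⟩
  haveI : Fact (Nat.Prime 7) := ⟨by norm_num⟩
  haveI : Fact (Nat.Prime 11) := ⟨by norm_num⟩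
  haveI : Fact (Nat.Prime 23) := ⟨by norm_num⟩
  haveI := Fintype.ofFinite G
  haveI := Fintype.ofFinite (ConjClasses G)
  haveI := irrFintype G
  have h17 : Fintype.card (ConjClasses G) = 17 := by
    rw [← Nat.card_eq_fintype_card, ← card_irr_eq_card_classes, Nat.card_eq_fintype_card,
      ← Fintype.card_congr C.c, Fintype.card_fin]
  have hy2 : orderOf (y ^ 2) = 8 := by rw [orderOf_pow' _ (by norm_num), hy]; rfl
  have hy4 : orderOf (y ^ 4) = 4 := by rw [orderOf_pow' _ (by norm_num), hy]; rfl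
  obtain ⟨t, ht⟩ := exists_order (p := 2) (G := G) (by norm_num) (by norm_num) hG
  obtain ⟨z, hz⟩ := exists_order (p := 3) (G := G) (by norm_num) (by norm_num) hG
  obtain ⟨f, hf⟩ := exists_order (p := 5) (G := G) (by norm_num) (by norm_num) hG
  obtain ⟨a, ha⟩ := exists_order (p := 7) (G := G) (by norm_num) (by norm_num) hG
  obtain ⟨b, hb⟩ := exists_order (p := 11) (G := G) (by norm_num) (by norm_num) hG
  obtain ⟨d, hd⟩ := exists_order (p := 23) (G := G) (by norm_num) (by norm_num) hG
  obtain ⟨a', ha', haa⟩ := exists_not_conj ha hG (h7.cent a ha).ge (by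
    have := cnt_local h7 hG (m := 1457280) (by norm_num) (by norm_num)
    omega)
  obtain ⟨b', hb', hbb⟩ := exists_not_conj hb hG (h11.cent b hb).ge (by
    have := cnt_local h11 hG (m := 927360) (by norm_num) (by norm_num)
    omega)
  obtain ⟨d', hd', hdd⟩ := exists_not_conj hd hG (h23.cent d hd).ge (by
    have := cnt_local h23 hG (m := 443520) (by norm_num) (by norm_num)
    omega)
  obtain ⟨⟨u, hu⟩⟩ : Nonempty {g : G // orderOf g = 6} :=
    (Nat.card_pos_iff.1 (show 0 < M23Nse.cnt G 6 by rw [h6]; norm_num)).1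
  -- two classes of order fourteen
  obtain ⟨v, hav, hv⟩ := exists_in_cent Nat.prime_two (show 2 ∣ 14 by norm_num) ha h7.cent
  obtain ⟨v', hav', hv'⟩ := exists_in_cent Nat.prime_two (show 2 ∣ 14 by norm_num) ha' h7.cent
  have ho14 : ∀ {a v : G}, Commute a v → orderOf a = 7 → orderOf v = 2 →
      orderOf (a * v) = 14 ∧ (a * v) ^ 8 = a := fun {a v} h h7 h2 => by
    refine ⟨by rw [h.orderOf_mul_eq_mul_orderOf_of_coprime (by rw [h7, h2]; norm_num), h7, h2], ?_⟩
    rw [h.mul_pow, ← pow_mod_orderOf a, h7, ← pow_mod_orderOf v, h2, pow_one, pow_zero, mul_one]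
  obtain ⟨ho, hp⟩ := ho14 hav ha hv
  obtain ⟨ho', hp'⟩ := ho14 hav' ha' hv'
  have hnc14 : ¬ IsConj (a * v) (a' * v') := fun h => haa (by
    obtain ⟨c, hc⟩ := isConj_iff.1 h
    exact isConj_iff.2 ⟨c, by rw [← hp, ← conj_pow, hc, hp']⟩)
  -- two classes of order fifteen
  obtain ⟨w, hfw, hw⟩ := exists_in_cent Nat.prime_three (show 3 ∣ 15 by norm_num) hf h5.cent
  have hw' : orderOf w⁻¹ = 3 := by rw [orderOf_inv, hw]
  have ho15 : ∀ {w : G}, Commute f w → orderOf w = 3 →
      orderOf (f * w) = 15 ∧ (f * w) ^ 6 = f := fun {w} h h3 => by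
    refine ⟨by rw [h.orderOf_mul_eq_mul_orderOf_of_coprime (by rw [hf, h3]; norm_num), hf, h3], ?_⟩
    rw [h.mul_pow, ← pow_mod_orderOf f, hf, ← pow_mod_orderOf w, h3, pow_one, pow_zero, mul_one]
  obtain ⟨ho5, hp5⟩ := ho15 hfw hw
  obtain ⟨ho5', hp5'⟩ := ho15 hfw.inv_right hw'
  have hnc15 : ¬ IsConj (f * w) (f * w⁻¹) := fun h => by
    obtain ⟨c, hc⟩ := isConj_iff.1 h
    have hcf : Commute c f := mul_inv_eq_iff_eq_mul.1
      (show c * f * c⁻¹ = f by conv_lhs => rw [← hp5]
                               rw [← conj_pow, hc, hp5'])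
    -- the centraliser of an element of order five is cyclic
    have hgen : Subgroup.zpowers (f * w) = cen f := by
      refine Subgroup.eq_of_le_of_card_ge (Subgroup.zpowers_le.2 (mem_cen ?_)) ?_
      · exact (Commute.refl f).mul_left hfw.symm
      · rw [Nat.card_zpowers, ho5, h5.cent f hf]
    obtain ⟨i, hi⟩ := Subgroup.mem_zpowers_iff.1 (hgen.ge (mem_cen hcf))
    have : c * (f * w) * c⁻¹ = f * w := by
      rw [← hi, ← zpow_neg, ← zpow_add_one, ← zpow_add]
      simp
    rw [this] at hc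
    have h1 : w = w⁻¹ := mul_left_cancel hc
    have h2 := orderOf_dvd_of_pow_eq_one (show w ^ 2 = 1 by rw [sq]; exact eq_inv_iff_mul_eq_one.1 h1)
    rw [hw] at h2; norm_num at h2
  set F : ℕ → Finset (ConjClasses G) := fun n => Finset.univ.filter fun K => cord K = n with hF
  have hone : ∀ {x : G} {n : ℕ}, orderOf x = n → 1 ≤ (F n).card := fun {x n} hx =>
    Finset.card_pos.2 ⟨ConjClasses.mk x, Finset.mem_filter.2 ⟨Finset.mem_univ _, hx⟩⟩
  have htwo : ∀ {x y : G} {n : ℕ}, orderOf x = n → orderOf y = n → ¬ IsConj x y → 2 ≤ (F n).card :=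
    fun {x y n} hx hy hxy => Finset.one_lt_card.2
      ⟨ConjClasses.mk x, Finset.mem_filter.2 ⟨Finset.mem_univ _, hx⟩, ConjClasses.mk y,
        Finset.mem_filter.2 ⟨Finset.mem_univ _, hy⟩,
        fun e => hxy (ConjClasses.mk_eq_mk_iff_isConj.1 e)⟩
  set R : Finset ℕ := {1, 2, 3, 4, 5, 6, 7, 8, 11, 14, 15, 16, 23} with hR
  have hsplit : ∑ n ∈ R, (F n).card ≤ 17 := by
    rw [← h17, ← Finset.card_univ]
    rw [Finset.sum_card_fiberwise_eq_card_filter]
    exact Finset.card_filter_le _ _
  have hsum : ∑ n ∈ R, (F n).card = (F 1).card + ((F 2).card + ((F 3).card + ((F 4).card +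
      ((F 5).card + ((F 6).card + ((F 7).card + ((F 8).card + ((F 11).card + ((F 14).card +
      ((F 15).card + ((F 16).card + (F 23).card))))))))))) := by
    simp [hR]
  have := hone (orderOf_one (G := G))
  have := hone ht
  have := hone hz
  have := hone hf
  have := hone hu
  have := hone hy
  have := hone hy2
  have := hone hy4
  have := htwo ha ha' haa
  have := htwo hb hb' hbb
  have := htwo hd hd' hdd
  have := htwo ho ho' hnc14
  have := htwo ho5 ho5' hnc15
  omega

end OrdK

universe u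

/-- Piece K. -/
theorem orders : OrdersStmt.{u} := fun _ _ _ _ hG h23 h11 C h2 h7 h5 h3 => by
  have h6 := OrdK.cnt_six hG h23 h11 h2.cent h2.conj h7 h5 h3
  refine ⟨fun g => ?_, h6⟩
  have no16 : ∀ d, d ∣ orderOf g → d ≠ 16 := fun d hd e =>
    OrdK.no_sixteen hG h23 h11 C h7 h5 h6 _ ((OrdK.exists_pow_orderOf hd).trans e)
  rcases OrdK.two_three hG h23 h11 h2.cent h7 h5 h3 g with h | h <;>
    simp only [List.mem_cons, List.not_mem_nil, or_false] at h ⊢
  · omega
  · rcases h with h | h | h | h | h | h | h | h | h | h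
    all_goals first
      | omega
      | exact absurd rfl (no16 16 (h.symm ▸ (by norm_num)))

end CfsgLib.M23Order
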