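import Cfsg.Agent.Lib.M23Order.SevenArith
import Cfsg.Agent.Lib.M12Order.FiveEvenTools
import Cfsg.Agent.Lib.M12Order.ThreeBase
import Cfsg.Agent.Lib.Small.Order7920
import Cfsg.Agent.Lib.CharApps.PrimeClassBound
import Cfsg.Agent.Lib.CharApps.PrincipalColumns
import Cfsg.Agent.Lib.CharApps.ClassCount

/-!
# Simple groups of order 10200960: the structure at seven

From the degrees the principal block at seven is `1, 990, 990, 1035, 2024` with three values `±1`,
so an element `x` of order seven has centralizer of order `7 c` with `c` in `{2, 16}`; the relations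
at 11 and 23, the column norm and the number of factorizations of `x` exclude 16
(piece Seven of `tools/S1664/gap2_helper7.md`).
-/

set_option autoImplicit false
set_option linter.style.haveILetI false
set_option linter.unusedSectionVars false

open Cfsg CfsgLib.Chars CfsgLib.CharApps CfsgLib.Blocks CfsgLib.Small
open scoped ComplexConjugate

namespace CfsgLib.M23Order.SevenCase

universe u

variable {G : Type u} [Group G] [Finite G]

/-- The principal block: `e = 3` and five known characters. -/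
theorem block (C : M23Order.Chars G) [Fact (Nat.Prime 7)] {M : Ideal AlgInt} (hM : IsPModular 7 M)
    (P : Sylow 7 G) (hP : Nat.card (P : Subgroup G) = 7) {e : ℕ}
    (he : (Subgroup.centralizer ((P : Subgroup G) : Set G)).relIndex
      (Subgroup.normalizer ((P : Subgroup G) : Set G)) = e) (he1 : 1 < e) (hed : e ∣ 6) :
    e = 3 ∧ (∀ χ, χ ∈ principalBlock M G ↔
      χ = C.c 0 ∨ χ = C.c 13 ∨ χ = C.c 14 ∨ χ = C.c 15 ∨ χ = C.c 16) ∧
      ∀ w ∈ (P : Subgroup G), w ≠ 1 →
        (C.c 15 : G → ℂ) w = -1 ∧ (C.c 16 : G → ℂ) w = 1 := by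
  classical
  haveI := Fintype.ofFinite G
  haveI := hM.2.1.isPrime
  obtain ⟨X, Y, σ, ε, hB, hdisj, hX, hY, hXp, hε, hYd, -, hrel⟩ :=
    Small.O7920.exists_block_data (by norm_num) hM P hP he
  have hdeg : ∀ χ : IrrCharacter G, charDegree (χ : G → ℂ) = degs (C.c.symm χ) := fun χ => by
    have h := C.deg (C.c.symm χ)
    rwa [Equiv.apply_symm_apply] at h
  have hXd : ∀ χ ∈ X, (degs (C.c.symm χ) % 7 = 1 ∨ degs (C.c.symm χ) % 7 = 6) ∧
      σ χ * (degs (C.c.symm χ) : ℤ) = sd (degs (C.c.symm χ)) := fun χ hχ => by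
    obtain ⟨hs, hm, -⟩ := hXp χ hχ
    rw [hdeg] at hm
    exact sd_eq hs hm
  have hY' : ∀ θ ∈ Y, ε * (degs (C.c.symm θ) : ℤ) % 7 = (e : ℤ) % 7 := fun θ hθ => by
    have h := hYd θ hθ
    rw [hdeg] at h
    exact h
  have hcases : e = 2 ∨ e = 3 ∨ e = 6 := by
    have := Nat.le_of_dvd (by norm_num) hed
    interval_cases e <;> omega
  obtain ⟨θ, hθ⟩ := Finset.card_pos.1 (show 0 < Y.card by
    rcases hcases with rfl | rfl | rfl <;> norm_num [hY])
  rcases hcases with rfl | rfl | rfl
  · exfalso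
    have h := hY' θ hθ
    obtain ⟨h1, h2⟩ := deg_two_none (C.c.symm θ)
    rcases hε with h' | h' <;> rw [h'] at h <;> omega
  swap
  · exfalso
    have hsub : (X ∪ Y).map C.c.symm.toEmbedding ⊆ signIdx := by
      intro i hi
      obtain ⟨χ, hχ, rfl⟩ := Finset.mem_map.1 hi
      refine mem_signIdx _ ?_
      rcases Finset.mem_union.1 hχ with h | h
      · exact (hXd χ h).1
      · have := hY' χ h
        rcases hε with h' | h' <;> rw [h'] at this <;>
          simp only [Equiv.coe_toEmbedding] <;> omega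
    have := Finset.card_le_card hsub
    rw [Finset.card_map, Finset.card_union_of_disjoint hdisj, hX, hY] at this
    have hcard : signIdx.card = 6 := by decide +kernel
    omega
  have hprinY : C.c 0 ∉ Y := fun h => by
    have := hY' _ h
    rw [Equiv.symm_apply_apply, show degs 0 = 1 from rfl] at this
    rcases hε with h' | h' <;> rw [h'] at this <;> omega
  have hprin : C.c 0 ∈ X := by
    refine ((hB _).1 ?_).resolve_right hprinY
    rw [C.principal]
    exact CfsgLib.Blocks.principal_mem_principalBlock M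
  obtain ⟨a, b, hab, hXe⟩ := Finset.card_eq_two.1 (show (X.erase (C.c 0)).card = 2 by
    rw [Finset.card_erase_of_mem hprin, hX])
  have hmem : ∀ χ, χ = a ∨ χ = b → χ ∈ X ∧ C.c.symm χ ≠ 0 := fun χ hχ => by
    have h : χ ∈ X.erase (C.c 0) := by rw [hXe]; simpa using hχ
    rw [Finset.mem_erase] at h
    exact ⟨h.2, fun h0 => h.1 (by rw [← h0, Equiv.apply_symm_apply])⟩
  obtain ⟨hax, ha0⟩ := hmem a (Or.inl rfl)
  obtain ⟨hbx, hb0⟩ := hmem b (Or.inr rfl)
  have hσp : σ (C.c 0) = 1 := by
    obtain ⟨hs, hm, -⟩ := hXp _ hprin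
    rw [hdeg, Equiv.symm_apply_apply, show degs 0 = 1 from rfl] at hm
    unfold Int.ModEq at hm
    rcases hs with h | h <;> rw [h] at hm ⊢
    norm_num at hm
  have hYdeg : ∀ χ ∈ Y, degs (C.c.symm χ) = 45 ∨ degs (C.c.symm χ) = 990 := fun χ hχ => by
    refine deg_three _ ?_
    have := hY' χ hχ
    rcases hε with h' | h' <;> rw [h'] at this <;> omega
  have shape : ∀ χ ∈ Y, degs (C.c.symm χ) = 990 ∧
      ((C.c.symm a = 15 ∧ C.c.symm b = 16) ∨ (C.c.symm a = 16 ∧ C.c.symm b = 15)) := by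
    intro χ hχ
    have h := hrel χ hχ 1 (by rw [orderOf_one]; norm_num)
    rw [← Finset.add_sum_erase _ _ hprin, hXe, Finset.sum_pair hab, hσp] at h
    simp only [deg_eq, hdeg, Equiv.symm_apply_apply] at h
    have h' : ε * (degs (C.c.symm χ) : ℤ) = 1 + (sd (degs (C.c.symm a)) + sd (degs (C.c.symm b))) := by
      rw [← (hXd a hax).2, ← (hXd b hbx).2]
      rw [show degs 0 = 1 from rfl] at h
      apply Int.cast_injective (α := ℂ)
      push_cast at h ⊢
      linear_combination h
    refine three_shape _ (hXd a hax).1 ha0 _ (hXd b hbx).1 hb0 (fun h2 => hab ?_) _ ?_ ?_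
    · simpa using h2
    · rcases hYdeg χ hχ with h2 | h2 <;> simp [h2]
    · rw [← h']
      rcases hε with h2 | h2 <;> simp [h2]
  have hYeq : Y = {C.c 13, C.c 14} := by
    refine Finset.eq_of_subset_of_card_le (fun χ hχ => ?_) ?_
    · rcases idx_nine_ninety _ (shape χ hχ).1 with h | h <;>
        simp [← h]
    · rw [Finset.card_pair (fun h => absurd (C.c.injective h) (by decide)), hY]
  have hsh : (a = C.c 15 ∧ b = C.c 16) ∨ (a = C.c 16 ∧ b = C.c 15) := by
    simpa [Equiv.symm_apply_eq] using (shape θ hθ).2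
  have hX15 : C.c 15 ∈ X ∧ C.c 16 ∈ X := by
    rcases hsh with ⟨rfl, rfl⟩ | ⟨rfl, rfl⟩
    exacts [⟨hax, hbx⟩, ⟨hbx, hax⟩]
  refine ⟨rfl, fun χ => ?_, fun w hw hw1 => ?_⟩
  · rw [hB χ, ← Finset.insert_erase hprin, hXe, hYeq]
    simp only [Finset.mem_insert, Finset.mem_singleton]
    rcases hsh with ⟨rfl, rfl⟩ | ⟨rfl, rfl⟩ <;> tauto
  · obtain ⟨s1, m1, v1⟩ := hXp _ hX15.1
    obtain ⟨s2, m2, v2⟩ := hXp _ hX15.2
    rw [C.deg, show degs 15 = 1035 from rfl] at m1
    rw [C.deg, show degs 16 = 2024 from rfl] at m2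
    unfold Int.ModEq at m1 m2
    rw [v1 w hw hw1, v2 w hw hw1]
    constructor
    · rcases s1 with h | h
      · norm_num [h] at m1
      · simp [h]
    · rcases s2 with h | h
      · simp [h]
      · norm_num [h] at m2

/-- An element of order seven is conjugate to its square and not to its inverse. -/
theorem fusion [Fact (Nat.Prime 7)] (P : Sylow 7 G) {x : G} (hx : orderOf x = 7)
    (hPx : (P : Subgroup G) = Subgroup.zpowers x)
    (he : (Subgroup.centralizer ((P : Subgroup G) : Set G)).relIndex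
      (Subgroup.normalizer ((P : Subgroup G) : Set G)) = 3) :
    IsConj x (x ^ 2) ∧ ¬ IsConj x x⁻¹ := by
  classical
  set N := Subgroup.normalizer ((P : Subgroup G) : Set G) with hN
  set D := Subgroup.centralizer ((P : Subgroup G) : Set G) with hD
  haveI : (D.subgroupOf N).Normal := by
    rw [← Subgroup.normalizerMonoidHom_ker]
    exact MonoidHom.normal_ker _
  have hcube : ∀ n ∈ N, n ^ 3 * x = x * n ^ 3 := by
    intro n hn
    have h := Subgroup.pow_index_mem (D.subgroupOf N) ⟨n, hn⟩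
    rw [← Subgroup.relIndex, he, Subgroup.mem_subgroupOf, SubmonoidClass.coe_pow] at h
    exact (Subgroup.mem_centralizer_iff.1 h x (hPx ▸ Subgroup.mem_zpowers x)).symm
  have hx7 : x ^ 7 = 1 := hx ▸ pow_orderOf_eq_one x
  have hmod : ∀ k : ℕ, x ^ k = x ^ (k % 7) := fun k => by
    conv_lhs => rw [← Nat.mod_add_div k 7, pow_add, pow_mul, hx7, one_pow, mul_one]
  have hiter : ∀ (g : G) (k : ℕ), g * x * g⁻¹ = x ^ k → ∀ j,
      g ^ j * x * (g ^ j)⁻¹ = x ^ k ^ j := by
    intro g k hk j
    induction j with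
    | zero => simp
    | succ j ih =>
      rw [pow_succ', mul_inv_rev,
        show g * g ^ j * x * ((g ^ j)⁻¹ * g⁻¹) = g * (g ^ j * x * (g ^ j)⁻¹) * g⁻¹ by group,
        ih, ← conj_pow, hk, ← pow_mul, pow_succ']
  constructor
  · have hne : ¬ N ≤ D := fun hle => by
      rw [← Subgroup.relIndex_eq_one, he] at hle
      norm_num at hle
    obtain ⟨n, hn, hnD⟩ := Set.not_subset.1 hne
    obtain ⟨k, hk⟩ : ∃ k : ℕ, n * x * n⁻¹ = x ^ k := by
      have h1 : n * x * n⁻¹ ∈ (P : Subgroup G) :=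
        (Subgroup.mem_normalizer_iff.1 hn x).1 (hPx ▸ Subgroup.mem_zpowers x)
      rw [hPx, ← mem_powers_iff_mem_zpowers] at h1
      obtain ⟨k, hk⟩ := h1
      exact ⟨k, hk.symm⟩
    rw [hmod] at hk
    have hk7 : k % 7 < 7 := Nat.mod_lt _ (by norm_num)
    generalize k % 7 = r at hk hk7
    have h3 : x ^ r ^ 3 = x ^ 1 := by
      rw [← hiter n r hk 3, hcube n hn, pow_one, mul_inv_cancel_right]
    rw [pow_eq_pow_iff_modEq, hx] at h3
    have hr : r = 2 ∨ r = 4 := by
      interval_cases r <;> simp [Nat.ModEq] at h3 ⊢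
      exfalso
      refine hnD ?_
      rw [SetLike.mem_coe, hD, hPx, M12Order.FiveEven.centralizer_zpowers,
        Subgroup.mem_centralizer_singleton_iff]
      rw [pow_one, mul_inv_eq_iff_eq_mul] at hk
      exact hk
    rcases hr with rfl | rfl
    · exact isConj_iff.2 ⟨n, hk⟩
    · refine isConj_iff.2 ⟨n ^ 2, ?_⟩
      rw [hiter n 4 hk 2, hmod]
      rfl
  · intro hc
    obtain ⟨g, hg⟩ := isConj_iff.1 hc
    have hgN : g ∈ N := by
      rw [hN, hPx]
      refine Subgroup.mem_normalizer_iff_map_conj_eq.2 ?_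
      rw [MonoidHom.map_zpowers]
      simp [hg]
    have hk : g * x * g⁻¹ = x ^ 6 := by
      rw [hg]
      exact (eq_inv_of_mul_eq_one_left (by rw [← pow_succ, hx7])).symm
    have h3 : x ^ 6 ^ 3 = x ^ 1 := by
      rw [← hiter g 6 hk 3, hcube g hgN, pow_one, mul_inv_cancel_right]
    rw [pow_eq_pow_iff_modEq, hx] at h3
    simp [Nat.ModEq] at h3

/-- A value fixed by the automorphisms of the group generated by an element of order seven. -/
theorem int_val (χ : IrrCharacter G) {x : G} (hx : orderOf x = 7) (h2 : IsConj x (x ^ 2))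
    (hr : conj ((χ : G → ℂ) x) = (χ : G → ℂ) x) :
    ∃ m : ℤ, (m : ℂ) = (χ : G → ℂ) x ∧ (7 : ℤ) ∣ m - charDegree (χ : G → ℂ) := by
  haveI := Fact.mk (show Nat.Prime 7 by norm_num)
  have hx7 : x ^ 7 = 1 := by rw [← hx, pow_orderOf_eq_one]
  have hcls : ∀ {g h : G}, IsConj g h → (χ : G → ℂ) g = (χ : G → ℂ) h := fun h =>
    classFun_of_isConj (isClassFunction_of_isCharacter (isCharacter_of_irr χ.2)) h
  have h4 : IsConj x (x ^ 4) := by
    refine h2.trans ?_
    obtain ⟨g, hg⟩ := isConj_iff.1 h2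
    exact isConj_iff.2 ⟨g, by rw [← conj_pow, hg, ← pow_mul]⟩
  have hinv : ∀ {j : ℕ}, x ^ j = (x ^ (7 - j))⁻¹ ∨ 7 < j := fun {j} => by
    rcases Nat.lt_or_ge 7 j with h | h
    · exact Or.inr h
    · refine Or.inl (eq_inv_of_mul_eq_one_left ?_)
      rw [← pow_add, Nat.add_sub_cancel' h, hx7]
  obtain ⟨m, hm⟩ : ∃ m : ℤ, (m : ℂ) = (χ : G → ℂ) x := by
    refine exists_int_of_rat (char_isIntegral (isCharacter_of_irr χ.2) x)
      (exists_rat_of_fixed (N := 7) (char_mem_cyclo (isCharacter_of_irr χ.2) x hx7)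
        fun k σ hk hσ => ?_)
    rw [galois_apply σ hσ (isCharacter_of_irr χ.2) x hx7, pow_eq_pow_mod k hx7]
    have h0 : k % 7 ≠ 0 := fun h => by
      have := Nat.dvd_gcd (Nat.dvd_of_mod_eq_zero h) (dvd_refl 7)
      rw [hk] at this
      norm_num at this
    have hlt : k % 7 < 7 := Nat.mod_lt _ (by norm_num)
    generalize k % 7 = r at h0 hlt
    have hneg : ∀ s, s ≤ 7 → (χ : G → ℂ) (x ^ (7 - s)) = (χ : G → ℂ) x →
        (χ : G → ℂ) (x ^ s) = (χ : G → ℂ) x := fun s hs h => by
      rw [(hinv (j := s)).resolve_right (by omega), char_inv (isCharacter_of_irr χ.2), h, hr]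
    interval_cases r
    · exact absurd rfl h0
    · rw [pow_one]
    · exact (hcls h2).symm
    · exact hneg 3 (by norm_num) (hcls h4).symm
    · exact (hcls h4).symm
    · exact hneg 5 (by norm_num) (hcls h2).symm
    · exact hneg 6 (by norm_num) (by rw [pow_one])
  exact ⟨m, hm, int_congr_of_pow_eq_one (p := 7) χ hx7 hm⟩

/-- The conjugate of a character among those of the same degree. -/
theorem conj_idx (C : M23Order.Chars G) (i : Fin 17) :
    ∃ j, degs j = degs i ∧ ∀ g, conj ((C.c i : G → ℂ) g) = (C.c j : G → ℂ) g := by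
  obtain ⟨j, hj⟩ : ∃ j, C.c j = conjIrr (C.c i) := ⟨_, C.c.apply_symm_apply _⟩
  have hval : ∀ g, conj ((C.c i : G → ℂ) g) = (C.c j : G → ℂ) g := fun g => by rw [hj]; rfl
  refine ⟨j, ?_, hval⟩
  have h1 := hval 1
  rw [deg_eq, deg_eq, C.deg, C.deg, map_natCast] at h1
  exact_mod_cast h1.symm

variable [IsSimpleGroup G]

/-- The elements of order seven. -/
theorem key (hG : Nat.card G = 10200960) (C : M23Order.Chars G) {x : G} (hx : orderOf x = 7) :
    Nat.card (cen x) = 14 ∧
      Nat.card (Subgroup.normalizer ((Subgroup.zpowers x : Subgroup G) : Set G)) = 42 := by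
  classical
  haveI := Fintype.ofFinite G
  haveI := Fact.mk (show Nat.Prime 7 by norm_num)
  have hsq : ¬ 7 ^ 2 ∣ Nat.card G := by rw [hG]; norm_num
  obtain ⟨P, hPx, hP⟩ := M12Order.FiveEven.exists_sylow_zpowers hsq hx
  have hnab : ¬ IsMulCommutative G := not_isMulCommutative_of_card (by rw [hG]; norm_num)
  obtain ⟨e, he1, hed, hce⟩ := exists_normalizer_centralizer hnab P hP
  have hrel : (Subgroup.centralizer ((P : Subgroup G) : Set G)).relIndex
      (Subgroup.normalizer ((P : Subgroup G) : Set G)) = e := by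
    have h := Subgroup.relIndex_mul_relIndex (⊥ : Subgroup G) _ _ bot_le
      (Subgroup.centralizer_le_normalizer ((P : Subgroup G) : Set G))
    rw [Subgroup.relIndex_bot_left, Subgroup.relIndex_bot_left, ← hce] at h
    exact Nat.eq_of_mul_eq_mul_left Nat.card_pos h
  obtain ⟨M, hM⟩ := CharApps.exists_pModular (p := 7)
  haveI := hM.2.1.isPrime
  obtain ⟨rfl, hB, hval⟩ := block C hM P hP hrel he1 (by simpa using hed)
  obtain ⟨h2, hinv⟩ := fusion P hx hPx hrel
  have hx1 : x ≠ 1 := fun h => by rw [h, orderOf_one] at hx; norm_num at hx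
  obtain ⟨hv15, hv16⟩ := hval x (hPx ▸ Subgroup.mem_zpowers x) hx1
  obtain ⟨c, hc⟩ := dvd_card_centralizer P hP
  have hmul := card_normalizer_mul P
  rw [← hce, hc, hG] at hmul
  have hnm : Nat.card (Sylow 7 G) % 7 = 1 := card_sylow_modEq_one 7 G
  have hCx : Nat.card (cen x) = 7 * c := by
    rw [← hc, hPx, M12Order.FiveEven.centralizer_zpowers]
  have hidx : (cen x).index * c = 1457280 := by
    have h := (cen x).card_mul_index
    rw [hCx, hG] at h
    linarith
  have hc16 : c ∣ 16 := by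
    have h1 := degree_dvd_index_mul (C.c 15) (x := x) (v := -1) (by rw [hv15]; norm_num)
    have h2 := degree_dvd_index_mul (C.c 16) (x := x) (v := 1) (by rw [hv16]; norm_num)
    rw [C.deg, mul_neg_one, dvd_neg, Int.natCast_dvd_natCast] at h1
    rw [C.deg, mul_one, Int.natCast_dvd_natCast] at h2
    have h3 : Nat.lcm (degs 15) (degs 16) ∣ (cen x).index := Nat.lcm_dvd h1 h2
    obtain ⟨k, hk⟩ := h3
    rw [show Nat.lcm (degs 15) (degs 16) = 91080 by decide +kernel] at hk
    rw [hk] at hidx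
    exact ⟨k, by linarith⟩
  rw [← hPx, ← hce, hc, hCx]
  rcases orders hnm hc16 (by linarith) with rfl | rfl
  · exact ⟨rfl, rfl⟩
  exfalso
  -- the column at `x`
  set v : Fin 17 → ℂ := fun i => (C.c i : G → ℂ) x with hv
  have hfin : ∀ g : G, ∑ᶠ χ ∈ principalBlock M G, (χ : G → ℂ) x * conj ((χ : G → ℂ) g) =
      ∑ i ∈ ({0, 13, 14, 15, 16} : Finset (Fin 17)), v i * conj ((C.c i : G → ℂ) g) := by
    intro g
    have hset : principalBlock M G =
        ↑(({0, 13, 14, 15, 16} : Finset (Fin 17)).map C.c.toEmbedding) := by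
      ext χ
      simp [hB χ]
    rw [hset, finsum_mem_coe_finset, Finset.sum_map]
    rfl
  have hv0 : v 0 = 1 := by rw [hv]; simp only [C.principal, principal_apply]
  have hz : ∀ i ∈ ([5, 6, 7, 9, 10, 11, 12] : List (Fin 17)), v i = 0 := fun i hi =>
    eq_zero_of_dvd_orderOf (C.c i).2 (p := 7) (n := 1) Fact.out (deg_eq _) hsq
      (by rw [C.deg, pow_one]; exact zero_idx i hi) (by rw [hx])
  have hord : ∃ k, orderOf x = 7 ^ k := ⟨1, by rw [hx, pow_one]⟩
  have hy : v 13 + v 14 = -1 := by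
    have h := principal_column_orth_of_not_isConj hM hord (x := (1 : G))
      ⟨0, by rw [orderOf_one, pow_zero]⟩ (fun h => hx1 (isConj_one_left.1 h))
    rw [hfin] at h
    simp [deg_eq, C.deg, degs, hv0] at h
    change v 15 = -1 at hv15
    change v 16 = 1 at hv16
    rw [hv15, hv16] at h
    linear_combination h / 990
  have hyq : v 13 ^ 2 + v 14 ^ 2 + 3 = 0 := by
    have h := principal_column_orth_of_not_isConj hM hord (x := x⁻¹)
      ⟨1, by rw [orderOf_inv, hx, pow_one]⟩ hinv
    rw [hfin] at h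
    simp only [char_inv (isCharacter_of_irr (C.c _).2), Complex.conj_conj] at h
    simp [hv0] at h
    change v 15 = -1 at hv15
    change v 16 = 1 at hv16
    rw [hv15, hv16] at h
    simp only [hv] at hv0 hv15 hv16 h ⊢
    rw [hv0, hv15, hv16] at h
    linear_combination h
  have hconj : ∀ i j k : Fin 17, (∀ l, degs l = degs i → l = j ∨ l = k) →
      conj (v i) = v j ∨ conj (v i) = v k := fun i j k h => by
    obtain ⟨l, hl, hval⟩ := conj_idx C i
    rcases h l hl with rfl | rfl
    exacts [Or.inl (hval x), Or.inr (hval x)]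
  have hy2 := pair_seven hy hyq (hconj 13 13 14 fun l h => idx_nine_ninety l (h.trans rfl))
  have hr1 : conj (v 1) = v 1 := (hconj 1 1 1 fun l h => Or.inl (idx_twenty_two l (h.trans rfl))).elim
    id id
  obtain ⟨a, ha, ha7⟩ := int_val (C.c 1) hx h2 hr1
  rw [C.deg, show degs 1 = 22 from rfl] at ha7
  refine column (v := v) (c := 16) hv0 hz hv15 hv16 hy hy2 ha.symm (by omega)
    (C.rel23 x (by rw [hx]; norm_num)).2 (C.rel11 x (by rw [hx]; norm_num)).2 ?_ ?_
    (hconj 2 2 3 fun l h => idx_forty_five l (h.trans rfl))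
    (IsIntegral.mul (char_isIntegral (isCharacter_of_irr (C.c 2).2) x)
      (char_isIntegral (isCharacter_of_irr (C.c 3).2) x)) ?_ rfl
  · have h := M12Order.ThreeColumns.orth_zero C.c (g := x) (h := (1 : G))
      (by rw [hx, orderOf_one]; norm_num)
    simp only [deg_eq, C.deg, map_natCast] at h
    simpa [hv, mul_comm] using h
  · have h := M12Order.ThreeColumns.norm_sum C.c x
    exact h.trans (by rw [hCx])
  · haveI := irrFintype G
    refine ⟨Nat.card (M12Order.ThreeColumns.Pairs x x⁻¹ x), ?_⟩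
    rw [M12Order.ThreeColumns.Pairs, card_conj_mul_conj, hG, ← C.c.sum_comp]
    simp only [deg_eq, C.deg, char_inv (isCharacter_of_irr (C.c _).2)]
    rfl

end CfsgLib.M23Order.SevenCase

namespace CfsgLib.M23Order

universe u

/-- Piece H. -/
theorem seven : SevenStmt.{u} := by
  intro G _ _ hs hG _ _ C _
  haveI := hs
  haveI := Fact.mk (show Nat.Prime 7 by norm_num)
  refine ⟨fun x hx => (SevenCase.key hG C hx).1, fun P => ?_⟩
  have hP : Nat.card (P : Subgroup G) = 7 := by
    simpa using Small.card_sylow_eq (p := 7) 1 1457280 (by rw [hG]; rfl) (by norm_num) P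
  obtain ⟨⟨x, hxP⟩, hx⟩ := exists_prime_orderOf_dvd_card' (G := (P : Subgroup G)) 7 (by rw [hP])
  rw [Subgroup.orderOf_mk] at hx
  rw [(Subgroup.eq_of_le_of_card_ge (Subgroup.zpowers_le.2 hxP)
    (by rw [Nat.card_zpowers, hx, hP])).symm]
  exact (SevenCase.key hG C hx).2

end CfsgLib.M23Order
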