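import Cfsg.Agent.Lib.M23Order.Interface
import Cfsg.Agent.Lib.CharApps.Galois

/-!
# Simple groups of order 10200960: arithmetic of the block and the column at seven
-/

set_option autoImplicit false

open CfsgLib.Chars CfsgLib.CharApps
open scoped ComplexConjugate

namespace CfsgLib.M23Order.SevenCase

/-- The characters with degree congruent to a sign. -/
def signIdx : Finset (Fin 17) := {0, 1, 4, 8, 15, 16}

/-- The signed degree. -/
def sd (d : ℕ) : ℤ := if d % 7 = 1 then (d : ℤ) else -(d : ℤ)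

theorem sd_eq {d : ℕ} {s : ℤ} (hs : s = 1 ∨ s = -1) (hm : s * (d : ℤ) % 7 = 1) :
    (d % 7 = 1 ∨ d % 7 = 6) ∧ s * (d : ℤ) = sd d := by
  refine ⟨?_, ?_⟩
  · rcases hs with rfl | rfl <;> omega
  · unfold sd
    rcases hs with rfl | rfl <;> split_ifs <;> omega

theorem deg_two_none : ∀ i, degs i % 7 ≠ 2 ∧ degs i % 7 ≠ 5 := by decide +kernel

theorem mem_signIdx : ∀ i, (degs i % 7 = 1 ∨ degs i % 7 = 6) → i ∈ signIdx := by decide +kernel

theorem deg_three : ∀ i, (degs i % 7 = 3 ∨ degs i % 7 = 4) → degs i = 45 ∨ degs i = 990 := by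
  decide +kernel

theorem idx_nine_ninety : ∀ i, degs i = 990 → i = 13 ∨ i = 14 := by decide +kernel

theorem idx_twenty_two : ∀ i, degs i = 22 → i = 1 := by decide +kernel

theorem idx_forty_five : ∀ i, degs i = 45 → i = 2 ∨ i = 3 := by decide +kernel

theorem three_shape : ∀ i : Fin 17, (degs i % 7 = 1 ∨ degs i % 7 = 6) → i ≠ 0 →
    ∀ j : Fin 17, (degs j % 7 = 1 ∨ degs j % 7 = 6) → j ≠ 0 → i ≠ j →
    ∀ D ∈ ([45, 990] : List ℕ), (1 + (sd (degs i) + sd (degs j))).natAbs = D →
      D = 990 ∧ ((i = 15 ∧ j = 16) ∨ (i = 16 ∧ j = 15)) := by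
  decide +kernel

theorem zero_idx : ∀ i ∈ ([5, 6, 7, 9, 10, 11, 12] : List (Fin 17)), 7 ∣ degs i := by
  decide +kernel

/-- The possible orders. -/
theorem orders {c n : ℕ} (hn : n % 7 = 1) (hc : c ∣ 16) (h : c * n = 485760) :
    c = 2 ∨ c = 16 := by
  have hc' : c ≤ 16 := Nat.le_of_dvd (by norm_num) hc
  interval_cases c <;> omega

theorem sum17 {A : Type*} [AddCommMonoid A] (f : Fin 17 → A) :
    ∑ i, f i = f 0 + f 1 + f 2 + f 3 + f 4 + f 5 + f 6 + f 7 + f 8 + f 9 + f 10 + f 11 + f 12 +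
      f 13 + f 14 + f 15 + f 16 := by
  simp [Fin.sum_univ_succ, add_assoc]

/-- Two values adding up to a real number, closed under conjugation. -/
theorem pair_cases {u w : ℂ} {r : ℝ} (hs : u + w = (r : ℂ)) (h : conj u = u ∨ conj u = w) :
    (conj u = u ∧ conj w = w) ∨ (conj u = w ∧ conj w = u) := by
  have hc : conj u + conj w = u + w := by rw [← map_add, hs, Complex.conj_ofReal]
  rcases h with h | h
  · exact Or.inl ⟨h, by linear_combination hc - h⟩
  · exact Or.inr ⟨h, by linear_combination hc - h⟩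

theorem normSq_of_conj {u w : ℂ} (h : conj u = w) : (Complex.normSq u : ℂ) = u * w := by
  rw [← h, Complex.mul_conj]

/-- The exceptional pair at an element of order seven. -/
theorem pair_seven {u w : ℂ} (hs : u + w = -1) (hq : u ^ 2 + w ^ 2 + 3 = 0)
    (h : conj u = u ∨ conj u = w) :
    Complex.normSq u = 2 ∧ Complex.normSq w = 2 := by
  have hp : u * w = 2 := by linear_combination ((u + w - 1) * hs - hq) / 2
  rcases pair_cases (r := -1) (by push_cast; exact hs) h with ⟨hu, hw⟩ | ⟨hu, hw⟩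
  · exfalso
    have h1 := normSq_of_conj hu
    have h2 := normSq_of_conj hw
    have h3 : ((Complex.normSq u + Complex.normSq w : ℝ) : ℂ) = ((-3 : ℝ) : ℂ) := by
      push_cast
      rw [h1, h2]
      linear_combination hq
    have := Complex.ofReal_injective h3
    linarith [Complex.normSq_nonneg u, Complex.normSq_nonneg w]
  · constructor <;> refine Complex.ofReal_injective ?_
    · rw [normSq_of_conj hu, hp]; norm_num
    · rw [normSq_of_conj hw, mul_comm, hp]; norm_num

/-- The column at an element of order seven with centralizer of order `7 * c`. -/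
theorem column {v : Fin 17 → ℂ} {a : ℤ} {c : ℕ}
    (h0 : v 0 = 1) (hz : ∀ i ∈ ([5, 6, 7, 9, 10, 11, 12] : List (Fin 17)), v i = 0)
    (h15 : v 15 = -1) (h16 : v 16 = 1) (hy : v 13 + v 14 = -1)
    (hy2 : Complex.normSq (v 13) = 2 ∧ Complex.normSq (v 14) = 2)
    (ha : v 1 = (a : ℂ)) (ha7 : a % 7 = 1)
    (h23 : ∑ i, (r23 i : ℂ) * v i = 0) (h11 : ∑ i, (r11 i : ℂ) * v i = 0)
    (horth : ∑ i, (degs i : ℂ) * v i = 0)
    (hnorm : ∑ i, Complex.normSq (v i) = ((7 * c : ℕ) : ℝ))
    (hb : conj (v 2) = v 2 ∨ conj (v 2) = v 3) (hint : IsIntegral ℤ (v 2 * v 3))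
    (hcnt : ∃ m : ℕ, (m : ℂ) =
      10200960 * ∑ i, v i * conj (v i) * conj (v i) / (degs i : ℂ)) :
    c ≠ 16 := by
  simp only [List.forall_mem_cons, List.not_mem_nil, false_imp_iff, implies_true, and_true] at hz
  obtain ⟨z5, z6, z7, z9, z10, z11, z12⟩ := hz
  simp [sum17, r23, h0, z5, z6, z7, z9, z10, z11, z12, ha, h15, h16] at h23
  simp [sum17, r11, h0, z5, z6, z7, z9, z10, z11, z12, ha, h15, h16] at h11
  simp [sum17, degs, h0, z5, z6, z7, z9, z10, z11, z12, ha, h15, h16] at horth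
  have hb12 : v 2 + v 3 = -(a : ℂ) := by linear_combination hy - h23
  have hf : v 4 = -(a : ℂ) := by linear_combination hb12 - h11
  have hg : v 8 = (a : ℂ) := by
    linear_combination (1 / 253 : ℂ) * horth - (45 / 253 : ℂ) * hb12 - (230 / 253 : ℂ) * hf -
      (990 / 253 : ℂ) * hy
  have hsa : Complex.normSq ((a : ℂ)) = (a : ℝ) ^ 2 := by rw [Complex.normSq_intCast, sq]
  simp [sum17, h0, z5, z6, z7, z9, z10, z11, z12, ha, h15, h16, hf, hg, hy2.1, hy2.2, hsa]
    at hnorm
  rintro rfl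
  have hnb := add_nonneg (Complex.normSq_nonneg (v 2)) (Complex.normSq_nonneg (v 3))
  have ha2 : a ^ 2 ≤ 35 := by
    have : (a : ℝ) ^ 2 ≤ 35 := by push_cast at hnorm ⊢; nlinarith
    exact_mod_cast this
  have ha1 : a = 1 := by
    have h5 : -5 ≤ a ∧ a ≤ 5 := by constructor <;> nlinarith
    omega
  subst ha1
  push_cast at hnorm hb12 hf hg ha
  have hB : Complex.normSq (v 2) + Complex.normSq (v 3) = 102 := by linarith
  rcases pair_cases (r := -1) (by push_cast; exact hb12) hb with ⟨hu, hw⟩ | ⟨hu, hw⟩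
  · have h1 := congrArg Complex.ofReal hB
    push_cast at h1
    rw [normSq_of_conj hu, normSq_of_conj hw] at h1
    have hp : v 2 * v 3 = ((-101 / 2 : ℚ) : ℂ) := by
      push_cast
      linear_combination ((v 2 + v 3 - 1) * hb12 - h1) / 2
    obtain ⟨m, hm⟩ := exists_int_of_rat hint ⟨_, hp.symm⟩
    rw [hp] at hm
    have hm2 : ((2 * m : ℤ) : ℂ) = ((-101 : ℤ) : ℂ) := by
      push_cast at hm ⊢
      linear_combination (2 : ℂ) * hm
    have := Int.cast_injective (α := ℂ) hm2
    omega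
  · have he : Complex.normSq (v 3) = Complex.normSq (v 2) := by rw [← hu, Complex.normSq_conj]
    have h2 : (Complex.normSq (v 2) : ℂ) = 51 := by
      rw [show Complex.normSq (v 2) = 51 by linarith]; norm_num
    have h3 : (Complex.normSq (v 3) : ℂ) = 51 := by rw [he, h2]
    obtain ⟨m, hm⟩ := hcnt
    have hyc : conj (v 13) + conj (v 14) = -1 := by rw [← map_add, hy, map_neg, map_one]
    simp only [Complex.mul_conj, sum17, h2, h3, hy2.1, hy2.2, h0, z5, z6, z7, z9, z10, z11, z12,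
      ha, h15, h16, hf, hg] at hm
    simp [degs] at hm
    rw [hu, hw] at hm
    have : ((m : ℤ) : ℂ) = ((-925904 : ℤ) : ℂ) := by
      push_cast
      linear_combination hm + (2 * 10200960 / 990 : ℂ) * hyc + (51 * 10200960 / 45 : ℂ) * hb12
    have := Int.cast_injective (α := ℂ) this
    omega

end CfsgLib.M23Order.SevenCase
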