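import Mathlib

/-!
# Elements of order three in a simple group of order 10200960: the finite search

`a`, `c`, `k`, `d`, `o` are the values of the characters of degree 22, 230, 896, of the character
of degree 231 in the principal block at five and of degree 2024; `s` is the sum of the other two
values at degree 231.  The relations at 23 and 11 and two orthogonality relations give the rest.
-/

set_option autoImplicit false

namespace CfsgLib.M23Order.ThreeSearch

/-- The possible orders of the centralizer. -/
def cents : List ℤ :=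
  [3, 6, 9, 12, 15, 18, 24, 30, 36, 45, 48, 60, 72, 90, 96, 120, 144, 180, 192, 240, 288, 360,
    384, 480, 576, 720, 960, 1152, 1440, 1920, 2880, 5760]

/-- The numbers up to 107 in absolute value. -/
def range107 : List ℤ := (List.range 215).map fun k : ℕ => (k : ℤ) - 107

/-- The possible values at a degree `d`. -/
def cands (C d : ℤ) : List ℤ :=
  range107.filter fun x =>
    decide (x % 3 = d % 3) && decide (x * x ≤ C) && decide (10200960 / C * x % d = 0)

/-- The value at degree 770. -/
def hv (a k d s : ℤ) : ℤ := 1 - a + d + s - 2 * k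

/-- Thirteen times the value at degree 253, with the sign changed. -/
def gn (a c k d o s : ℤ) : ℤ := 1 + 6 * a + 22 * c + 7 * (d + s) - 28 * hv a k d s + 8 * o

/-- The weighted sum of the degrees. -/
def deg0 (a c k d o s g : ℤ) : ℤ :=
  1 + 22 * a + 230 * c + 231 * (d + s) + 253 * g + 1540 * hv a k d s + 1792 * k + 2024 * o

/-- The norm, the values at the two characters of degree 231 replaced by their sum. -/
def nrm (a c k d o s g : ℤ) : ℤ :=
  2 * (1 + a * a + c * c + 2 * (k * k) + d * d + o * o + g * g + 2 * (hv a k d s * hv a k d s))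
    + s * s

/-- The column that survives. -/
def good : List (List ℤ) := [[180, 4, 5, -4, 6, -1, -6, 1]]

/-- The innermost test. -/
def leaf (C a c k d o s : ℤ) : Bool :=
  !(decide (gn a c k d o s % 13 = 0) &&
    decide (deg0 a c k d o s (-(gn a c k d o s) / 13) = 0) &&
    decide (nrm a c k d o s (-(gn a c k d o s) / 13) ≤ 2 * C)) ||
  good.contains [C, a, c, k, d, o, s, -(gn a c k d o s) / 13]

/-- The search. -/
def search : Bool :=
  cents.all fun C => (cands C 22).all fun a => (cands C 230).all fun c =>
    !((cands C 896).contains (1 - c) && decide (1 + a * a + c * c + 2 * ((1 - c) * (1 - c)) ≤ C)) ||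
      (cands C 231).all fun d =>
        !((cands C 2024).contains (1 + d + 2 * (1 - c)) &&
          decide (1 + a * a + c * c + 2 * ((1 - c) * (1 - c)) + d * d
            + (1 + d + 2 * (1 - c)) * (1 + d + 2 * (1 - c)) ≤ C)) ||
          range107.all fun s => !decide (s * s ≤ 2 * C) ||
            leaf C a c (1 - c) d (1 + d + 2 * (1 - c)) s

set_option maxRecDepth 100000 in
theorem search_eq : search = true := by decide +kernel

/-- The hypotheses of the search on one value. -/
def IsCand (C d x : ℤ) : Prop := x % 3 = d % 3 ∧ x * x ≤ C ∧ d ∣ 10200960 / C * x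

theorem mem_range107 {C x : ℤ} (hC : C ∈ cents) (h : x * x ≤ 2 * C) : x ∈ range107 := by
  have hC' : C ≤ 5760 := by
    simp only [cents, List.mem_cons, List.not_mem_nil, or_false] at hC
    omega
  have hb : -107 ≤ x ∧ x ≤ 107 := ⟨by nlinarith, by nlinarith⟩
  simp only [range107, List.mem_map, List.mem_range]
  exact ⟨(x + 107).toNat, by omega, by omega⟩

theorem mem_cands {C d x : ℤ} (hC : C ∈ cents) (h : IsCand C d x) : x ∈ cands C d := by
  obtain ⟨h3, hsq, hd⟩ := h
  have hx : x ∈ range107 := mem_range107 hC (by nlinarith [mul_self_nonneg x])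
  simp only [cands, List.mem_filter, Bool.and_eq_true, decide_eq_true_eq]
  exact ⟨hx, ⟨h3, hsq⟩, Int.emod_eq_zero_of_dvd hd⟩

/-- The surviving column. -/
theorem solve {C a c k d o s g : ℤ} (hC : C ∈ cents) (ha : IsCand C 22 a) (hc : IsCand C 230 c)
    (hk : IsCand C 896 k) (hd : IsCand C 231 d) (ho : IsCand C 2024 o) (e11 : k = 1 - c)
    (e5 : o = 1 + d + 2 * k) (et : gn a c k d o s + 13 * g = 0) (eD : deg0 a c k d o s g = 0)
    (hn : nrm a c k d o s g ≤ 2 * C) :
    C = 180 ∧ a = 4 ∧ c = 5 ∧ k = -4 ∧ d = 6 ∧ o = -1 ∧ s = -6 ∧ g = 1 := by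
  subst e11 e5
  have hg : -(gn a c (1 - c) d (1 + d + 2 * (1 - c)) s) / 13 = g := by omega
  have h13 : gn a c (1 - c) d (1 + d + 2 * (1 - c)) s % 13 = 0 := by omega
  have hn' := hn
  unfold nrm at hn'
  have hk' := mul_self_nonneg g
  have hh' := mul_self_nonneg (hv a (1 - c) d s)
  have p1 : 1 + a * a + c * c + 2 * ((1 - c) * (1 - c)) ≤ C := by
    nlinarith [mul_self_nonneg d, mul_self_nonneg (1 + d + 2 * (1 - c)), mul_self_nonneg s]
  have p2 : 1 + a * a + c * c + 2 * ((1 - c) * (1 - c)) + d * d
      + (1 + d + 2 * (1 - c)) * (1 + d + 2 * (1 - c)) ≤ C := by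
    nlinarith [mul_self_nonneg s]
  have p3 : s * s ≤ 2 * C := by
    nlinarith [mul_self_nonneg a, mul_self_nonneg c, mul_self_nonneg d, mul_self_nonneg (1 - c),
      mul_self_nonneg (1 + d + 2 * (1 - c))]
  have h := search_eq
  simp only [search, List.all_eq_true] at h
  have h1 := h C hC a (mem_cands hC ha) c (mem_cands hC hc)
  simp only [List.contains_iff_mem.2 (mem_cands hC hk), p1, decide_true, Bool.and_self,
    Bool.not_true, Bool.false_or, List.all_eq_true] at h1
  have h2 := h1 d (mem_cands hC hd)
  simp only [List.contains_iff_mem.2 (mem_cands hC ho), p2, decide_true, Bool.and_self,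
    Bool.not_true, Bool.false_or, List.all_eq_true] at h2
  have h3 := h2 s (mem_range107 hC p3)
  simp only [p3, decide_true, Bool.not_true, Bool.false_or, leaf, hg, h13, eD, hn,
    Bool.and_self, List.contains_iff_mem, good, List.mem_singleton, List.cons.injEq,
    and_true] at h3
  obtain ⟨r1, r2, r3, r4, r5, r6, r7, r8⟩ := h3
  exact ⟨r1, r2, r3, r4, r5, r6, r7, r8⟩

end CfsgLib.M23Order.ThreeSearch
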