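import Cfsg.Agent.Lib.M23Order.Interface
import Cfsg.Agent.Lib.M23Order.ThreeArith
import Cfsg.Agent.Lib.M12Order.ThreeBase
import Cfsg.Agent.Lib.Chars.DefectZero

/-!
# Simple groups of order 10200960: the elements of order three

The characters of degree divisible by nine vanish at the elements of order three; the block
relations and orthogonality with the first and the involution column leave one column, so there is
one class, with centralizers of order 180.
-/

set_option autoImplicit false
set_option linter.style.haveILetI false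
set_option linter.unusedSectionVars false

open Cfsg CfsgLib.Chars CfsgLib.CharApps
open scoped ComplexConjugate
open CfsgLib.M12Order.ThreeColumns (orth orth_zero norm_sum int_of_real)

namespace CfsgLib.M23Order

namespace ThreeColumn

universe u

variable {G : Type u} [Group G] [Finite G]

theorem sum17 {M : Type*} [AddCommMonoid M] (F : Fin 17 → M) :
    ∑ k, F k = F 0 + F 1 + F 2 + F 3 + F 4 + F 5 + F 6 + F 7 + F 8 + F 9 + F 10 + F 11 + F 12 + F 13
      + F 14 + F 15 + F 16 := by
  simp only [Fin.sum_univ_succ, Fin.sum_univ_zero, add_zero, add_assoc]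
  rfl

/-- The column at the elements of order three. -/
def col : Fin 17 → ℤ := ![1, 4, 0, 0, 5, 6, -3, -3, 1, 5, 5, -4, -4, 0, 0, 0, -1]

theorem card_cen (hG : Nat.card G = 10200960) (h23 : LocalTwentyThree G) (h11 : LocalEleven G)
    (h7 : LocalSeven G) {z : G} (hz : orderOf z = 3) :
    (Nat.card (cen z) : ℤ) ∈ ThreeSearch.cents := by
  have h3 : 3 ∣ Nat.card (cen z) := hz ▸ Subgroup.orderOf_dvd_natCard _
    (Subgroup.mem_centralizer_singleton_iff.2 rfl)
  have hno : ∀ q : ℕ, q = 7 ∨ q = 11 ∨ q = 23 → ¬ q ∣ Nat.card (cen z) := by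
    intro q hq hdvd
    haveI := Fact.mk (show q.Prime by rcases hq with rfl | rfl | rfl <;> norm_num)
    obtain ⟨⟨y, hyC⟩, hyo⟩ := exists_prime_orderOf_dvd_card' (G := cen z) q hdvd
    rw [Subgroup.orderOf_mk] at hyo
    have hzy : z ∈ cen y :=
      Subgroup.mem_centralizer_singleton_iff.2 (Subgroup.mem_centralizer_singleton_iff.1 hyC).symm
    have h := Subgroup.orderOf_dvd_natCard _ hzy
    rcases hq with rfl | rfl | rfl
    · rw [hz, h7.cent y hyo] at h; norm_num at h
    · rw [hz, h11.cent y hyo] at h; norm_num at h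
    · rw [hz, h23.cent y hyo] at h; norm_num at h
  have hd : Nat.card (cen z) ∣ 5760 * (7 * (11 * 23)) :=
    (Subgroup.card_subgroup_dvd_card _).trans (hG ▸ dvd_of_eq rfl)
  have hcop : Nat.Coprime (Nat.card (cen z)) (7 * (11 * 23)) := by
    refine Nat.Coprime.mul_right ?_ (Nat.Coprime.mul_right ?_ ?_)
    all_goals refine ((Nat.Prime.coprime_iff_not_dvd (by norm_num)).2 (hno _ ?_)).symm
    all_goals omega
  have key : ∀ d ∈ Nat.divisors 5760, 3 ∣ d → (d : ℤ) ∈ ThreeSearch.cents := by decide +kernel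
  exact key _ (Nat.mem_divisors.2 ⟨hcop.dvd_of_dvd_mul_right hd, by norm_num⟩) h3

variable (hG : Nat.card G = 10200960) (C : Chars G)

include hG

theorem vanish {z : G} (hz : orderOf z = 3) {k : Fin 17} (h9 : 9 ∣ degs k) :
    (C.c k : G → ℂ) z = 0 :=
  haveI := Fintype.ofFinite G
  eq_zero_of_dvd_orderOf (C.c k).2 Nat.prime_three (deg_eq (C.c k)) (n := 2)
    (by rw [hG]; norm_num) (by rw [C.deg]; exact h9) (by rw [hz])

omit hG in
/-- A value fixed by conjugation, from the degree. -/
theorem real_val (k : Fin 17) {z : G}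
    (h : ∀ j, degs j = degs k → (C.c j : G → ℂ) z = (C.c k : G → ℂ) z) :
    conj ((C.c k : G → ℂ) z) = (C.c k : G → ℂ) z := by
  obtain ⟨j, hj⟩ : ∃ j, C.c j = conjIrr (C.c k) := ⟨_, C.c.apply_symm_apply _⟩
  have hval : ∀ g, (C.c j : G → ℂ) g = conj ((C.c k : G → ℂ) g) := fun g => by rw [hj]; rfl
  have hd : degs j = degs k := by
    have h1 := hval 1
    rw [deg_eq, deg_eq, C.deg, C.deg, map_natCast] at h1
    exact_mod_cast h1
  rw [← hval, h j hd]

theorem int_val (k : Fin 17) {z : G} (hz : orderOf z = 3)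
    (hr : conj ((C.c k : G → ℂ) z) = (C.c k : G → ℂ) z) :
    ∃ m : ℤ, (m : ℂ) = (C.c k : G → ℂ) z ∧
      ThreeSearch.IsCand (Nat.card (cen z) : ℤ) (degs k) m := by
  obtain ⟨m, hm, h3⟩ := int_of_real (C.c k) hz hr
  rw [C.deg] at h3
  refine ⟨m, hm, Int.emod_eq_emod_iff_emod_sub_eq_zero.2 (Int.emod_eq_zero_of_dvd h3), ?_, ?_⟩
  · have h1 := norm_sum C.c z
    have h2 : Complex.normSq ((C.c k : G → ℂ) z) ≤ (Nat.card (cen z) : ℝ) := by
      rw [← h1]
      exact Finset.single_le_sum (f := fun l => Complex.normSq ((C.c l : G → ℂ) z))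
        (fun l _ => Complex.normSq_nonneg _) (Finset.mem_univ k)
    rw [← hm, Complex.normSq_intCast] at h2
    exact_mod_cast h2
  · have h1 := CfsgLib.M12Order.dvd_index_mul (C.c k) hm
    rw [C.deg] at h1
    have h2 : (Nat.card (cen z)) * (cen z).index = 10200960 := by
      rw [Subgroup.card_mul_index, hG]
    have h4 : (10200960 : ℤ) / (Nat.card (cen z) : ℤ) = ((cen z).index : ℤ) := by
      rw [← show ((Nat.card (cen z) : ℤ) * (cen z).index) = 10200960 by exact_mod_cast h2,
        Int.mul_ediv_cancel_left _ (by exact_mod_cast (Nat.card_pos (α := cen z)).ne')]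
    rwa [h4]

theorem column (h23 : LocalTwentyThree G) (h11 : LocalEleven G) (h2 : LocalTwo G C)
    (h7 : LocalSeven G) {z : G} (hz : orderOf z = 3) :
    Nat.card (cen z) = 180 ∧ ∀ k, (C.c k : G → ℂ) z = (col k : ℂ) := by
  classical
  haveI := irrFintype G
  haveI := Fact.mk Nat.prime_two
  have n23 : ¬ 23 ∣ orderOf z := by rw [hz]; norm_num
  have n11 : ¬ 11 ∣ orderOf z := by rw [hz]; norm_num
  have n5 : ¬ 5 ∣ orderOf z := by rw [hz]; norm_num
  have v2 := vanish hG C hz (k := 2) (by decide)
  have v3 := vanish hG C hz (k := 3) (by decide)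
  have v13 := vanish hG C hz (k := 13) (by decide)
  have v14 := vanish hG C hz (k := 14) (by decide)
  have v15 := vanish hG C hz (k := 15) (by decide)
  obtain ⟨p23, e23⟩ := C.rel23 z n23
  obtain ⟨p11, e11⟩ := C.rel11 z n11
  have e5 := C.rel5 z n5
  have v0 : ∀ g, (C.c 0 : G → ℂ) g = 1 := fun g => by rw [C.principal]; exact principal_apply g
  simp [sum17, r23, v0, v2, v3, v13, v14] at e23
  simp [sum17, r11, v0, v2, v3, v15] at e11
  simp [sum17, r5, v0, ← p11] at e5
  rw [← p11] at e23
  have one : ∀ k : Fin 17, (∀ j : Fin 17, degs j = degs k → j = k) →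
      ∀ j, degs j = degs k → (C.c j : G → ℂ) z = (C.c k : G → ℂ) z :=
    fun k hk j hj => by rw [hk j hj]
  obtain ⟨a, ha, ca⟩ := int_val hG C 1 hz (real_val C 1 (one 1 (by decide)))
  obtain ⟨c, hc, cc⟩ := int_val hG C 4 hz (real_val C 4 (one 4 (by decide)))
  obtain ⟨g, hg, -⟩ := int_val hG C 8 hz (real_val C 8 (one 8 (by decide)))
  obtain ⟨o, ho, co⟩ := int_val hG C 16 hz (real_val C 16 (one 16 (by decide)))
  have pair : ∀ i i' : Fin 17, (∀ j : Fin 17, degs j = degs i → j = i ∨ j = i') →
      (C.c i : G → ℂ) z = (C.c i' : G → ℂ) z →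
      ∀ j, degs j = degs i → (C.c j : G → ℂ) z = (C.c i : G → ℂ) z := fun i i' hi he j hj => by
    rcases hi j hj with rfl | rfl
    exacts [rfl, he.symm]
  obtain ⟨k, hk, ck⟩ := int_val hG C 11 hz (real_val C 11 (pair 11 12 (by decide) p11))
  obtain ⟨h, hh, -⟩ := int_val hG C 9 hz (real_val C 9 (pair 9 10 (by decide) p23))
  -- the character of degree 231 in the block at five
  have h5v : (C.c 5 : G → ℂ) z = ((o - 1 - 2 * k : ℤ) : ℂ) := by
    push_cast
    rw [ho, hk]
    linear_combination e5
  obtain ⟨d, hd, cd⟩ := int_val hG C 5 hz (by rw [h5v, map_intCast])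
  -- the other two of degree 231
  obtain ⟨s, hs⟩ : ∃ s : ℤ, (s : ℂ) = (C.c 6 : G → ℂ) z + (C.c 7 : G → ℂ) z :=
    ⟨h - 1 + a - d + 2 * k, by
      push_cast
      rw [hh, ha, hd, hk]
      linear_combination -e23⟩
  have e11' : k = 1 - c := by
    have : (k : ℂ) = 1 - (c : ℂ) := by rw [hk, hc]; linear_combination -e11
    exact_mod_cast this
  have e5' : o = 1 + d + 2 * k := by
    have : (o : ℂ) = 1 + (d : ℂ) + 2 * (k : ℂ) := by rw [ho, hd, hk]; linear_combination -e5
    exact_mod_cast this
  have ehv : h = ThreeSearch.hv a k d s := by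
    have : (h : ℂ) = 1 - (a : ℂ) + d + s - 2 * k := by
      rw [hh, ha, hd, hs, hk]; linear_combination -e23
    unfold ThreeSearch.hv
    exact_mod_cast this
  obtain ⟨t, ht⟩ := exists_prime_orderOf_dvd_card' (G := G) 2 (by rw [hG]; norm_num)
  have et : ThreeSearch.gn a c k d o s + 13 * g = 0 := by
    have h1 := orth_zero C.c (g := z) (h := t) (by rw [hz, ht]; norm_num)
    simp only [h2.vals t ht, map_intCast] at h1
    simp [sum17, colT, v0, v2, v3, v13, v14, v15, ← p11, ← p23, ← hk, ← hh, ← ha, ← hc, ← hg,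
      ← ho, ← hd] at h1
    have : (1 : ℂ) + 6 * a + 22 * c + 7 * (d + s) - 28 * h + 8 * o + 13 * g = 0 := by
      rw [hs]; linear_combination h1
    unfold ThreeSearch.gn
    rw [← ehv]
    exact_mod_cast this
  have eD : ThreeSearch.deg0 a c k d o s g = 0 := by
    have hzne : z ≠ 1 := fun h => by rw [h, orderOf_one] at hz; norm_num at hz
    have hD := sum_degree_mul (G := G) z
    rw [if_neg hzne, ← C.c.sum_comp] at hD
    simp only [deg_eq, C.deg] at hD
    simp [sum17, degs, v0, v2, v3, v13, v14, v15, ← p11, ← p23, ← hk, ← hh, ← ha, ← hc, ← hg,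
      ← ho, ← hd] at hD
    have : (1 : ℂ) + 22 * a + 230 * c + 231 * (d + s) + 253 * g + 1540 * h + 1792 * k
        + 2024 * o = 0 := by
      rw [hs]; linear_combination hD
    unfold ThreeSearch.deg0
    rw [← ehv]
    exact_mod_cast this
  -- the norm
  have hn := norm_sum C.c z
  simp [sum17, v0, v2, v3, v13, v14, v15, ← p11, ← p23, ← hk, ← hh, ← ha, ← hc, ← hg, ← ho,
    ← hd, Complex.normSq_intCast] at hn
  set x := (C.c 6 : G → ℂ) z with hx
  set y := (C.c 7 : G → ℂ) z with hy
  have hre : x.re + y.re = (s : ℝ) := by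
    have := congrArg Complex.re hs
    simpa using this.symm
  have him : x.im + y.im = 0 := by
    have := congrArg Complex.im hs
    simpa using this.symm
  simp only [Complex.normSq_apply] at hn
  have hreal : (ThreeSearch.nrm a c k d o s g : ℝ) +
      ((x.re - y.re) * (x.re - y.re) + (x.im - y.im) * (x.im - y.im)) =
        2 * (Nat.card (cen z) : ℝ) := by
    unfold ThreeSearch.nrm
    rw [← ehv]
    push_cast
    rw [← hre]
    have hi : y.im = -x.im := by linarith
    rw [hi] at hn ⊢
    linear_combination 2 * hn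
  have hnrm : ThreeSearch.nrm a c k d o s g ≤ 2 * (Nat.card (cen z) : ℤ) := by
    have h1 : (ThreeSearch.nrm a c k d o s g : ℝ) ≤ 2 * (Nat.card (cen z) : ℝ) := by
      nlinarith [mul_self_nonneg (x.re - y.re), mul_self_nonneg (x.im - y.im)]
    exact_mod_cast h1
  obtain ⟨hC, rfl, rfl, rfl, rfl, rfl, rfl, rfl⟩ :=
    ThreeSearch.solve (card_cen hG h23 h11 h7 hz) ca cc ck cd co e11' e5' et eD hnrm
  have hC' : Nat.card (cen z) = 180 := by exact_mod_cast hC
  refine ⟨hC', ?_⟩
  rw [hC'] at hreal
  norm_num [ThreeSearch.nrm, ThreeSearch.hv] at hreal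
  have hxy : x.re = y.re ∧ x.im = y.im := by
    constructor <;>
      nlinarith [mul_self_nonneg (x.re - y.re), mul_self_nonneg (x.im - y.im)]
  norm_num at hre
  have hh5 : h = 5 := by rw [ehv]; norm_num [ThreeSearch.hv]
  have hxv : x = ((-3 : ℤ) : ℂ) := by
    refine Complex.ext ?_ ?_ <;> push_cast <;> simp
    · linarith [hxy.1]
    · linarith [hxy.2]
  have hyv : y = ((-3 : ℤ) : ℂ) := by
    refine Complex.ext ?_ ?_ <;> push_cast <;> simp
    · linarith [hxy.1]
    · linarith [hxy.2]
  intro i
  fin_cases i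
  exacts [by simpa [col] using v0 z, by simpa [col] using ha.symm, by simpa [col] using v2,
    by simpa [col] using v3, by simpa [col] using hc.symm, by simpa [col] using hd.symm,
    by simpa [col] using hxv, by simpa [col] using hyv, by simpa [col] using hg.symm,
    by simpa [col, hh5] using hh.symm, by simpa [col, hh5, ← p23] using hh.symm,
    by simpa [col] using hk.symm, by simpa [col, ← p11] using hk.symm,
    by simpa [col] using v13, by simpa [col] using v14, by simpa [col] using v15,
    by simpa [col] using ho.symm]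

end ThreeColumn

universe u

open ThreeColumn in
/-- Piece J. -/
theorem three : ThreeStmt.{u} := by
  intro G _ _ _ hG h23 h11 C h2 h7 _
  refine ⟨fun z hz => (column hG C h23 h11 h2 h7 hz).1, fun z z' hz hz' => ?_⟩
  classical
  by_contra hne
  have h := orth C.c z' z
  rw [if_neg hne] at h
  simp only [(column hG C h23 h11 h2 h7 hz).2, (column hG C h23 h11 h2 h7 hz').2, map_intCast] at h
  have h0 : ∑ k, col k * col k = 0 := by exact_mod_cast h
  exact absurd h0 (by decide)

end CfsgLib.M23Order
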