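import Mathlib

/-!
# Simple groups of order 10200960: the search for block values next to an involution centralizing a
Sylow subgroup of order twenty-three

A signed degree `f` and a signed value `u` are congruent modulo 92, so `|u| ≥ 22`.  The search runs
over all multisets of the possible pairs for each possible centralizer order and finds nothing.
-/

set_option autoImplicit false
set_option linter.style.haveILetI false

namespace CfsgLib.M23Order.TwentyThreeArith

/-- The degrees congruent to plus or minus one modulo twenty-three. -/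
def neDegs : List ℕ := [22, 24, 45, 70, 160, 231, 252, 528, 576, 896, 990, 1540, 1680]

/-- The degrees congruent to one modulo twenty-three, with signs. -/
def signedDegs : List ℤ := [-22, 24, -45, 70, -160, 231, -252, -528, 576, -896, 990, -1540, 1680]

/-- The possible signed values for a signed degree. -/
def opts (C : ℕ) : List (ℤ × ℤ) :=
  signedDegs.flatMap fun f =>
    ((List.range (f.natAbs / 46 + 1)).map fun i : ℕ => (f, f - f.sign * (92 * (i : ℤ)))).filter fun p =>
      decide (p.2.natAbs < f.natAbs ∧ p.2 * p.2 < (C : ℤ) ∧ f ∣ ((10200960 / C : ℕ) : ℤ) * p.2)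

theorem mem_opts {C : ℕ} {f u : ℤ} (hf : f ∈ signedDegs) (h92 : (92 : ℤ) ∣ f - u)
    (hlt : u.natAbs < f.natAbs) (hsq : u * u < (C : ℤ)) (hdvd : f ∣ ((10200960 / C : ℕ) : ℤ) * u) :
    (f, u) ∈ opts C := by
  obtain ⟨j, hj⟩ := h92
  refine List.mem_flatMap.2 ⟨f, hf, List.mem_filter.2 ⟨List.mem_map.2 ?_, decide_eq_true ⟨hlt, hsq, hdvd⟩⟩⟩
  rcases lt_trichotomy f 0 with hf0 | hf0 | hf0
  · refine ⟨(-j).toNat, List.mem_range.2 (by omega), ?_⟩
    rw [Int.sign_eq_neg_one_of_neg hf0, Prod.mk.injEq]
    exact ⟨rfl, by omega⟩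
  · subst hf0
    simp [signedDegs] at hf
  · refine ⟨j.toNat, List.mem_range.2 (by omega), ?_⟩
    rw [Int.sign_eq_one_of_pos hf0, Prod.mk.injEq]
    exact ⟨rfl, by omega⟩

theorem sq_ge {f u : ℤ} (hf : f ∈ signedDegs) (h92 : (92 : ℤ) ∣ f - u) : 484 ≤ u * u := by
  have h : u ≤ -22 ∨ 22 ≤ u := by
    simp only [signedDegs, List.mem_cons, List.not_mem_nil, or_false] at hf
    rcases hf with rfl | rfl | rfl | rfl | rfl | rfl | rfl | rfl | rfl | rfl | rfl | rfl | rfl <;> omega
  rcases h with h | h <;> nlinarith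

/-- The final test: `m` exceptional characters, or none to be left when `m = 0`. -/
def leaf (C m : ℕ) (dd ss D S : ℤ) : Bool :=
  if m = 0 then decide (¬ (1 + D = 0 ∧ 1 + S = 0))
  else decide (¬ (2 ≤ (1 + D).natAbs ∧ 10200960 % (1 + D).natAbs = 0 ∧
    (1 + S).natAbs < (1 + D).natAbs ∧ 1 + dd + (m : ℤ) * ((1 + D) * (1 + D)) ≤ 10200960 ∧
    1 + ss + (m : ℤ) * ((1 + S) * (1 + S)) ≤ (C : ℤ) ∧ (92 : ℤ) ∣ (1 + S) - (1 + D) ∧
    (1 + D) ∣ ((10200960 / C : ℕ) : ℤ) * (1 + S)))

/-- The search for `k` further characters. -/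
def go (C m : ℕ) : ℕ → List (ℤ × ℤ) → ℤ → ℤ → ℤ → ℤ → Bool
  | 0, _, dd, ss, D, S => leaf C m dd ss D S
  | k + 1, O, dd, ss, D, S => O.tails.all fun l =>
      match l with
      | [] => true
      | o :: os =>
        if 1 + (dd + o.1 * o.1) ≤ 10200960 ∧ 1 + (ss + o.2 * o.2) + 484 * (k : ℤ) ≤ (C : ℤ) then
          go C m k (o :: os) (dd + o.1 * o.1) (ss + o.2 * o.2) (D + o.1) (S + o.2)
        else true

/-- The sum of a function over a list. -/
def tot (φ : ℤ × ℤ → ℤ) (l : List (ℤ × ℤ)) : ℤ := (l.map φ).sum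

theorem tot_nonneg {φ : ℤ × ℤ → ℤ} (hφ : ∀ p, 0 ≤ φ p) (l : List (ℤ × ℤ)) : 0 ≤ tot φ l := by
  refine List.sum_nonneg fun x hx => ?_
  obtain ⟨p, -, rfl⟩ := List.mem_map.1 hx
  exact hφ p

theorem exists_first : ∀ {O : List (ℤ × ℤ)} {l : List (ℤ × ℤ)}, l ≠ [] → (∀ p ∈ l, p ∈ O) →
    ∃ o os, o :: os ∈ O.tails ∧ o ∈ l ∧ ∀ p ∈ l, p ∈ o :: os
  | [], l, hl, h => by
    obtain ⟨p, hp⟩ := List.exists_mem_of_ne_nil l hl
    exact absurd (h p hp) List.not_mem_nil
  | o :: os, l, hl, h => by
    by_cases ho : o ∈ l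
    · exact ⟨o, os, by simp, ho, h⟩
    · obtain ⟨o', os', h1, h2, h3⟩ := exists_first (O := os) hl fun p hp =>
        (List.mem_cons.1 (h p hp)).resolve_left fun e => ho (e ▸ hp)
      exact ⟨o', os', by rw [List.tails_cons]; exact List.mem_cons_of_mem _ h1, h2, h3⟩

theorem tot_ge : ∀ l : List (ℤ × ℤ), (∀ p ∈ l, 484 ≤ p.2 * p.2) →
    484 * (l.length : ℤ) ≤ tot (fun p => p.2 * p.2) l
  | [], _ => by simp [tot]
  | p :: l, h => by
    have h1 := h p List.mem_cons_self
    have h2 := tot_ge l fun q hq => h q (List.mem_cons_of_mem _ hq)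
    simp only [tot, List.map_cons, List.sum_cons, List.length_cons, Nat.cast_add, Nat.cast_one] at h2 ⊢
    linarith

/-- What a successful search says. -/
theorem go_sound {C m : ℕ} : ∀ (k : ℕ) (O : List (ℤ × ℤ)) (dd ss D S : ℤ), go C m k O dd ss D S = true →
    ∀ l : List (ℤ × ℤ), l.length = k → (∀ p ∈ l, p ∈ O) → (∀ p ∈ l, 484 ≤ p.2 * p.2) →
      1 + (dd + tot (fun p => p.1 * p.1) l) ≤ 10200960 → 1 + (ss + tot (fun p => p.2 * p.2) l) ≤ (C : ℤ) →
      leaf C m (dd + tot (fun p => p.1 * p.1) l) (ss + tot (fun p => p.2 * p.2) l)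
        (D + tot Prod.fst l) (S + tot Prod.snd l) = true
  | 0, O, dd, ss, D, S, h, l, hl, _, _, _, _ => by
    rw [List.length_eq_zero_iff.1 hl]
    simpa [tot, go] using h
  | k + 1, O, dd, ss, D, S, h, l, hl, hmem, h22, hd, hs => by
    obtain ⟨o, os, ht, ho, hl'⟩ := exists_first (List.ne_nil_of_length_eq_add_one hl) hmem
    have hperm := List.perm_cons_erase ho
    have hsum : ∀ φ : ℤ × ℤ → ℤ, tot φ l = φ o + tot φ (l.erase o) := fun φ => by
      rw [tot, tot, (hperm.map φ).sum_eq, List.map_cons, List.sum_cons]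
    rw [go, List.all_eq_true] at h
    have h' := h _ ht
    simp only [hsum] at hd hs ⊢
    have hlen : (l.erase o).length = k := by rw [List.length_erase_of_mem ho]; omega
    have h1 := tot_nonneg (φ := fun p => p.1 * p.1) (fun p => mul_self_nonneg _) (l.erase o)
    have h2 := tot_ge (l.erase o) fun p hp => h22 p (List.mem_of_mem_erase hp)
    rw [hlen] at h2
    simp only at h'
    rw [if_pos ⟨by omega, by omega⟩] at h'
    have key := go_sound k (o :: os) _ _ _ _ h' (l.erase o) hlen
      (fun p hp => hl' p (List.mem_of_mem_erase hp)) (fun p hp => h22 p (List.mem_of_mem_erase hp))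
      (by omega) (by omega)
    simpa only [add_assoc] using key

/-- The divisors of `576`. -/
def smallDivs : List ℕ := [1, 2, 3, 4, 6, 8, 9, 12, 16, 18, 24, 32, 36, 48, 64, 72, 96, 144, 192, 288, 576]

/-- The possible orders of centralizers. -/
def centList : List ℕ :=
  smallDivs.flatMap fun a => ([1, 5, 7, 11, 35, 55, 77, 385] : List ℕ).map fun b => 46 * (a * b)

theorem mem_centList {k : ℕ} (hk : k ∣ 576 * 385) : 46 * k ∈ centList := by
  obtain ⟨a, b, ha, hb, rfl⟩ := Nat.dvd_mul.1 hk
  have key1 : ∀ a ∈ Nat.divisors 576, a ∈ smallDivs := by decide +kernel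
  have key2 : ∀ b ∈ Nat.divisors 385, b ∈ ([1, 5, 7, 11, 35, 55, 77, 385] : List ℕ) := by decide +kernel
  exact List.mem_flatMap.2 ⟨a, key1 a (Nat.mem_divisors.2 ⟨ha, by norm_num⟩),
    List.mem_map.2 ⟨b, key2 b (Nat.mem_divisors.2 ⟨hb, by norm_num⟩), rfl⟩⟩

/-- One search. -/
def search (C m n : ℕ) : Bool := go C m n (opts C) 0 0 0 0

set_option maxRecDepth 100000

/-- A pair with the two squares. -/
noncomputable def enc (p : ℤ × ℤ) : ℕ × ℕ × ℤ × ℤ :=
  (p.1.natAbs * p.1.natAbs, p.2.natAbs * p.2.natAbs, p.1, p.2)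

/-- The search again, with the sums of squares as natural numbers: cheap for the kernel. -/
noncomputable def fast (C m : ℕ) (k : ℕ) : List (ℕ × ℕ × ℤ × ℤ) → ℕ → ℕ → ℤ → ℤ → Bool :=
  Nat.rec (motive := fun _ => List (ℕ × ℕ × ℤ × ℤ) → ℕ → ℕ → ℤ → ℤ → Bool)
    (fun _ dd ss D S => leaf C m (dd : ℤ) (ss : ℤ) D S)
    (fun k ih O dd ss D S =>
      List.rec (motive := fun _ => Bool) true
        (fun o os acc =>
          cond (Nat.ble (1 + (dd + o.1)) 10200960)
            (cond (Nat.ble (1 + (ss + o.2.1) + 484 * k) C)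
              (cond (ih (o :: os) (dd + o.1) (ss + o.2.1) (D + o.2.2.1) (S + o.2.2.2)) acc false) acc)
            acc) O) k

theorem go_of_fast {C m : ℕ} : ∀ (k : ℕ) (O : List (ℤ × ℤ)) (dd ss : ℕ) (D S : ℤ),
    fast C m k (O.map enc) dd ss D S = true → go C m k O (dd : ℤ) (ss : ℤ) D S = true
  | 0, O, dd, ss, D, S, h => h
  | k + 1, O, dd, ss, D, S, h => by
    induction O with
    | nil => simp [go]
    | cons o os ihO =>
      change cond (Nat.ble (1 + (dd + (enc o).1)) 10200960)
        (cond (Nat.ble (1 + (ss + (enc o).2.1) + 484 * k) C)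
          (cond (fast C m k ((o :: os).map enc) (dd + (enc o).1) (ss + (enc o).2.1)
            (D + o.1) (S + o.2)) (fast C m (k + 1) (os.map enc) dd ss D S) false)
          (fast C m (k + 1) (os.map enc) dd ss D S))
        (fast C m (k + 1) (os.map enc) dd ss D S) = true at h
      have e1 : (((enc o).1 : ℕ) : ℤ) = o.1 * o.1 := by
        simp only [enc]; push_cast; exact abs_mul_abs_self _
      have e2 : (((enc o).2.1 : ℕ) : ℤ) = o.2 * o.2 := by
        simp only [enc]; push_cast; exact abs_mul_abs_self _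
      have hacc : fast C m (k + 1) (os.map enc) dd ss D S = true := by
        revert h
        cases Nat.ble (1 + (dd + (enc o).1)) 10200960 <;>
          cases Nat.ble (1 + (ss + (enc o).2.1) + 484 * k) C <;>
          cases fast C m k ((o :: os).map enc) (dd + (enc o).1) (ss + (enc o).2.1)
            (D + o.1) (S + o.2) <;> simp
      have hos := ihO hacc
      rw [go, List.all_eq_true] at hos ⊢
      intro l hl
      rw [List.tails_cons, List.mem_cons] at hl
      rcases hl with rfl | hl
      · simp only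
        split_ifs with hc
        swap
        · rfl
        · obtain ⟨c1, c2⟩ := hc
          rw [← e1] at c1
          rw [← e2] at c2
          rw [Nat.ble_eq_true_of_le (show 1 + (dd + (enc o).1) ≤ 10200960 by omega),
            Nat.ble_eq_true_of_le (show 1 + (ss + (enc o).2.1) + 484 * k ≤ C by omega), hacc] at h
          have h' : fast C m k ((o :: os).map enc) (dd + (enc o).1) (ss + (enc o).2.1)
              (D + o.1) (S + o.2) = true := by simpa using h
          have := go_of_fast k (o :: os) _ _ _ _ h'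
          rw [Nat.cast_add, Nat.cast_add, e1, e2] at this
          exact this
      · exact hos l hl

/-- The fast search. -/
noncomputable def fastSearch (C m n : ℕ) : Bool := fast C m n ((opts C).map enc) 0 0 0 0

theorem search_of_fast {m n : ℕ} {L : List ℕ} (h : L.all (fun C => fastSearch C m n) = true) :
    L.all (fun C => search C m n) = true := by
  rw [List.all_eq_true] at h ⊢
  exact fun C hC => by simpa [search] using go_of_fast n (opts C) 0 0 0 0 (h C hC)

-- one kernel computation at a time, to bound the memory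
set_option Elab.async false

theorem fast_eleven : centList.all (fun C => fastSearch C 2 10) = true := by decide +kernel

theorem fast_twentytwo_one : (centList.take 56).all (fun C => fastSearch C 0 22) = true := by
  decide +kernel

theorem fast_twentytwo_two :
    ((centList.drop 56).take 56).all (fun C => fastSearch C 0 22) = true := by
  decide +kernel

theorem fast_twentytwo_three : (centList.drop 112).all (fun C => fastSearch C 0 22) = true := by
  decide +kernel

theorem search_eleven : centList.all (fun C => search C 2 10) = true := search_of_fast fast_eleven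

theorem search_twentytwo : centList.all (fun C => search C 0 22) = true := by
  refine search_of_fast ?_
  rw [show centList = centList.take 56 ++ ((centList.drop 56).take 56 ++ centList.drop 112) by
      rw [← List.append_assoc, ← List.take_add, List.take_append_drop],
    List.all_append, List.all_append, fast_twentytwo_one, fast_twentytwo_two, fast_twentytwo_three]
  rfl

end CfsgLib.M23Order.TwentyThreeArith
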