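import Cfsg.Agent.Lib.M23Order.Interface
import Cfsg.Agent.Lib.M23Order.TwentyThreeArith
import Cfsg.Agent.Lib.M12Order.Tools
import Cfsg.Agent.Lib.M12Order.FiveEvenTools
import Cfsg.Agent.Lib.Small.Order7920

/-!
# Simple groups of order 10200960: the Sylow subgroups of order twenty-three

The values of the principal block at an involution centralizing a Sylow subgroup of order
twenty-three do not exist; the two odd orders left for the centralizer fail by the zeros of
characters at elements of order three, five and seven (piece A of `tools/S1664_plan.md`).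
-/

set_option autoImplicit false
set_option linter.style.haveILetI false
set_option linter.unusedSectionVars false

open Cfsg CfsgLib.Chars CfsgLib.CharApps CfsgLib.Blocks CfsgLib.Small

namespace CfsgLib.M23Order.TwentyThree

open CfsgLib.M23Order.TwentyThreeArith

universe u

section Arith

set_option maxRecDepth 100000
set_option synthInstance.maxHeartbeats 100000
set_option synthInstance.maxSize 4096

theorem ne_degree_list : ∀ d < (3195 : ℕ), d ∣ 10200960 → d ≠ 1 → (d % 23 = 1 ∨ d % 23 = 22) →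
    d ∈ neDegs := by
  decide +kernel

theorem signed_mem : ∀ d ∈ neDegs,
    (d % 23 = 1 → (d : ℤ) ∈ signedDegs) ∧ (d % 23 = 22 → -(d : ℤ) ∈ signedDegs) := by
  decide +kernel

theorem even_of_coprime : ∀ d ∈ neDegs, ¬ 5 ∣ d → ¬ 7 ∣ d → 2 ∣ d := by decide +kernel

theorem odd_cases : ∀ c ∈ Nat.divisors 3465, ∀ e ∈ ([2, 11, 22] : List ℕ), c * e ∣ 443520 →
    443520 / (c * e) % 23 = 1 → 443520 / (c * e) ≠ 1 →
    (e = 11 ∧ c = 1) ∨ (e = 22 ∧ c = 35) ∨ (e = 2 ∧ (c = 63 ∨ c = 385)) := by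
  decide +kernel

theorem two_list : ∀ d ∈ neDegs, ∀ s ∈ ([1, -1] : List ℤ), (s * (d : ℤ) - 1) % 23 = 0 →
    2 ≤ (1 + s * (d : ℤ)).natAbs → 10200960 % (1 + s * (d : ℤ)).natAbs = 0 →
    1 + d * d + 11 * ((1 + s * (d : ℤ)).natAbs * (1 + s * (d : ℤ)).natAbs) ≤ 10200960 →
    (d = 22 ∧ (1 + s * (d : ℤ)).natAbs = 21) ∨ d = 45 := by
  decide +kernel

end Arith

variable {G : Type u} [Group G] [Finite G] [IsSimpleGroup G] (hG : Nat.card G = 10200960)

include hG

theorem nonabelian : ¬ IsMulCommutative G := not_isMulCommutative_of_card (by rw [hG]; norm_num)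

theorem principal_deg : charDegree (principal G : G → ℂ) = 1 :=
  (deg_eq_one_iff (principal G)).mp (principal_apply _)

theorem eq_principal_of_one {χ : IrrCharacter G} (h : charDegree (χ : G → ℂ) = 1) : χ = principal G :=
  eq_of_degree_one (nonabelian hG) h (principal_deg hG)

theorem degree_facts (χ : IrrCharacter G) :
    charDegree (χ : G → ℂ) < 3195 ∧ charDegree (χ : G → ℂ) ∣ 10200960 ∧
      0 < charDegree (χ : G → ℂ) := by
  classical
  refine ⟨?_, hG ▸ charDegree_dvd_card χ, CfsgLib.Blocks.charDegree_pos χ⟩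
  haveI := irrFintype G
  have h := sum_degree_sq_nat (G := G)
  rw [← Finset.add_sum_erase _ _ (Finset.mem_univ χ), hG] at h
  by_contra hlt
  have := Nat.pow_le_pow_left (not_lt.1 hlt) 2
  norm_num at this
  omega

/-- An integral value at a nontrivial involution. -/
theorem involution_value {t : G} (ht : t * t = 1) (ht1 : t ≠ 1) (χ : IrrCharacter G)
    (hne : charDegree (χ : G → ℂ) ≠ 1) :
    ∃ m : ℤ, (m : ℂ) = (χ : G → ℂ) t ∧ (4 : ℤ) ∣ (charDegree (χ : G → ℂ) : ℤ) - m ∧
      -(charDegree (χ : G → ℂ) : ℤ) ≤ m ∧ m < (charDegree (χ : G → ℂ) : ℤ) := by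
  haveI := Fintype.ofFinite G
  obtain ⟨m, hm⟩ := exists_int_apply_involution ht χ
  have hK : ∀ K : Subgroup G, K.Normal → t ∈ K → K = ⊤ := fun K hK htK =>
    hK.eq_bot_or_eq_top.resolve_left fun h => ht1 (by rwa [h, Subgroup.mem_bot] at htK)
  have h1 := apply_ne_degree hK χ (fun h => hne (h ▸ principal_deg hG))
  rw [← hm, deg_eq] at h1
  have h2 := char_norm_le (isCharacter_of_irr χ.2) t
  rw [← hm, deg_eq, Complex.norm_intCast, Complex.natCast_re] at h2
  have h3 : |m| ≤ (charDegree (χ : G → ℂ) : ℤ) := by exact_mod_cast h2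
  have h4 : m ≠ (charDegree (χ : G → ℂ) : ℤ) := fun h =>
    h1 (by exact_mod_cast congrArg (Int.cast : ℤ → ℂ) h)
  obtain ⟨h5, h6⟩ := abs_le.1 h3
  exact ⟨m, hm, four_dvd_degree_sub (commutator_eq_top (nonabelian hG)) χ ht hm, h5, lt_of_le_of_ne h6 h4⟩

/-- The facts on one character of the principal block at an involution of the centralizer. -/
theorem value_facts {t : G} (ht : t * t = 1) (ht1 : t ≠ 1) (hC : 23 ∣ Nat.card (cen t))
    {M : Ideal AlgInt} (hM : IsPModular 23 M) {χ : IrrCharacter G} (hB : χ ∈ principalBlock M G)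
    (hne : χ ≠ principal G) (hnd : ¬ 23 ∣ charDegree (χ : G → ℂ)) :
    ∃ m : ℤ, (m : ℂ) = (χ : G → ℂ) t ∧ (92 : ℤ) ∣ (charDegree (χ : G → ℂ) : ℤ) - m ∧
      m.natAbs < charDegree (χ : G → ℂ) := by
  haveI := Fact.mk (show Nat.Prime 23 by norm_num)
  obtain ⟨m, hm, h4, hlo, hhi⟩ := involution_value hG ht ht1 χ fun h => hne (eq_principal_of_one hG h)
  have h23 := int_congr_of_principalBlock hM (by rw [hG]; norm_num) hB hC hm
  have hnd' : ¬ (23 : ℤ) ∣ (charDegree (χ : G → ℂ) : ℤ) := by exact_mod_cast hnd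
  exact ⟨m, hm, by omega, by omega⟩

/-- A small degree rules out involutions. -/
theorem false_of_small {t : G} (ht : t * t = 1) (ht1 : t ≠ 1) (hC : 23 ∣ Nat.card (cen t))
    {M : Ideal AlgInt} (hM : IsPModular 23 M) {χ : IrrCharacter G} (hB : χ ∈ principalBlock M G)
    (hne : χ ≠ principal G) (hnd : ¬ 23 ∣ charDegree (χ : G → ℂ))
    (hsmall : charDegree (χ : G → ℂ) < 47) : False := by
  obtain ⟨m, -, h92, hlt⟩ := value_facts hG ht ht1 hC hM hB hne hnd
  omega

/-- The values at an involution centralizing a Sylow subgroup do not exist. -/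
theorem false_of_signed {t : G} (ht : t * t = 1) (ht1 : t ≠ 1) (hC23 : 23 ∣ Nat.card (cen t))
    {M : Ideal AlgInt} (hM : IsPModular 23 M) {n m : ℕ}
    (hnm : (n = 10 ∧ m = 2) ∨ (n = 22 ∧ m = 0))
    (S Y : Finset (IrrCharacter G)) (hS : S.card = n) (hY : Y.card = m) (hdisj : Disjoint S Y)
    (hin' : ∀ χ, χ ∈ S ∨ χ ∈ Y → χ ∈ principalBlock M G ∧ χ ≠ principal G ∧ ¬ 23 ∣ charDegree (χ : G → ℂ))
    (s : IrrCharacter G → ℤ)
    (hs : ∀ χ ∈ S, (s χ = 1 ∨ s χ = -1) ∧ (s χ * (charDegree (χ : G → ℂ) : ℤ) - 1) % 23 = 0)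
    {ε : ℤ} (hε : ε = 1 ∨ ε = -1)
    (hTd : ∀ θ ∈ Y, ε * (charDegree (θ : G → ℂ) : ℤ) = 1 + ∑ χ ∈ S, s χ * (charDegree (χ : G → ℂ) : ℤ))
    (hTv : ∀ θ ∈ Y, (ε : ℂ) * (θ : G → ℂ) t = 1 + ∑ χ ∈ S, (s χ : ℂ) * (χ : G → ℂ) t)
    (h0d : m = 0 → 1 + ∑ χ ∈ S, s χ * (charDegree (χ : G → ℂ) : ℤ) = 0)
    (h0v : m = 0 → 1 + ∑ χ ∈ S, (s χ : ℂ) * (χ : G → ℂ) t = 0) : False := by
  classical
  haveI := Fintype.ofFinite G
  haveI := irrFintype G
  haveI := Fact.mk (show Nat.Prime 23 by norm_num)
  have hin : ∀ χ ∈ S ∪ Y, χ ∈ principalBlock M G ∧ χ ≠ principal G ∧ ¬ 23 ∣ charDegree (χ : G → ℂ) :=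
    fun χ hχ => hin' χ (Finset.mem_union.1 hχ)
  choose v hv using fun χ : IrrCharacter G => exists_int_apply_involution ht χ
  set C := Nat.card (cen t) with hC
  have hKC : (cen t).index * C = 10200960 := by rw [hC, mul_comm, Subgroup.card_mul_index, hG]
  have hK : (cen t).index = 10200960 / C := by
    rw [← hKC, Nat.mul_div_cancel _ Nat.card_pos]
  have hper : ∀ χ ∈ S ∪ Y, (92 : ℤ) ∣ (charDegree (χ : G → ℂ) : ℤ) - v χ ∧
      (v χ).natAbs < charDegree (χ : G → ℂ) ∧
      (charDegree (χ : G → ℂ) : ℤ) ∣ ((10200960 / C : ℕ) : ℤ) * v χ := by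
    intro χ hχ
    obtain ⟨hB, hne, hnd⟩ := hin χ hχ
    obtain ⟨j, hj, h92, hlt⟩ := value_facts hG ht ht1 hC23 hM hB hne hnd
    obtain rfl : j = v χ := by exact_mod_cast hj.trans (hv χ).symm
    have hkm := M12Order.dvd_index_mul χ (hv χ)
    rw [hK] at hkm
    exact ⟨h92, hlt, hkm⟩
  have hprin : principal G ∉ S ∪ Y := fun h => (hin _ h).2.1 rfl
  have hv1 : v (principal G) = 1 := by
    have h := hv (principal G)
    rw [principal_apply] at h
    exact_mod_cast h
  have hss : 1 + ∑ χ ∈ S, v χ * v χ + ∑ θ ∈ Y, v θ * v θ ≤ (C : ℤ) := by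
    have h := M12Order.sum_sq_le_card_cen (g := t) (insert (principal G) (S ∪ Y)) v fun χ _ => hv χ
    rw [Finset.sum_insert hprin, Finset.sum_union hdisj, hv1] at h
    simp only [pow_two] at h
    rw [hC]
    show _ ≤ ((Nat.card (cen t) : ℕ) : ℤ)
    linarith
  have hdd : 1 + ∑ χ ∈ S, (charDegree (χ : G → ℂ) : ℤ) * charDegree (χ : G → ℂ) +
      ∑ θ ∈ Y, (charDegree (θ : G → ℂ) : ℤ) * charDegree (θ : G → ℂ) ≤ 10200960 := by
    have h := sum_degree_sq_nat (G := G)
    have h' := Finset.sum_le_univ_sum_of_nonneg (s := insert (principal G) (S ∪ Y))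
      (f := fun χ : IrrCharacter G => charDegree (χ : G → ℂ) ^ 2) fun χ => Nat.zero_le _
    rw [h, hG, Finset.sum_insert hprin, Finset.sum_union hdisj, principal_deg hG] at h'
    have h2 : ((1 ^ 2 + (∑ χ ∈ S, charDegree (χ : G → ℂ) ^ 2 + ∑ θ ∈ Y, charDegree (θ : G → ℂ) ^ 2) : ℕ) : ℤ) ≤
        10200960 := by exact_mod_cast h'
    push_cast at h2
    simp only [pow_two] at h2
    linarith
  set l : List (ℤ × ℤ) := S.toList.map fun χ => (s χ * (charDegree (χ : G → ℂ) : ℤ), s χ * v χ) with hl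
  have htot : ∀ φ : ℤ × ℤ → ℤ, tot φ l = ∑ χ ∈ S, φ (s χ * (charDegree (χ : G → ℂ) : ℤ), s χ * v χ) := fun φ => by
    rw [tot, hl, List.map_map]
    exact Finset.sum_map_toList S _
  have hsgn : ∀ χ ∈ S, s χ * s χ = 1 := fun χ hχ => by rcases (hs χ hχ).1 with h | h <;> rw [h] <;> rfl
  have hmem : ∀ p ∈ l, p ∈ opts C ∧ 484 ≤ p.2 * p.2 := by
    intro p hp
    obtain ⟨χ, hχ, rfl⟩ := List.mem_map.1 hp
    rw [Finset.mem_toList] at hχ
    obtain ⟨h92, hlt, hkm⟩ := hper χ (Finset.mem_union_left _ hχ)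
    obtain ⟨hs1, hs2⟩ := hs χ hχ
    obtain ⟨hdlt, hddvd, -⟩ := degree_facts hG χ
    have hd := ne_degree_list _ hdlt hddvd
      (fun h => (hin χ (Finset.mem_union_left _ hχ)).2.1 (eq_principal_of_one hG h))
      (by rcases hs1 with h | h <;> rw [h] at hs2 <;> omega)
    obtain ⟨hp1, hn1⟩ := signed_mem _ hd
    have hsq' : v χ * v χ < (C : ℤ) := by
      have h1 := Finset.single_le_sum (f := fun χ : IrrCharacter G => v χ * v χ)
        (fun _ _ => mul_self_nonneg _) hχ
      have h2 : 0 ≤ ∑ θ ∈ Y, v θ * v θ := Finset.sum_nonneg fun _ _ => mul_self_nonneg _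
      omega
    rcases hs1 with h | h <;> rw [h] at hs2 ⊢
    · simp only [one_mul] at hs2 ⊢
      exact ⟨mem_opts (hp1 (by omega)) (by omega) (by omega) hsq' hkm,
        sq_ge (hp1 (by omega)) (by omega)⟩
    · simp only [neg_one_mul] at hs2 ⊢
      exact ⟨mem_opts (hn1 (by omega)) (by omega) (by omega) (by rwa [neg_mul_neg]) (by
        rw [mul_neg]; exact neg_dvd.2 (dvd_neg.2 hkm)), sq_ge (hn1 (by omega)) (by omega)⟩
  have hlen : l.length = n := by rw [hl, List.length_map, Finset.length_toList, hS]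
  have hd2 : tot (fun p => p.1 * p.1) l = ∑ χ ∈ S, (charDegree (χ : G → ℂ) : ℤ) * charDegree (χ : G → ℂ) := by
    rw [htot]
    exact Finset.sum_congr rfl fun χ hχ => by
      linear_combination ((charDegree (χ : G → ℂ) : ℤ) * charDegree (χ : G → ℂ)) * hsgn χ hχ
  have hu2 : tot (fun p => p.2 * p.2) l = ∑ χ ∈ S, v χ * v χ := by
    rw [htot]
    exact Finset.sum_congr rfl fun χ hχ => by linear_combination (v χ * v χ) * hsgn χ hχ
  have hvS : (1 + ∑ χ ∈ S, (s χ : ℂ) * (χ : G → ℂ) t) = ((1 + ∑ χ ∈ S, s χ * v χ : ℤ) : ℂ) := by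
    push_cast
    simp only [hv]
  have hTv' : ∀ θ ∈ Y, ε * v θ = 1 + ∑ χ ∈ S, s χ * v χ := fun θ hθ => by
    have h := hTv θ hθ
    rw [hvS, ← hv θ] at h
    exact_mod_cast h
  have hnonnegY1 : 0 ≤ ∑ θ ∈ Y, (charDegree (θ : G → ℂ) : ℤ) * charDegree (θ : G → ℂ) :=
    Finset.sum_nonneg fun _ _ => mul_self_nonneg _
  have hnonnegY2 : 0 ≤ ∑ θ ∈ Y, v θ * v θ := Finset.sum_nonneg fun _ _ => mul_self_nonneg _
  have hleaf : leaf C m (tot (fun p => p.1 * p.1) l) (tot (fun p => p.2 * p.2) l) (tot Prod.fst l)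
      (tot Prod.snd l) = false := by
    rw [hd2, hu2, htot Prod.fst, htot Prod.snd, leaf]
    dsimp only
    by_cases hm : m = 0
    · have h1 := h0d hm
      have h2 := h0v hm
      rw [hvS] at h2
      have h2' : (1 + ∑ χ ∈ S, s χ * v χ : ℤ) = 0 := by exact_mod_cast h2
      rw [if_pos hm, decide_eq_false_iff_not, not_not]
      exact ⟨h1, h2'⟩
    · obtain ⟨θ, hθ⟩ : Y.Nonempty := Finset.card_pos.1 (by omega)
      have hconstd : ∀ φ ∈ Y, (charDegree (φ : G → ℂ) : ℤ) * charDegree (φ : G → ℂ) =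
          (1 + ∑ χ ∈ S, s χ * (charDegree (χ : G → ℂ) : ℤ)) * (1 + ∑ χ ∈ S, s χ * (charDegree (χ : G → ℂ) : ℤ)) :=
        fun φ hφ => by rw [← hTd φ hφ]; rcases hε with h | h <;> rw [h] <;> ring
      have hconstv : ∀ φ ∈ Y, v φ * v φ = (1 + ∑ χ ∈ S, s χ * v χ) * (1 + ∑ χ ∈ S, s χ * v χ) :=
        fun φ hφ => by rw [← hTv' φ hφ]; rcases hε with h | h <;> rw [h] <;> ring
      rw [Finset.sum_congr rfl hconstd, Finset.sum_const, hY, nsmul_eq_mul] at hdd
      rw [Finset.sum_congr rfl hconstv, Finset.sum_const, hY, nsmul_eq_mul] at hss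
      obtain ⟨h92, hlt, hkm⟩ := hper θ (Finset.mem_union_right _ hθ)
      obtain ⟨-, hθd, hθ0⟩ := degree_facts hG θ
      have hθ1 : charDegree (θ : G → ℂ) ≠ 1 :=
        fun h => (hin θ (Finset.mem_union_right _ hθ)).2.1 (eq_principal_of_one hG h)
      have eT : (1 + ∑ χ ∈ S, s χ * (charDegree (χ : G → ℂ) : ℤ)).natAbs = charDegree (θ : G → ℂ) := by
        rw [← hTd θ hθ]; rcases hε with h | h <;> simp [h]
      have eW : (1 + ∑ χ ∈ S, s χ * v χ).natAbs = (v θ).natAbs := by
        rw [← hTv' θ hθ]; rcases hε with h | h <;> simp [h]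
      rw [if_neg hm, decide_eq_false_iff_not, not_not]
      refine ⟨by rw [eT]; omega, by rw [eT]; exact Nat.mod_eq_zero_of_dvd hθd, by rw [eT, eW]; omega, hdd, hss, ?_, ?_⟩
      · rw [← hTd θ hθ, ← hTv' θ hθ]
        rcases hε with h | h <;> rw [h] <;> omega
      · rw [← hTd θ hθ, ← hTv' θ hθ]
        rcases hε with h | h <;> rw [h]
        · simpa using hkm
        · simpa [mul_neg, neg_dvd, dvd_neg] using hkm
  have hCmem : C ∈ centList := by
    have h2 : 2 ∣ C := by
      have := Subgroup.orderOf_dvd_natCard (cen t) (Subgroup.mem_centralizer_singleton_iff.2 rfl : t ∈ cen t)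
      rwa [orderOf_eq_prime (p := 2) (by rw [pow_two, ht]) ht1] at this
    obtain ⟨j, hj⟩ := (by norm_num : Nat.Coprime 2 23).mul_dvd_of_dvd_of_dvd h2 hC23
    rw [hj]
    refine mem_centList ?_
    have hd : 46 * j ∣ 46 * 221760 := by
      rw [show 46 * 221760 = 10200960 by norm_num]
      exact ⟨(cen t).index, by rw [← hKC, hj]; ring⟩
    exact Nat.dvd_of_mul_dvd_mul_left (by norm_num) hd
  have hfalse : search C m n ≠ true := fun h => by
    have := go_sound n (opts C) 0 0 0 0 h l hlen (fun p hp => (hmem p hp).1) (fun p hp => (hmem p hp).2)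
      (by rw [hd2]; linarith) (by rw [hu2]; linarith)
    simp only [zero_add] at this
    rw [hleaf] at this
    exact Bool.false_ne_true this
  rcases hnm with ⟨rfl, rfl⟩ | ⟨rfl, rfl⟩
  · exact hfalse (List.all_eq_true.1 search_eleven C hCmem)
  · exact hfalse (List.all_eq_true.1 search_twentytwo C hCmem)

/-- No element of `V` has an order `p` at which a block character has defect zero. -/
theorem false_of_zero {M : Ideal AlgInt} (hM : IsPModular 23 M) {V : Subgroup G}
    (hcen : ∀ y ∈ V, 23 ∣ Nat.card (cen y)) (φ : IrrCharacter G) (p j : ℕ) (hφ : φ ∈ principalBlock M G)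
    (hp : p.Prime) (hpV : p ∣ Nat.card V) (hj : p ^ j ∣ 10200960) (hj' : ¬ p ^ (j + 1) ∣ 10200960)
    (hdj : p ^ j ∣ charDegree (φ : G → ℂ)) (hnd : ¬ 23 ∣ charDegree (φ : G → ℂ)) : False := by
  haveI := Fact.mk hp
  haveI := Fact.mk (show Nat.Prime 23 by norm_num)
  haveI := hM.2.1.isPrime
  obtain ⟨⟨y, hyV⟩, hy⟩ := exists_prime_orderOf_dvd_card' (G := V) p hpV
  rw [Subgroup.orderOf_mk] at hy
  have h0 : (φ : G → ℂ) y = 0 :=
    M12Order.FiveEven.apply_eq_zero hp φ (hG ▸ hj) (hG ▸ hj') hdj (by rw [hy])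
  have h := int_congr_of_principalBlock hM (by rw [hG]; norm_num) hφ (hcen y hyV) (m := 0)
    (by rw [h0, Int.cast_zero])
  rw [zero_sub, dvd_neg] at h
  exact hnd (by exact_mod_cast h)

variable (P : Sylow 23 G) (hP : Nat.card (P : Subgroup G) = 23)

include hP

/-- The centralizer is the Sylow subgroup itself, the normalizer has order 253. -/
theorem sylow_data :
    Subgroup.centralizer ((P : Subgroup G) : Set G) = (P : Subgroup G) ∧
      Nat.card (Subgroup.normalizer ((P : Subgroup G) : Set G)) = 253 := by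
  classical
  haveI := Fact.mk (show Nat.Prime 23 by norm_num)
  haveI := Fintype.ofFinite G
  haveI := irrFintype G
  have hn := nonabelian hG
  obtain ⟨e, he1, hed, hce⟩ := exists_normalizer_centralizer hn P hP
  obtain ⟨c, hc⟩ := dvd_card_centralizer P hP
  have hmul := card_normalizer_mul P
  rw [← hce, hc, hG, mul_assoc, mul_assoc] at hmul
  set n := Nat.card (Sylow 23 G) with hndef
  have hmul' : c * (e * n) = 443520 := by omega
  have he : e = 2 ∨ e = 11 ∨ e = 22 := by
    have h := Nat.le_of_dvd (by norm_num) hed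
    norm_num at hed h
    interval_cases e <;> omega
  have hn1 : 1 < n := one_lt_card_sylow hn (by rw [hG]; norm_num)
  have hcases : 2 ∣ c ∨ (e = 11 ∧ c = 1) ∨ (e = 22 ∧ c = 35) ∨ (e = 2 ∧ (c = 63 ∨ c = 385)) := by
    refine (em (2 ∣ c)).imp_right fun h2 => ?_
    have hcd : c ∣ 3465 := ((Nat.Coprime.pow_right 7
      (Nat.coprime_comm.1 ((Nat.Prime.coprime_iff_not_dvd Nat.prime_two).2 h2))).dvd_of_dvd_mul_left
      (show c ∣ 2 ^ 7 * 3465 from ⟨e * n, by rw [hmul']⟩))
    have hdvd : c * e ∣ 443520 := ⟨n, by rw [← hmul']; ring⟩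
    have hdiv : 443520 / (c * e) = n := by
      rw [← hmul', ← mul_assoc, Nat.mul_div_cancel_left _ (Nat.pos_of_ne_zero fun h => by
        rw [← mul_assoc, h, zero_mul] at hmul'; omega)]
    exact odd_cases c (Nat.mem_divisors.2 ⟨hcd, by norm_num⟩) e (by simpa using he) hdvd
      (by rw [hdiv]; exact card_sylow_modEq_one 23 G) (by rw [hdiv]; omega)
  have hN : Nat.card (Subgroup.normalizer ((P : Subgroup G) : Set G)) = 23 * c * e := by rw [← hce, hc]
  haveI hcyc := (isCyclic_of_prime_card hP).isMulCommutative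
  by_cases h11 : e = 11 ∧ c = 1
  · obtain ⟨rfl, rfl⟩ := h11
    exact ⟨(Subgroup.eq_of_le_of_card_ge (Subgroup.le_centralizer _) (by rw [hc, hP])).symm, hN⟩
  exfalso
  obtain ⟨M, hM⟩ := CharApps.exists_pModular (p := 23)
  haveI := hM.2.1.isPrime
  have hrel' : (Subgroup.centralizer ((P : Subgroup G) : Set G)).relIndex
      (Subgroup.normalizer ((P : Subgroup G) : Set G)) = e := by
    have hle : Subgroup.centralizer ((P : Subgroup G) : Set G) ≤
        Subgroup.normalizer ((P : Subgroup G) : Set G) := Subgroup.centralizer_le_normalizer _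
    have h := Subgroup.relIndex_mul_relIndex _ _ _ bot_le hle
    rw [Subgroup.relIndex_bot_left, Subgroup.relIndex_bot_left, ← hce] at h
    exact Nat.eq_of_mul_eq_mul_left Nat.card_pos h
  obtain ⟨X, Y, σ, ε, hB, hdisj, hX, hY, hXp, hε, hYd, hYeq, hrel⟩ :=
    Small.O7920.exists_block_data (by norm_num) hM P hP hrel'
  have h1one : ¬ 23 ∣ orderOf (1 : G) := by rw [orderOf_one]; norm_num
  have hXmod : ∀ χ ∈ X, (σ χ = 1 ∨ σ χ = -1) ∧
      (σ χ * (charDegree (χ : G → ℂ) : ℤ) - 1) % 23 = 0 := fun χ hχ => by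
    have h := (hXp χ hχ).2.1
    rw [Int.modEq_iff_dvd] at h
    exact ⟨(hXp χ hχ).1, by omega⟩
  have hXnd : ∀ χ ∈ X, ¬ 23 ∣ charDegree (χ : G → ℂ) := fun χ hχ h => by
    obtain ⟨hs, hm⟩ := hXmod χ hχ
    rcases hs with h' | h' <;> rw [h'] at hm <;> omega
  have hYnd : ∀ θ ∈ Y, ¬ 23 ∣ charDegree (θ : G → ℂ) := fun θ hθ h => by
    have h' := hYd θ hθ
    rw [Int.modEq_iff_dvd] at h'
    rcases hε with h'' | h'' <;> rw [h''] at h' <;> rcases he with rfl | rfl | rfl <;> omega
  have hσp : ∀ h : principal G ∈ X, σ (principal G) = 1 := fun h => by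
    have h' := (hXmod _ h).2
    rw [principal_deg hG] at h'
    rcases (hXmod _ h).1 with h'' | h'' <;> rw [h''] at h' ⊢ <;> omega
  have hcen : ∀ y ∈ Subgroup.centralizer ((P : Subgroup G) : Set G), 23 ∣ Nat.card (cen y) := by
    intro y hy
    rw [← hP]
    exact Subgroup.card_dvd_of_le fun x hx =>
      Subgroup.mem_centralizer_singleton_iff.2 (Subgroup.mem_centralizer_iff.1 hy x hx)
  have hinv : 2 ∣ c → ∃ t : G, t * t = 1 ∧ t ≠ 1 ∧ 23 ∣ Nat.card (cen t) ∧ ¬ 23 ∣ orderOf t := by
    intro h2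
    haveI := Fact.mk Nat.prime_two
    obtain ⟨⟨t, htV⟩, hto⟩ := exists_prime_orderOf_dvd_card'
      (G := Subgroup.centralizer ((P : Subgroup G) : Set G)) 2 (by rw [hc]; exact h2.mul_left 23)
    rw [Subgroup.orderOf_mk] at hto
    exact ⟨t, by rw [← sq, ← hto, pow_orderOf_eq_one],
      fun h => by rw [h, orderOf_one] at hto; omega, hcen t htV, by rw [hto]; norm_num⟩
  have hpV : ∀ {p : ℕ}, p ∣ c → p ∣ Nat.card (Subgroup.centralizer ((P : Subgroup G) : Set G)) :=
    fun h => by rw [hc]; exact h.mul_left 23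
  obtain ⟨θ, hθ⟩ : Y.Nonempty := Finset.card_pos.1 (by rw [hY]; rcases he with rfl | rfl | rfl <;> norm_num)
  have hTd : ∀ φ ∈ Y, ε * (charDegree (φ : G → ℂ) : ℤ) = ∑ χ ∈ X, σ χ * (charDegree (χ : G → ℂ) : ℤ) :=
    fun φ hφ => by
      have h := hrel φ hφ 1 h1one
      simp only [deg_eq] at h
      exact_mod_cast h
  by_cases h22 : e = 22
  · subst h22
    obtain ⟨φ, hφ⟩ := Finset.card_eq_one.1 (show Y.card = 1 by rw [hY])
    -- twenty-two signed characters adding up to minus one
    obtain ⟨S, s, hS, hin, hs, hzero⟩ : ∃ (S : Finset (IrrCharacter G)) (s : IrrCharacter G → ℤ),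
        S.card = 22 ∧ (∀ χ ∈ S, χ ∈ principalBlock M G ∧ χ ≠ principal G ∧
          ¬ 23 ∣ charDegree (χ : G → ℂ)) ∧
        (∀ χ ∈ S, (s χ = 1 ∨ s χ = -1) ∧ (s χ * (charDegree (χ : G → ℂ) : ℤ) - 1) % 23 = 0) ∧
        ∀ g : G, ¬ 23 ∣ orderOf g → 1 + ∑ χ ∈ S, (s χ : ℂ) * (χ : G → ℂ) g = 0 := by
      by_cases hmem : principal G ∈ Y
      · have hθ1 : θ = principal G := by
          rw [hφ, Finset.mem_singleton] at hmem hθ
          rw [hθ, hmem]
        have hy := hYd θ hθ
        rw [Int.modEq_iff_dvd, hθ1, principal_deg hG] at hy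
        have hε1 : ε = -1 := by rcases hε with h | h <;> rw [h] at hy ⊢ <;> omega
        refine ⟨X, σ, hX, fun χ hχ => ⟨(hB χ).2 (Or.inl hχ),
          fun h => Finset.disjoint_left.1 hdisj hχ (h ▸ hmem), hXnd χ hχ⟩, hXmod, fun g hg => ?_⟩
        rw [← hrel θ hθ g hg, hε1, hθ1, principal_apply]
        norm_num
      · have hprin : principal G ∈ X :=
          ((hB _).1 (CfsgLib.Blocks.principal_mem_principalBlock M)).resolve_right hmem
        have hθX : θ ∉ X := fun h => Finset.disjoint_left.1 hdisj h hθ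
        have hθX' : θ ∉ X.erase (principal G) := fun h => hθX (Finset.mem_of_mem_erase h)
        have hs' : ∀ χ ∈ X.erase (principal G), (if χ = θ then -ε else σ χ) = σ χ := fun χ hχ => by
          rw [if_neg fun e : χ = θ => hθX' (e ▸ hχ)]
        refine ⟨insert θ (X.erase (principal G)), fun χ => if χ = θ then -ε else σ χ, by
          rw [Finset.card_insert_of_notMem hθX', Finset.card_erase_of_mem hprin, hX], fun χ hχ => ?_,
          fun χ hχ => ?_, fun g hg => ?_⟩
        · rcases Finset.mem_insert.1 hχ with rfl | h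
          · exact ⟨(hB χ).2 (Or.inr hθ), fun h => hmem (h ▸ hθ), hYnd χ hθ⟩
          · exact ⟨(hB χ).2 (Or.inl (Finset.mem_of_mem_erase h)), Finset.ne_of_mem_erase h,
              hXnd χ (Finset.mem_of_mem_erase h)⟩
        · rcases Finset.mem_insert.1 hχ with rfl | h
          · have hy := hYd χ hθ
            rw [Int.modEq_iff_dvd] at hy
            simp only [if_true]
            rcases hε with h' | h' <;> rw [h'] at hy ⊢ <;> omega
          · beta_reduce
            rw [hs' χ h]
            exact hXmod χ (Finset.mem_of_mem_erase h)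
        · rw [Finset.sum_insert hθX']
          beta_reduce
          rw [if_pos rfl, Finset.sum_congr rfl fun χ hχ => by rw [hs' χ hχ]]
          have h1 := hrel θ hθ g hg
          rw [← Finset.add_sum_erase _ _ hprin, hσp hprin, principal_apply] at h1
          push_cast at h1 ⊢
          linear_combination -h1
    have hzd : 1 + ∑ χ ∈ S, s χ * (charDegree (χ : G → ℂ) : ℤ) = 0 := by
      have h := hzero 1 h1one
      simp only [deg_eq] at h
      exact_mod_cast h
    rcases hcases with h2 | ⟨h, -⟩ | ⟨-, rfl⟩ | ⟨h, -⟩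
    · obtain ⟨t, ht, ht1, htC, hto⟩ := hinv h2
      exact false_of_signed hG ht ht1 htC hM (n := 22) (m := 0) (Or.inr ⟨rfl, rfl⟩) S ∅ hS rfl
        (Finset.disjoint_empty_right S) (fun χ hχ => hin χ (by simpa using hχ)) s hs hε (by simp)
        (by simp) (fun _ => hzd) (fun _ => hzero t hto)
    · omega
    · -- no degree is divisible by five or seven, so all are even
      have h2 : (2 : ℤ) ∣ ∑ χ ∈ S, s χ * (charDegree (χ : G → ℂ) : ℤ) := by
        refine Finset.dvd_sum fun χ hχ => Dvd.dvd.mul_left ?_ _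
        obtain ⟨hχB, hχne, hχnd⟩ := hin χ hχ
        obtain ⟨hs1, hs2⟩ := hs χ hχ
        obtain ⟨hdlt, hddvd, -⟩ := degree_facts hG χ
        have hd := ne_degree_list _ hdlt hddvd (fun h => hχne (eq_principal_of_one hG h))
          (by rcases hs1 with h | h <;> rw [h] at hs2 <;> omega)
        have h5 : ¬ 5 ∣ charDegree (χ : G → ℂ) := fun h =>
          false_of_zero hG hM hcen χ 5 1 hχB (by norm_num) (hpV (by norm_num)) (by norm_num)
            (by norm_num) (by rw [pow_one]; exact h) hχnd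
        have h7 : ¬ 7 ∣ charDegree (χ : G → ℂ) := fun h =>
          false_of_zero hG hM hcen χ 7 1 hχB (by norm_num) (hpV (by norm_num)) (by norm_num)
            (by norm_num) (by rw [pow_one]; exact h) hχnd
        exact_mod_cast even_of_coprime _ hd h5 h7
      omega
    · omega
  · -- with more than one exceptional character the principal one is not exceptional
    have hpY : principal G ∉ Y := fun hmem => by
      have hY2 : 1 < Y.card := by rw [hY]; rcases he with rfl | rfl | rfl <;> omega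
      obtain ⟨a, ha, hane⟩ := Finset.exists_mem_ne hY2 (principal G)
      have h1 := hYeq a ha _ hmem 1 h1one
      rw [deg_eq, principal_apply, Nat.cast_eq_one] at h1
      exact hane (eq_principal_of_one hG h1)
    have hpX : principal G ∈ X :=
      ((hB _).1 (CfsgLib.Blocks.principal_mem_principalBlock M)).resolve_right hpY
    by_cases h2e : e = 2
    · subst h2e
      obtain ⟨χ, hχ⟩ := Finset.card_eq_one.1 (show (X.erase (principal G)).card = 1 by
        rw [Finset.card_erase_of_mem hpX, hX])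
      have hχe : χ ∈ X.erase (principal G) := hχ ▸ Finset.mem_singleton_self χ
      have hχX : χ ∈ X := Finset.mem_of_mem_erase hχe
      have hχp : χ ≠ principal G := Finset.ne_of_mem_erase hχe
      have hθp : θ ≠ principal G := fun h => hpY (h ▸ hθ)
      have hT := hTd θ hθ
      rw [← Finset.add_sum_erase _ _ hpX, hσp hpX, hχ, Finset.sum_singleton, principal_deg hG] at hT
      obtain ⟨hdlt, hddvd, -⟩ := degree_facts hG χ
      obtain ⟨-, hθdvd, hθ0⟩ := degree_facts hG θ
      obtain ⟨hs1, hs2⟩ := hXmod χ hχX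
      have hθ1 : charDegree (θ : G → ℂ) ≠ 1 := fun h => hθp (eq_principal_of_one hG h)
      have hmem := ne_degree_list _ hdlt hddvd (fun h => hχp (eq_principal_of_one hG h))
        (by rcases hs1 with h | h <;> rw [h] at hs2 <;> omega)
      have habs : (1 + σ χ * (charDegree (χ : G → ℂ) : ℤ)).natAbs = charDegree (θ : G → ℂ) := by
        rw [show (1 : ℤ) + σ χ * (charDegree (χ : G → ℂ) : ℤ) = ε * (charDegree (θ : G → ℂ) : ℤ) by
          rw [hT]; push_cast; ring]
        rcases hε with h | h <;> simp [h]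
      have hbound : 1 + charDegree (χ : G → ℂ) * charDegree (χ : G → ℂ) +
          11 * (charDegree (θ : G → ℂ) * charDegree (θ : G → ℂ)) ≤ 10200960 := by
        have h' := Finset.sum_le_univ_sum_of_nonneg (s := insert (principal G) (insert χ Y))
          (f := fun χ : IrrCharacter G => charDegree (χ : G → ℂ) ^ 2) fun χ => Nat.zero_le _
        rw [sum_degree_sq_nat (G := G), hG, Finset.sum_insert (by
            simp only [Finset.mem_insert, not_or]; exact ⟨hχp.symm, hpY⟩),
          Finset.sum_insert (fun h => Finset.disjoint_left.1 hdisj hχX h), principal_deg hG,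
          Finset.sum_congr rfl (g := fun _ => charDegree (θ : G → ℂ) ^ 2) fun φ hφ => by
            have h := hYeq φ hφ θ hθ 1 h1one
            simp only [deg_eq, Nat.cast_inj] at h
            rw [h],
          Finset.sum_const, hY, smul_eq_mul] at h'
        norm_num [pow_two] at h'
        omega
      have hlist := two_list _ hmem (σ χ) (by rcases hs1 with h | h <;> simp [h]) hs2 (by omega)
        (by rw [habs]; exact Nat.mod_eq_zero_of_dvd hθdvd) (by rw [habs]; exact hbound)
      have hχB : χ ∈ principalBlock M G := (hB χ).2 (Or.inl hχX)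
      have hθB : θ ∈ principalBlock M G := (hB θ).2 (Or.inr hθ)
      rcases hcases with h2 | ⟨h, -⟩ | ⟨h, -⟩ | ⟨-, hc'⟩
      · obtain ⟨t, ht, ht1, htC, -⟩ := hinv h2
        exact false_of_small hG ht ht1 htC hM hχB hχp (hXnd χ hχX)
          (by rcases hlist with ⟨h, -⟩ | h <;> omega)
      · omega
      · omega
      · rcases hlist with ⟨-, h21⟩ | h45
        · rw [habs] at h21
          exact false_of_zero hG hM hcen θ 7 1 hθB (by norm_num)
            (hpV (by rcases hc' with rfl | rfl <;> norm_num)) (by norm_num) (by norm_num)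
            (by rw [h21]; norm_num) (hYnd θ hθ)
        · rcases hc' with rfl | rfl
          · exact false_of_zero hG hM hcen χ 3 2 hχB (by norm_num) (hpV (by norm_num)) (by norm_num)
              (by norm_num) (by rw [h45]; norm_num) (hXnd χ hχX)
          · exact false_of_zero hG hM hcen χ 5 1 hχB (by norm_num) (hpV (by norm_num)) (by norm_num)
              (by norm_num) (by rw [h45]; norm_num) (hXnd χ hχX)
    · obtain rfl : e = 11 := (he.resolve_left h2e).resolve_right h22
      rcases hcases with h2 | h | ⟨h, -⟩ | ⟨h, -⟩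
      · obtain ⟨t, ht, ht1, htC, hto⟩ := hinv h2
        refine false_of_signed hG ht ht1 htC hM (n := 10) (m := 2) (Or.inl ⟨rfl, rfl⟩)
          (X.erase (principal G)) Y (by rw [Finset.card_erase_of_mem hpX, hX]) (by rw [hY])
          (hdisj.mono_left (Finset.erase_subset _ _)) (fun χ hχ => ?_) σ
          (fun χ hχ => hXmod χ (Finset.mem_of_mem_erase hχ)) hε
          (fun φ hφ => by rw [hTd φ hφ, ← Finset.add_sum_erase _ _ hpX, hσp hpX, principal_deg hG]; norm_num)
          (fun φ hφ => by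
            rw [hrel φ hφ t hto, ← Finset.add_sum_erase _ _ hpX, hσp hpX, principal_apply]; norm_num)
          (fun h0 => absurd h0 (by norm_num)) (fun h0 => absurd h0 (by norm_num))
        rcases hχ with h | h
        · exact ⟨(hB χ).2 (Or.inl (Finset.mem_of_mem_erase h)), Finset.ne_of_mem_erase h,
            hXnd χ (Finset.mem_of_mem_erase h)⟩
        · exact ⟨(hB χ).2 (Or.inr h), fun e' => hpY (e' ▸ h), hYnd χ h⟩
      · exact h11 h
      · omega
      · omega

end CfsgLib.M23Order.TwentyThree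

namespace CfsgLib.M23Order

universe u

/-- Piece A. -/
theorem twentyThree : TwentyThreeStmt.{u} := by
  intro G _ _ hs hG
  haveI := hs
  haveI := Fact.mk (show Nat.Prime 23 by norm_num)
  have hdata : ∀ P : Sylow 23 G, Nat.card (P : Subgroup G) = 23 := fun P =>
    (CfsgLib.Small.card_sylow_eq (p := 23) 1 443520 (by rw [hG]; norm_num) (by norm_num) P).trans (pow_one 23)
  refine ⟨fun x hx => ?_, fun P => (TwentyThree.sylow_data hG P (hdata P)).2⟩
  obtain ⟨P, hle⟩ := (IsPGroup.of_card (p := 23) (n := 1)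
    (show Nat.card (Subgroup.zpowers x) = 23 ^ 1 by
      rw [Nat.card_zpowers, hx, pow_one])).exists_le_sylow
  have hC := (TwentyThree.sylow_data hG P (hdata P)).1
  have hPz : Subgroup.zpowers x = (P : Subgroup G) :=
    Subgroup.eq_of_le_of_card_ge hle (by rw [hdata P, Nat.card_zpowers, hx])
  have hCx : cen x = Subgroup.centralizer (Subgroup.zpowers x : Set G) := by
    rw [Subgroup.zpowers_eq_closure, Subgroup.centralizer_closure]
  rw [hCx, hPz, hC, hdata P]

end CfsgLib.M23Order
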